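/-
The standard sum of squares, its monomial isometries, and elementary elements of the orthogonal frame stabiliser.
-/
import Cfsg.Agent.Lib.Classical22.OrthDecompBasic
import Cfsg.Agent.Lib.Classical.OrthDet

set_option autoImplicit false

namespace CfsgLib.Classical22.Frame

open CfsgLib.Classical
open scoped Matrix

variable {F : Type*} [Field F] {n : ℕ}

/-- The sum of squares. -/
noncomputable def sq (F : Type*) [Field F] (n : ℕ) : QuadraticForm F (Fin n → F) :=
  QuadraticMap.weightedSumSquares F (fun _ : Fin n => (1 : F))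

/-- The `i`-th unit vector. -/
def ax (i : Fin n) : Fin n → F := Pi.single i 1

theorem sq_apply (x : Fin n → F) : sq F n x = x ⬝ᵥ x := by
  simp [sq, QuadraticMap.weightedSumSquares_apply, dotProduct]

theorem polar_sq (x y : Fin n → F) : QuadraticMap.polar (sq F n) x y = 2 * (x ⬝ᵥ y) := by
  simp only [QuadraticMap.polar, sq_apply, add_dotProduct, dotProduct_add, dotProduct_comm y x]
  ring

theorem ax_dot (i : Fin n) (x : Fin n → F) : ax i ⬝ᵥ x = x i := single_one_dotProduct i x

theorem dot_ax (i : Fin n) (x : Fin n → F) : x ⬝ᵥ ax i = x i := dotProduct_single_one x i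

theorem ax_self (i : Fin n) : (ax i : Fin n → F) i = 1 := Pi.single_eq_same i 1

theorem ax_ne {i j : Fin n} (h : j ≠ i) : (ax i : Fin n → F) j = 0 := Pi.single_eq_of_ne h 1

theorem sq_ax (i : Fin n) : sq F n (ax i) = 1 := by rw [sq_apply, ax_dot, ax_self]

theorem sq_ax_ne (i : Fin n) : sq F n (ax i) ≠ 0 := by rw [sq_ax]; exact one_ne_zero

theorem ax_ne_zero (i : Fin n) : (ax i : Fin n → F) ≠ 0 := fun h => sq_ax_ne (F := F) i (by rw [h, map_zero])

theorem ax_injective : Function.Injective (ax (F := F) (n := n)) := fun i j h => by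
  by_contra hne
  exact one_ne_zero (α := F) (by rw [← ax_self (F := F) i, h, ax_ne hne])

theorem eq_sum_ax (x : Fin n → F) : x = ∑ i, x i • ax i := by
  simpa [ax] using pi_eq_sum_univ' x

theorem ext_dot {x y : Fin n → F} (h : ∀ z, x ⬝ᵥ z = y ⬝ᵥ z) : x = y :=
  funext fun i => by rw [← dot_ax i x, h, dot_ax]

theorem polarNondeg_sq (h2 : (2 : F) ≠ 0) : PolarNondeg (sq F n) := fun v hv => funext fun i => by
  have h := hv (ax i)
  rw [polar_sq, dot_ax] at h
  exact (mul_eq_zero.1 h).resolve_left h2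

section Two
variable (h2 : (2 : F) ≠ 0)
include h2

theorem iso_dot (g : qAut (sq F n)) (x y : Fin n → F) : g.1 x ⬝ᵥ g.1 y = x ⬝ᵥ y := by
  have h := qAut_polar g x y
  rw [polar_sq, polar_sq] at h
  exact mul_left_cancel₀ h2 h

theorem dot_inv (g : qAut (sq F n)) (x y : Fin n → F) : g.1 x ⬝ᵥ y = x ⬝ᵥ (g⁻¹).1 y := by
  rw [← iso_dot h2 g x, qApply_inv_self]

theorem apply_ax_eq (g : qAut (sq F n)) (i c : Fin n) : g.1 (ax i) c = (g⁻¹).1 (ax c) i := by
  rw [← dot_ax c (g.1 (ax i)), dot_inv h2, ax_dot]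

theorem refl_apply {v : Fin n → F} (hv : sq F n v ≠ 0) (x : Fin n → F) :
    (qRefl (sq F n) hv).1 x = x - (2 * (x ⬝ᵥ v) / (v ⬝ᵥ v)) • v := by
  rw [qRefl_apply, polar_sq, sq_apply, div_eq_inv_mul]

theorem eich_apply' {u w : Fin n → F} (hu : u ⬝ᵥ u = 0) (h : u ⬝ᵥ w = 0) (x : Fin n → F) :
    (eich (sq F n) u w).1 x = x + (2 * (x ⬝ᵥ u)) • w - (2 * (x ⬝ᵥ w) + (w ⬝ᵥ w) * (2 * (x ⬝ᵥ u))) • u := by
  rw [eich_apply _ (by rw [sq_apply, hu]) (by rw [polar_sq, h, mul_zero]), polar_sq, polar_sq, sq_apply]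

end Two

/-- An isometry is monomial. -/
def Mono (g : qAut (sq F n)) : Prop := ∀ i, ∃ (j : Fin n) (c : F), g.1 (ax i) = c • ax j

theorem mono_coeff {g : qAut (sq F n)} {i j : Fin n} {c : F} (h : g.1 (ax i) = c • ax j) : c * c = 1 := by
  have h1 := congrArg (sq F n) h
  rw [qAut_map, quad_smul, sq_ax, sq_ax, mul_one] at h1
  exact h1.symm

theorem mono_coeff_ne {g : qAut (sq F n)} {i j : Fin n} {c : F} (h : g.1 (ax i) = c • ax j) : c ≠ 0 := by
  rintro rfl
  simpa using mono_coeff h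

theorem mono_inv_apply {g : qAut (sq F n)} {i j : Fin n} {c : F} (h : g.1 (ax i) = c • ax j) :
    (g⁻¹).1 (ax j) = c • ax i := by
  have h1 := congrArg (fun x => c • (g⁻¹).1 x) h
  simp only [qInv_apply_self, map_smul, smul_smul, mono_coeff h, one_smul] at h1
  exact h1.symm

/-- The monomial isometries. -/
noncomputable def monoGroup (F : Type*) [Field F] (n : ℕ) : Subgroup (qAut (sq F n)) where
  carrier := {g | Mono g}
  one_mem' := fun i => ⟨i, 1, by rw [one_smul]; rfl⟩
  mul_mem' {a b} ha hb := fun i => by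
    obtain ⟨j, c, hj⟩ := hb i
    obtain ⟨k, d, hk⟩ := ha j
    exact ⟨k, c * d, by rw [qAut_mul_apply, hj, map_smul, hk, smul_smul]⟩
  inv_mem' {g} hg := by
    choose π c hπ using hg
    have hinj : Function.Injective π := by
      intro i i' h
      have h1 := mono_inv_apply (hπ i)
      have h2 := mono_inv_apply (hπ i')
      rw [h] at h1
      rw [h1] at h2
      by_contra hne
      have h3 := congrFun h2 i
      simp only [Pi.smul_apply, smul_eq_mul, ax_self, mul_one, ax_ne hne, mul_zero] at h3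
      exact mono_coeff_ne (hπ i) h3
    intro j
    obtain ⟨i, rfl⟩ := (Finite.injective_iff_surjective.1 hinj) j
    exact ⟨i, c i, mono_inv_apply (hπ i)⟩

theorem mem_monoGroup {g : qAut (sq F n)} : g ∈ monoGroup F n ↔ Mono g := Iff.rfl

/-- The support of a vector. -/
noncomputable def supp (v : Fin n → F) : Finset (Fin n) :=
  haveI := _root_.Classical.decEq F
  Finset.univ.filter fun i => v i ≠ 0

theorem mem_supp {v : Fin n → F} {i : Fin n} : i ∈ supp v ↔ v i ≠ 0 := by
  simp [supp]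

theorem notMem_supp {v : Fin n → F} {i : Fin n} : i ∉ supp v ↔ v i = 0 := by
  rw [mem_supp, not_not]

theorem eq_zero_of_supp {v : Fin n → F} {T : Finset (Fin n)} (h : supp v ⊆ T) {i : Fin n} (hi : i ∉ T) :
    v i = 0 := notMem_supp.1 fun h' => hi (h h')

theorem supp_subset {v : Fin n → F} {T : Finset (Fin n)} (h : ∀ i ∉ T, v i = 0) : supp v ⊆ T := fun i hi => by
  by_contra h'
  exact mem_supp.1 hi (h i h')

theorem supp_smul {v : Fin n → F} {c : F} (hc : c ≠ 0) : supp (c • v) = supp v := by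
  ext i
  simp [mem_supp, hc]

theorem supp_ax (i : Fin n) : supp (ax i : Fin n → F) = {i} := by
  ext j
  rw [mem_supp, Finset.mem_singleton]
  by_cases h : j = i
  · subst h; simp [ax_self]
  · simp [ax_ne h, h]

theorem dot_eq_sum {v w : Fin n → F} {T : Finset (Fin n)} (h : supp v ⊆ T) :
    v ⬝ᵥ w = ∑ i ∈ T, v i * w i :=
  (Finset.sum_subset (Finset.subset_univ T) fun i _ hi => by rw [eq_zero_of_supp h hi, zero_mul]).symm

theorem dot_eq_zero_of_disjoint {v w : Fin n → F} (h : ∀ i, v i = 0 ∨ w i = 0) : v ⬝ᵥ w = 0 :=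
  Finset.sum_eq_zero fun i _ => by rcases h i with h | h <;> rw [h] <;> ring

/-- The product of the transpositions `(a b)` and `(c d)` is an isometry; here the single transposition. -/
theorem sq_sub_ax {a b : Fin n} (h : a ≠ b) : sq F n (ax a - ax b) = 2 := by
  rw [sq_apply, sub_dotProduct, dotProduct_sub, dotProduct_sub, ax_dot, ax_dot, ax_dot, ax_dot, ax_self, ax_self,
    ax_ne h, ax_ne (Ne.symm h)]
  ring

/-- The transposition of two coordinates. -/
noncomputable def swp (h2 : (2 : F) ≠ 0) {a b : Fin n} (h : a ≠ b) : qAut (sq F n) :=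
  qRefl (sq F n) (show sq F n (ax a - ax b) ≠ 0 by rwa [sq_sub_ax h])

section Two
variable (h2 : (2 : F) ≠ 0) {a b : Fin n} (h : a ≠ b)

theorem swp_apply (x : Fin n → F) : (swp h2 h).1 x = x - (x a - x b) • (ax a - ax b) := by
  rw [swp, qRefl_apply, polar_sq, sq_sub_ax h, dotProduct_sub, dot_ax, dot_ax, inv_mul_cancel_left₀ h2]

theorem swp_left : (swp h2 h).1 (ax a : Fin n → F) = ax b := by
  rw [swp_apply, ax_self, ax_ne (Ne.symm h)]
  simp

theorem swp_right : (swp h2 h).1 (ax b : Fin n → F) = ax a := by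
  rw [swp_apply, ax_self, ax_ne h]
  simp

theorem swp_other {i : Fin n} (ha : a ≠ i) (hb : b ≠ i) : (swp h2 h).1 (ax i : Fin n → F) = ax i := by
  rw [swp_apply, ax_ne ha, ax_ne hb]
  simp

end Two

theorem refl_ax_self (i : Fin n) : (qRefl (sq F n) (sq_ax_ne i)).1 (ax i) = -ax i := qRefl_self _ _

theorem refl_ax_fix {i : Fin n} {x : Fin n → F} (hx : x i = 0) : (qRefl (sq F n) (sq_ax_ne i)).1 x = x :=
  qRefl_fix _ _ (by rw [polar_sq, dot_ax, hx, mul_zero])

theorem refl_ax_apply (h2 : (2 : F) ≠ 0) (i : Fin n) (x : Fin n → F) :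
    (qRefl (sq F n) (sq_ax_ne i)).1 x = x - (2 * x i) • ax i := by
  rw [refl_apply h2, dot_ax, ax_dot, ax_self, div_one]

end CfsgLib.Classical22.Frame
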