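/-
Eichler transformations of a sum of squares as products of two reflections; determinants; root groups inside a
subgroup.
-/
import Cfsg.Agent.Lib.Classical22.Frame.Base

set_option autoImplicit false

namespace CfsgLib.Classical22.Frame

open Cfsg CfsgLib.Classical
open scoped Matrix

variable {F : Type*} [Field F] {n : ℕ}

/-- The determinant of an isometry. -/
noncomputable def dt (g : qAut (sq F n)) : F := LinearMap.det g.1.toLinearMap

theorem dt_mul (g h : qAut (sq F n)) : dt (g * h) = dt g * dt h := by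
  rw [dt, dt, dt, ← map_mul]
  rfl

theorem dt_one : dt (1 : qAut (sq F n)) = 1 := LinearMap.det_id

theorem dt_pow (g : qAut (sq F n)) (m : ℕ) : dt (g ^ m) = dt g ^ m := by
  induction m with
  | zero => rw [pow_zero, pow_zero, dt_one]
  | succ m ih => rw [pow_succ, pow_succ, dt_mul, ih]

theorem dt_refl {v : Fin n → F} (hv : sq F n v ≠ 0) : dt (qRefl (sq F n) hv) = -1 := by
  have e : (qRefl (sq F n) hv).1.toLinearMap = Matrix.toLin' (reflectionMatrix (sq F n) v) :=
    LinearMap.ext fun x => by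
      rw [Matrix.toLin'_apply, reflectionMatrix_mulVec]
      exact qRefl_apply _ hv x
  rw [dt, e, LinearMap.det_toLin', det_reflectionMatrix _ hv]

theorem neg_one_ne_one (h2 : (2 : F) ≠ 0) : (-1 : F) ≠ 1 := fun h => h2 (by linear_combination -h)

section Two
variable (h2 : (2 : F) ≠ 0)
include h2

theorem refl_apply_fix {v : Fin n → F} (hv : sq F n v ≠ 0) {x : Fin n → F} (h : x ⬝ᵥ v = 0) :
    (qRefl (sq F n) hv).1 x = x := qRefl_fix _ _ (by rw [polar_sq, h, mul_zero])

/-- An Eichler transformation is a product of two reflections. -/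
theorem refl_refl_eich {x w : Fin n → F} (t : F) (hx : x ⬝ᵥ x = 0) (hxw : x ⬝ᵥ w = 0) (hw : sq F n w ≠ 0)
    (hwx : sq F n (w + t • x) ≠ 0) :
    qRefl (sq F n) hwx * qRefl (sq F n) hw = eich (sq F n) x ((-t / (w ⬝ᵥ w)) • w) := by
  refine qAut_ext fun z => ?_
  have hww : w ⬝ᵥ w ≠ 0 := by rwa [← sq_apply]
  have e : (w + t • x) ⬝ᵥ (w + t • x) = w ⬝ᵥ w := by
    simp only [add_dotProduct, dotProduct_add, smul_dotProduct, dotProduct_smul, dotProduct_comm w x, hxw, hx,
      smul_eq_mul]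
    ring
  rw [qAut_mul_apply, refl_apply h2 hw, refl_apply h2 hwx,
    eich_apply' h2 hx (by rw [dotProduct_smul, hxw, smul_zero]), e]
  simp only [sub_dotProduct, dotProduct_add, smul_dotProduct, dotProduct_smul, hxw, dotProduct_comm w x,
    smul_eq_mul, smul_add, smul_smul]
  match_scalars <;> field_simp <;> ring

theorem dt_eich_smul {x w : Fin n → F} (s : F) (hx : x ⬝ᵥ x = 0) (hxw : x ⬝ᵥ w = 0) (hw : sq F n w ≠ 0) :
    dt (eich (sq F n) x (s • w)) = 1 := by
  have hww : w ⬝ᵥ w ≠ 0 := by rwa [← sq_apply]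
  have hwx : sq F n (w + (-s * (w ⬝ᵥ w)) • x) ≠ 0 := by
    rw [sq_apply]
    simp only [add_dotProduct, dotProduct_add, smul_dotProduct, dotProduct_smul, dotProduct_comm w x, hxw, hx,
      smul_eq_mul]
    simpa using hww
  rw [show s = -(-s * (w ⬝ᵥ w)) / (w ⬝ᵥ w) by field_simp, ← refl_refl_eich h2 _ hx hxw hw hwx, dt_mul, dt_refl,
    dt_refl]
  ring

/-- The Eichler transformation moving one vector to another with the same norm and the same product with `x`. -/
theorem eich_shift {x v z : Fin n → F} (hx : x ⬝ᵥ x = 0) (hk : v ⬝ᵥ x ≠ 0) (hvz : z ⬝ᵥ x = v ⬝ᵥ x)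
    (hQ : z ⬝ᵥ z = v ⬝ᵥ v) :
    x ⬝ᵥ ((2 * (v ⬝ᵥ x))⁻¹ • (z - v)) = 0 ∧
      (eich (sq F n) x ((2 * (v ⬝ᵥ x))⁻¹ • (z - v))).1 v = z := by
  have h0 : x ⬝ᵥ ((2 * (v ⬝ᵥ x))⁻¹ • (z - v)) = 0 := by
    rw [dotProduct_smul, dotProduct_sub, dotProduct_comm x z, hvz, dotProduct_comm x v, sub_self, smul_zero]
  refine ⟨h0, ?_⟩
  rw [eich_apply' h2 hx h0]
  have hc : 2 * (v ⬝ᵥ ((2 * (v ⬝ᵥ x))⁻¹ • (z - v))) +
      ((2 * (v ⬝ᵥ x))⁻¹ • (z - v)) ⬝ᵥ ((2 * (v ⬝ᵥ x))⁻¹ • (z - v)) * (2 * (v ⬝ᵥ x)) = 0 := by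
    simp only [smul_dotProduct, dotProduct_smul, dotProduct_sub, sub_dotProduct, dotProduct_comm z v, hQ,
      smul_eq_mul]
    field_simp
    ring
  rw [hc, zero_smul, sub_zero, smul_smul, mul_inv_cancel₀ (mul_ne_zero h2 hk), one_smul, add_sub_cancel]

end Two

/-- The Eichler transformations at `x` in `G` are closed under sums and, over a prime field, multiples. -/
theorem eich_smul_mem [Fintype F] (hp : (Fintype.card F).Prime) {G : Subgroup (qAut (sq F n))} {x w : Fin n → F}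
    (hx : sq F n x = 0) (hxw : QuadraticMap.polar (sq F n) x w = 0) (h : eich (sq F n) x w ∈ G) (s : F) :
    eich (sq F n) x (s • w) ∈ G := by
  haveI : Fact (Fintype.card F).Prime := ⟨hp⟩
  haveI : CharP F (Fintype.card F) := by
    obtain ⟨p, hpc⟩ := CharP.exists F
    have hd : p ∣ Fintype.card F := (CharP.cast_eq_zero_iff F p _).1 (Nat.cast_card_eq_zero F)
    rcases (Nat.dvd_prime hp).1 hd with rfl | rfl
    · exact absurd (CharP.char_is_prime F 1) Nat.not_prime_one
    · exact hpc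
  obtain ⟨m, rfl⟩ : ∃ m : ℕ, (m : F) = s := by
    have hinj : Function.Injective fun m : Fin (Fintype.card F) => ((m : ℕ) : F) := fun a b hab =>
      Fin.ext (CharP.natCast_injOn_Iio F (Fintype.card F) a.2 b.2 hab)
    obtain ⟨m, hm⟩ := ((Fintype.bijective_iff_injective_and_card _).2
      ⟨hinj, Fintype.card_fin _⟩).2 s
    exact ⟨m, hm⟩
  clear * - h hx hxw
  induction m with
  | zero => rw [Nat.cast_zero, zero_smul, eich_zero _ hx]; exact G.one_mem
  | succ m ih =>
    rw [Nat.cast_succ, add_smul, one_smul, ← eich_mul _ hx (by rw [QuadraticMap.polar_smul_right, hxw, smul_zero])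
      hxw]
    exact G.mul_mem ih h

/-- An isometry fixing the hyperplane orthogonal to a singular vector is trivial. -/
theorem eq_one_of_fix_perp (h2 : (2 : F) ≠ 0) {x z : Fin n → F} (hzx : z ⬝ᵥ x ≠ 0) {g : qAut (sq F n)}
    (hfix : ∀ y, y ⬝ᵥ x = 0 → g.1 y = y) (hx : x ⬝ᵥ x = 0) : g = 1 := by
  have hgz : g.1 z = z := by
    obtain ⟨d, hd⟩ : ∃ d, d = g.1 z - z := ⟨_, rfl⟩
    have hd0 : ∀ y, y ⬝ᵥ x = 0 → d ⬝ᵥ y = 0 := fun y hy => by
      have h := iso_dot h2 g z y
      rw [hfix y hy] at h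
      rw [hd, sub_dotProduct, h, sub_self]
    obtain ⟨l, hl⟩ : ∃ l, d = l • x := by
      refine ⟨(d ⬝ᵥ z) / (z ⬝ᵥ x), ext_dot fun y => ?_⟩
      have h := hd0 (y - ((y ⬝ᵥ x) / (z ⬝ᵥ x)) • z) (by
        rw [sub_dotProduct, smul_dotProduct, smul_eq_mul, div_mul_cancel₀ _ hzx, sub_self])
      rw [dotProduct_sub, dotProduct_smul, sub_eq_zero, smul_eq_mul] at h
      rw [h, smul_dotProduct, smul_eq_mul, dotProduct_comm x y]
      ring
    have h := iso_dot h2 g z z
    rw [show g.1 z = z + l • x by rw [← hl, hd, add_sub_cancel]] at h ⊢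
    simp only [add_dotProduct, dotProduct_add, smul_dotProduct, dotProduct_smul, hx, dotProduct_comm x z,
      smul_eq_mul] at h
    have : l = 0 := (mul_eq_zero.1 (show l * (2 * (z ⬝ᵥ x)) = 0 by linear_combination h)).resolve_right
      (mul_ne_zero h2 hzx)
    rw [this, zero_smul, add_zero]
  refine qAut_ext fun y => ?_
  obtain ⟨c, hc⟩ : ∃ c, c = (y ⬝ᵥ x) / (z ⬝ᵥ x) := ⟨_, rfl⟩
  have h := hfix (y - c • z) (by
    rw [sub_dotProduct, smul_dotProduct, smul_eq_mul, hc, div_mul_cancel₀ _ hzx, sub_self])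
  rw [map_sub, map_smul, hgz, sub_left_inj] at h
  exact h

end CfsgLib.Classical22.Frame
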