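/-
Rotations in three variables: axes and the elements fixing a singular vector.
-/
import Cfsg.Agent.Lib.Classical22.Frame.Eich

set_option autoImplicit false

namespace CfsgLib.Classical22.Frame

open Cfsg CfsgLib.Classical
open scoped Matrix

variable {F : Type*} [Field F] {n : ℕ}

/-- Pairwise orthogonal anisotropic vectors, with possibly one more orthogonal vector, are independent. -/
theorem linearIndependent_orth {k : ℕ} (v : Fin k → Fin n → F) (hne : ∀ i, v i ⬝ᵥ v i ≠ 0)
    (ho : ∀ i j, i ≠ j → v i ⬝ᵥ v j = 0) : LinearIndependent F v := by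
  rw [Fintype.linearIndependent_iff]
  intro c hc i
  have h := congrArg (fun x => v i ⬝ᵥ x) hc
  simp only [dotProduct_sum, dotProduct_smul, smul_eq_mul, dotProduct_zero] at h
  rw [Finset.sum_eq_single i (fun j _ hj => by rw [ho i j (Ne.symm hj), mul_zero])
    (fun hi => absurd (Finset.mem_univ i) hi)] at h
  exact (mul_eq_zero.1 h).resolve_right (hne i)

/-- The vector `(0, -x c, x b)` on three given coordinates. -/
def perpVec (x : Fin n → F) (b c : Fin n) : Fin n → F := x b • ax c - x c • ax b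

theorem perpVec_dot (x : Fin n → F) (b c : Fin n) (u : Fin n → F) :
    perpVec x b c ⬝ᵥ u = x b * u c - x c * u b := by
  simp only [perpVec, sub_dotProduct, smul_dotProduct, ax_dot, smul_eq_mul]

theorem dot_triple {a b c : Fin n} (hab : a ≠ b) (hac : a ≠ c) (hbc : b ≠ c) {x : Fin n → F}
    (hx : supp x ⊆ {a, b, c}) (u : Fin n → F) : x ⬝ᵥ u = x a * u a + x b * u b + x c * u c := by
  rw [dot_eq_sum hx, Finset.sum_insert (by simp [hab, hac]), Finset.sum_insert (by simp [hbc]),
    Finset.sum_singleton, add_assoc]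

theorem perpVec_norm {a b c : Fin n} (hab : a ≠ b) (hac : a ≠ c) (hbc : b ≠ c) {x : Fin n → F}
    (hx : supp x ⊆ {a, b, c}) (hxx : x ⬝ᵥ x = 0) : perpVec x b c ⬝ᵥ perpVec x b c = -(x a * x a) := by
  rw [dot_triple hab hac hbc hx] at hxx
  rw [perpVec_dot]
  simp only [perpVec, Pi.sub_apply, Pi.smul_apply, smul_eq_mul, ax_self, ax_ne hbc, ax_ne (Ne.symm hbc)]
  linear_combination hxx

theorem perpVec_perp {a b c : Fin n} (hab : a ≠ b) (hac : a ≠ c) (hbc : b ≠ c) {x : Fin n → F}
    (hx : supp x ⊆ {a, b, c}) : x ⬝ᵥ perpVec x b c = 0 := by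
  rw [dotProduct_comm, perpVec_dot]
  ring

/-- The vectors of a triple orthogonal to a singular vector of the triple. -/
theorem eq_of_perp_triple {a b c : Fin n} (hab : a ≠ b) (hac : a ≠ c) (hbc : b ≠ c) {x u : Fin n → F}
    (hx : supp x ⊆ {a, b, c}) (hu : supp u ⊆ {a, b, c}) (hxx : x ⬝ᵥ x = 0) (hxu : x ⬝ᵥ u = 0) (hxa : x a ≠ 0) :
    ∃ s t : F, u = s • x + t • perpVec x b c := by
  rw [dot_triple hab hac hbc hx] at hxu hxx
  obtain ⟨s, hs⟩ : ∃ s, s = u a / x a := ⟨_, rfl⟩
  obtain ⟨D, hD⟩ : ∃ D, D = x b * x b + x c * x c := ⟨_, rfl⟩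
  have hD0 : D ≠ 0 := fun h => mul_ne_zero hxa hxa (by linear_combination hxx + hD - h)
  obtain ⟨t, ht⟩ : ∃ t, t = (x b * (u c - s * x c) - x c * (u b - s * x b)) / D := ⟨_, rfl⟩
  have htD : t * D = x b * (u c - s * x c) - x c * (u b - s * x b) := by rw [ht, div_mul_cancel₀ _ hD0]
  refine ⟨s, t, funext fun i => ?_⟩
  have h0 : x b * (u b - s * x b) + x c * (u c - s * x c) = 0 := by
    have hsa : s * x a = u a := by rw [hs, div_mul_cancel₀ _ hxa]
    linear_combination hxu - s * hxx + x a * hsa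
  simp only [perpVec, Pi.add_apply, Pi.smul_apply, Pi.sub_apply, smul_eq_mul]
  by_cases hi : i = a
  · subst hi
    rw [ax_ne (F := F) hac, ax_ne (F := F) hab, hs, div_mul_cancel₀ _ hxa]
    ring
  by_cases hi' : i = b
  · subst hi'
    rw [ax_self, ax_ne (F := F) hbc]
    refine sub_eq_zero.1 ((mul_eq_zero.1 (show (u i - (s * x i + t * (x i * 0 - x c * 1))) * D = 0 from ?_)).resolve_right hD0)
    linear_combination (x i) * h0 + x c * htD + (u i - s * x i) * hD
  by_cases hi'' : i = c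
  · subst hi''
    rw [ax_self, ax_ne (F := F) (Ne.symm hbc)]
    refine sub_eq_zero.1 ((mul_eq_zero.1 (show (u i - (s * x i + t * (x b * 1 - x i * 0))) * D = 0 from ?_)).resolve_right hD0)
    linear_combination (x i) * h0 - x b * htD + (u i - s * x i) * hD
  rw [eq_zero_of_supp hu (by simp [hi, hi', hi'']), eq_zero_of_supp hx (by simp [hi, hi', hi'']),
    ax_ne (F := F) hi', ax_ne (F := F) hi'']
  ring

section Three

variable (h2 : (2 : F) ≠ 0)
include h2

theorem supp_three (x : Fin 3 → F) : supp x ⊆ {(0 : Fin 3), 1, 2} := fun i _ => by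
  fin_cases i <;> simp

/-- An element of determinant one fixes a non-zero vector. -/
theorem exists_fixed {g : qAut (sq F 3)} (hg : dt g = 1) : ∃ a : Fin 3 → F, a ≠ 0 ∧ g.1 a = a := by
  obtain ⟨A, hA⟩ : ∃ A, A = LinearMap.toMatrix' g.1.toLinearMap := ⟨_, rfl⟩
  have hmul : ∀ x, A *ᵥ x = g.1 x := fun x => by rw [hA, LinearMap.toMatrix'_mulVec]; rfl
  have hdet : A.det = 1 := by rw [hA, LinearMap.det_toMatrix']; exact hg
  have hcol : ∀ i j, A i j = g.1 (ax j) i := fun i j => by
    rw [← hmul, ax, Matrix.mulVec_single_one]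
    rfl
  have horth : Aᵀ * A = 1 := by
    ext i j
    rw [Matrix.mul_apply]
    have h := iso_dot h2 g (ax i) (ax j)
    simp only [dotProduct, ← hcol] at h
    simp only [Matrix.transpose_apply]
    rw [h, show (∑ x, ax (F := F) i x * ax j x) = ax i ⬝ᵥ ax j from rfl, ax_dot]
    by_cases hij : i = j
    · subst hij; rw [ax_self, Matrix.one_apply_eq]
    · rw [ax_ne hij, Matrix.one_apply_ne hij]
  have h0 : (A - 1).det = 0 := by
    have h : Aᵀ * (A - 1) = -(A - 1)ᵀ := by
      rw [Matrix.mul_sub, horth, Matrix.mul_one, Matrix.transpose_sub, Matrix.transpose_one, neg_sub]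
    have hd := congrArg Matrix.det h
    rw [Matrix.det_mul, Matrix.det_transpose, hdet, Matrix.det_neg, Matrix.det_transpose, one_mul,
      Fintype.card_fin] at hd
    exact (mul_eq_zero.1 (show (2 : F) * (A - 1).det = 0 by linear_combination hd)).resolve_left h2
  obtain ⟨a, ha, ha'⟩ := Matrix.exists_mulVec_eq_zero_iff.2 h0
  exact ⟨a, ha, by rwa [Matrix.sub_mulVec, Matrix.one_mulVec, sub_eq_zero, hmul] at ha'⟩

/-- An element of determinant one fixing a singular vector is an Eichler transformation. -/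
theorem eich_of_fixed {g : qAut (sq F 3)} (hg : dt g = 1) {x : Fin 3 → F} (hx0 : x ≠ 0) (hxx : x ⬝ᵥ x = 0)
    (hgx : g.1 x = x) : ∃ y, x ⬝ᵥ y = 0 ∧ g = eich (sq F 3) x y := by
  obtain ⟨a, b, c, hab, hac, hbc, hT, hxa⟩ : ∃ a b c : Fin 3, a ≠ b ∧ a ≠ c ∧ b ≠ c ∧
      (∀ v : Fin 3 → F, supp v ⊆ {a, b, c}) ∧ x a ≠ 0 := by
    obtain ⟨a, ha⟩ : ∃ a, x a ≠ 0 := Function.ne_iff.1 hx0
    refine ⟨a, a + 1, a + 2, ?_, ?_, ?_, fun v i _ => ?_, ha⟩ <;> fin_cases a <;> first | decide | skip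
    all_goals fin_cases i <;> decide
  obtain ⟨w, hw⟩ : ∃ w, w = perpVec x b c := ⟨_, rfl⟩
  have hxw : x ⬝ᵥ w = 0 := hw ▸ perpVec_perp hab hac hbc (hT x)
  have hww : w ⬝ᵥ w ≠ 0 := by
    rw [hw, perpVec_norm hab hac hbc (hT x) hxx, neg_ne_zero]
    exact mul_ne_zero hxa hxa
  have hw0 : sq F 3 w ≠ 0 := by rwa [sq_apply]
  obtain ⟨α, β, hgw⟩ := eq_of_perp_triple hab hac hbc (hT x) (hT (g.1 w)) hxx (by
    have h := iso_dot h2 g x w
    rwa [hgx, hxw] at h) hxa
  rw [← hw] at hgw
  have hβ : β * β = 1 := by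
    have h := iso_dot h2 g w w
    rw [hgw] at h
    simp only [add_dotProduct, dotProduct_add, smul_dotProduct, dotProduct_smul, hxx, hxw,
      dotProduct_comm w x, smul_eq_mul] at h
    exact mul_right_cancel₀ hww (by linear_combination h)
  have key : ∀ g' : qAut (sq F 3), ∀ γ : F, g'.1 x = x → g'.1 w = γ • x + w →
      g' = eich (sq F 3) x ((-γ / (2 * (w ⬝ᵥ w))) • w) := by
    intro g' γ h1 h3
    obtain ⟨E, hE⟩ : ∃ E, E = eich (sq F 3) x ((-γ / (2 * (w ⬝ᵥ w))) • w) := ⟨_, rfl⟩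
    have hxs : x ⬝ᵥ ((-γ / (2 * (w ⬝ᵥ w))) • w) = 0 := by rw [dotProduct_smul, hxw, smul_zero]
    have hEx : E.1 x = x := by
      rw [hE]
      exact eich_fix _ (by rw [sq_apply, hxx]) (by rw [polar_sq, hxs, mul_zero])
    have hEw : E.1 w = γ • x + w := by
      rw [hE, eich_apply' h2 hxx hxs, dotProduct_comm w x, hxw]
      simp only [dotProduct_smul, smul_eq_mul, mul_zero, zero_smul, add_zero]
      match_scalars <;> field_simp
    have hz : ax a ⬝ᵥ x ≠ 0 := by rwa [ax_dot]
    have h := eq_one_of_fix_perp h2 hz (g := E⁻¹ * g') (fun y hy => ?_) hxx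
    · rw [← hE, inv_mul_eq_one.1 h]
    obtain ⟨s, t, rfl⟩ := eq_of_perp_triple hab hac hbc (hT x) (hT y) hxx (by rwa [dotProduct_comm]) hxa
    rw [← hw]
    have he : g'.1 (s • x + t • w) = E.1 (s • x + t • w) := by
      simp only [map_add, map_smul, hEx, hEw, h1, h3]
    rw [qAut_mul_apply, he, qInv_apply_self]
  rcases mul_self_eq_one_iff.1 hβ with rfl | rfl
  · exact ⟨_, by rw [dotProduct_smul, hxw, smul_zero], key g α hgx (by rw [hgw, one_smul])⟩
  · exfalso
    have h := key (g * qRefl (sq F 3) hw0) (-α)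
      (by rw [qAut_mul_apply, refl_apply_fix h2 hw0 hxw, hgx])
      (by rw [qAut_mul_apply, qRefl_self, map_neg, hgw]; module)
    have hd := congrArg dt h
    rw [dt_mul, dt_refl, hg, dt_eich_smul h2 _ hxx hxw hw0, one_mul] at hd
    exact neg_one_ne_one h2 hd

/-- An element of determinant one fixing two independent vectors, one of them anisotropic, is trivial or fixes a
singular vector. -/
theorem eq_one_of_two_fixed {g : qAut (sq F 3)} (hg : dt g = 1) {a b : Fin 3 → F} (ha : a ⬝ᵥ a ≠ 0)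
    (hb : b ⬝ᵥ b ≠ 0) (hab : a ⬝ᵥ b = 0) (hga : g.1 a = a) (hgb : g.1 b = b) : g = 1 := by
  obtain ⟨c, hc0, hca, hcb⟩ : ∃ c : Fin 3 → F, c ≠ 0 ∧ a ⬝ᵥ c = 0 ∧ b ⬝ᵥ c = 0 := by
    have hlt : (Matrix.of ![a, b]).mulVecLin.ker ≠ ⊥ := fun h => by
      have := LinearMap.finrank_le_finrank_of_injective (LinearMap.ker_eq_bot.1 h)
      simp at this
    obtain ⟨c, hc, hc0⟩ := Submodule.exists_mem_ne_zero_of_ne_bot hlt
    rw [LinearMap.mem_ker, Matrix.mulVecLin_apply] at hc
    exact ⟨c, hc0, by simpa [Matrix.mulVec] using congrFun hc 0, by simpa [Matrix.mulVec] using congrFun hc 1⟩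
  have hli : LinearIndependent F ![a, b, c] := by
    rw [Fintype.linearIndependent_iff]
    intro d hd
    simp only [Fin.sum_univ_three, Matrix.cons_val] at hd
    have h0 := congrArg (fun x => a ⬝ᵥ x) hd
    have h1 := congrArg (fun x => b ⬝ᵥ x) hd
    simp only [dotProduct_add, dotProduct_smul, hab, hca, hcb, dotProduct_comm b a, smul_eq_mul, mul_zero,
      add_zero, zero_add, dotProduct_zero, mul_eq_zero, ha, hb, or_false] at h0 h1
    rw [h0, h1, zero_smul, zero_smul, zero_add, zero_add, smul_eq_zero] at hd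
    intro i
    fin_cases i
    · exact h0
    · exact h1
    · exact hd.resolve_right hc0
  have htop : Submodule.span F (Set.range ![a, b, c]) = ⊤ :=
    hli.span_eq_top_of_card_eq_finrank (by simp)
  have hext : ∀ g g' : qAut (sq F 3), g.1 a = g'.1 a → g.1 b = g'.1 b → g.1 c = g'.1 c → g = g' :=
    fun g g' h0 h1 h3 => qAut_ext fun v => LinearMap.congr_fun (LinearMap.ext_on_range htop
      (f := g.1.toLinearMap) (g := g'.1.toLinearMap) fun i => by fin_cases i <;> assumption) v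
  have hmem : ∀ v, v ∈ Submodule.span F (Set.range ![a, b, c]) := fun v => htop ▸ Submodule.mem_top
  have hcc : c ⬝ᵥ c ≠ 0 := fun h => hc0 (ext_dot fun v => by
    obtain ⟨d, rfl⟩ := (Submodule.mem_span_range_iff_exists_fun F).1 (hmem v)
    simp [Fin.sum_univ_three, dotProduct_comm c a, dotProduct_comm c b, hca, hcb, h])
  obtain ⟨d, hd⟩ := (Submodule.mem_span_range_iff_exists_fun F).1 (hmem (g.1 c))
  simp only [Fin.sum_univ_three, Matrix.cons_val] at hd
  have h0 := iso_dot h2 g a c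
  have h1 := iso_dot h2 g b c
  rw [hga, ← hd] at h0
  rw [hgb, ← hd] at h1
  simp only [dotProduct_add, dotProduct_smul, hab, hca, hcb, dotProduct_comm b a, smul_eq_mul, mul_zero,
    add_zero, zero_add, mul_eq_zero, ha, hb, or_false] at h0 h1
  rw [h0, h1, zero_smul, zero_smul, zero_add, zero_add] at hd
  have hd2 : d 2 * d 2 = 1 := by
    have h := iso_dot h2 g c c
    rw [← hd, smul_dotProduct, dotProduct_smul, smul_eq_mul, smul_eq_mul, ← mul_assoc] at h
    exact mul_right_cancel₀ hcc (h.trans (one_mul _).symm)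
  rcases mul_self_eq_one_iff.1 hd2 with e | e
  · exact hext g 1 hga hgb (by rw [← hd, e, one_smul]; rfl)
  · exfalso
    have hsc : sq F 3 c ≠ 0 := by rwa [sq_apply]
    have he : g = qRefl (sq F 3) hsc := hext _ _ (by rw [hga, refl_apply_fix h2 hsc hca])
      (by rw [hgb, refl_apply_fix h2 hsc hcb]) (by rw [← hd, e, qRefl_self]; module)
    rw [he, dt_refl] at hg
    exact neg_one_ne_one h2 hg

end Three

end CfsgLib.Classical22.Frame
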