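/-
Counting the axes of a finite group of rotations in three variables.
-/
import Cfsg.Agent.Lib.Classical22.Frame.Rot

set_option autoImplicit false

namespace CfsgLib.Classical22.Frame

open Cfsg CfsgLib.Classical
open scoped Matrix

theorem two_orbit_arith {N o₁ m₁ o₂ m₂ σ : ℕ} (hN : 12 ≤ N) (hσ : σ = 1 ∨ σ = 2) (h1 : 2 * (o₁ * m₁) = N)
    (hm₁ : 2 ≤ m₁) (ho₁ : 3 ≤ o₁) (h₂ : σ * (o₂ * m₂) = N) (hm₂ : 2 ≤ m₂) (ho₂ : 2 ≤ o₂)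
    (hsum : o₁ * (m₁ - 1) + o₂ * (m₂ - 1) = N - 1) : N = 12 := by
  rw [Nat.mul_sub_one, Nat.mul_sub_one] at hsum
  have e1 : o₁ * 2 ≤ o₁ * m₁ := Nat.mul_le_mul_left _ hm₁
  have e2 : o₂ * 2 ≤ o₂ * m₂ := Nat.mul_le_mul_left _ hm₂
  rcases hσ with rfl | rfl
  · by_cases hm : m₂ = 2
    · subst hm; omega
    by_cases hm3 : m₂ = 3
    · subst hm3
      by_cases hm' : m₁ = 2
      · subst hm'; omega
      · have : o₁ * 3 ≤ o₁ * m₁ := Nat.mul_le_mul_left _ (by omega)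
        omega
    · have : o₂ * 4 ≤ o₂ * m₂ := Nat.mul_le_mul_left _ (by omega)
      omega
  · omega

theorem pair_arith {N p q a b : ℕ} (hN : 12 ≤ N) (ha : 2 * (a * p) = N) (hb : 2 * (b * q) = N) (hp : 2 ≤ p)
    (hq : 2 ≤ q) (ha2 : 2 ≤ a) (hb2 : 2 ≤ b) (hsum : 4 * (a + b) = N + 4) :
    N = 12 ∨ N = 24 ∨ (N = 60 ∧ ((p = 3 ∧ q = 5) ∨ (p = 5 ∧ q = 3))) := by
  wlog hpq : p ≤ q generalizing p q a b
  · rcases this hb ha hq hp hb2 ha2 (by omega) (by omega) with h | h | ⟨h, h'⟩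
    · exact Or.inl h
    · exact Or.inr (Or.inl h)
    · exact Or.inr (Or.inr ⟨h, h'.symm.imp (fun x => ⟨x.2, x.1⟩) fun x => ⟨x.2, x.1⟩⟩)
  have hqb : b * p ≤ b * q := Nat.mul_le_mul_left _ hpq
  by_cases h2 : p = 2
  · subst h2; omega
  by_cases h3 : p = 3
  · subst h3
    by_cases hq6 : 6 ≤ q
    · have : b * 6 ≤ b * q := Nat.mul_le_mul_left _ hq6
      omega
    interval_cases q <;> omega
  · have : a * 4 ≤ a * p := Nat.mul_le_mul_left _ (by omega)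
    have : b * 4 ≤ b * p := Nat.mul_le_mul_left _ (by omega)
    omega

theorem three_orbit_arith {N o₁ m₁ o₂ m₂ o₃ m₃ σ₂ σ₃ : ℕ} (hN : 12 ≤ N) (hev : Even m₁)
    (hσ₂ : σ₂ = 1 ∨ σ₂ = 2) (hσ₃ : σ₃ = 1 ∨ σ₃ = 2) (h1 : 2 * (o₁ * m₁) = N) (hm₁ : 2 ≤ m₁) (ho₁ : 3 ≤ o₁)
    (h₂ : σ₂ * (o₂ * m₂) = N) (hm₂ : 2 ≤ m₂) (ho₂ : 2 ≤ o₂)
    (h₃ : σ₃ * (o₃ * m₃) = N) (hm₃ : 2 ≤ m₃) (ho₃ : 2 ≤ o₃)
    (hsum : o₁ * (m₁ - 1) + o₂ * (m₂ - 1) + o₃ * (m₃ - 1) = N - 1) :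
    N = 12 ∨ N = 24 ∨ (N = 60 ∧ m₁ = 2 ∧ σ₂ = 2 ∧ σ₃ = 2 ∧ ((m₂ = 3 ∧ m₃ = 5) ∨ (m₂ = 5 ∧ m₃ = 3))) := by
  rw [Nat.mul_sub_one, Nat.mul_sub_one, Nat.mul_sub_one] at hsum
  have e1 : o₁ * 2 ≤ o₁ * m₁ := Nat.mul_le_mul_left _ hm₁
  have e2 : o₂ * 2 ≤ o₂ * m₂ := Nat.mul_le_mul_left _ hm₂
  have e3 : o₃ * 2 ≤ o₃ * m₃ := Nat.mul_le_mul_left _ hm₃
  rcases hσ₂ with rfl | rfl <;> rcases hσ₃ with rfl | rfl
  · omega
  · omega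
  · omega
  by_cases h12 : m₁ = 2
  · subst h12
    rcases pair_arith hN h₂ h₃ hm₂ hm₃ ho₂ ho₃ (by omega) with h | h | ⟨h, h'⟩
    · exact Or.inl h
    · exact Or.inr (Or.inl h)
    · exact Or.inr (Or.inr ⟨h, rfl, rfl, rfl, h'⟩)
  by_cases h22 : m₂ = 2
  · subst h22
    rcases pair_arith hN h1 h₃ hm₁ hm₃ (by omega) ho₃ (by omega) with h | h | ⟨h, h'⟩
    · exact Or.inl h
    · exact Or.inr (Or.inl h)
    · obtain ⟨r, hr⟩ := hev; omega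
  by_cases h32 : m₃ = 2
  · subst h32
    rcases pair_arith hN h1 h₂ hm₁ hm₂ (by omega) ho₂ (by omega) with h | h | ⟨h, h'⟩
    · exact Or.inl h
    · exact Or.inr (Or.inl h)
    · obtain ⟨r, hr⟩ := hev; omega
  have : o₁ * 3 ≤ o₁ * m₁ := Nat.mul_le_mul_left _ (by omega)
  have : o₂ * 3 ≤ o₂ * m₂ := Nat.mul_le_mul_left _ (by omega)
  have : o₃ * 3 ≤ o₃ * m₃ := Nat.mul_le_mul_left _ (by omega)
  omega

variable {F : Type*} [Field F] [Fintype F]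

noncomputable local instance qAutThreeFintype : Fintype (qAut (sq F 3)) :=
  haveI := finite_qAut (sq F 3)
  Fintype.ofFinite _

open scoped _root_.Classical

/-- The fixed space of an isometry. -/
noncomputable def fixSp (g : qAut (sq F 3)) : Submodule F (Fin 3 → F) :=
  LinearMap.eqLocus g.1.toLinearMap LinearMap.id

theorem mem_fixSp {g : qAut (sq F 3)} {x : Fin 3 → F} : x ∈ fixSp g ↔ g.1 x = x := Iff.rfl

theorem span_le_fixSp {g : qAut (sq F 3)} {a : Fin 3 → F} (h : g.1 a = a) : Submodule.span F {a} ≤ fixSp g :=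
  (Submodule.span_singleton_le_iff_mem _ _).2 h

end CfsgLib.Classical22.Frame
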