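/-
A finite group of rotations in three variables containing the even monomial rotations and normalised by a quarter
turn is monomial or contains an Eichler transformation.
-/
import Cfsg.Agent.Lib.Classical22.Frame.Count

set_option autoImplicit false

namespace CfsgLib.Classical22.Frame

open Cfsg CfsgLib.Classical
open scoped Matrix _root_.Classical

variable {F : Type*} [Field F] [Fintype F]

/-- The data of the rotation group on a coordinate triple. -/
structure Tri (K : Subgroup (qAut (sq F 3))) : Prop where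
  two : (2 : F) ≠ 0
  det : ∀ g ∈ K, dt g = 1
  half : ∀ i, ∃ g ∈ K, g.1 (ax i) = ax i ∧ ∀ j, j ≠ i → g.1 (ax j) = -ax j
  cyc : ∃ g ∈ K, ∀ i, g.1 (ax i) = ax (i + 1)
  turn : ∃ g : qAut (sq F 3), g.1 (ax 0) = ax 1 ∧ g.1 (ax 1) = -ax 0 ∧ g.1 (ax 2) = ax 2 ∧
    ∀ k ∈ K, g * k * g⁻¹ ∈ K

variable {K : Subgroup (qAut (sq F 3))}

/-- The finite type structure used for the groups of rotations. -/
@[implicit_reducible] noncomputable def triFintype (K : Subgroup (qAut (sq F 3))) : Fintype K :=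
  haveI := finite_qAut (sq F 3)
  Fintype.ofFinite _

attribute [local instance] triFintype

/-- The elements of the group fixing a subspace. -/
noncomputable def cylin (K : Subgroup (qAut (sq F 3))) (ℓ : Submodule F (Fin 3 → F)) : Finset K :=
  Finset.univ.filter fun g => ℓ ≤ fixSp g.1

/-- The setwise stabiliser of a subspace. -/
noncomputable def stabin (K : Subgroup (qAut (sq F 3))) (ℓ : Submodule F (Fin 3 → F)) : Finset K :=
  Finset.univ.filter fun g => ℓ.map g.1.1.toLinearMap = ℓ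

/-- The orbit of a subspace. -/
noncomputable def orbin (K : Subgroup (qAut (sq F 3))) (ℓ : Submodule F (Fin 3 → F)) :
    Finset (Submodule F (Fin 3 → F)) :=
  Finset.univ.image fun g : K => ℓ.map g.1.1.toLinearMap

/-- The axes of the non-trivial elements. -/
noncomputable def axesin (K : Subgroup (qAut (sq F 3))) : Finset (Submodule F (Fin 3 → F)) :=
  ((Finset.univ : Finset K).erase 1).image fun g => fixSp g.1

theorem map_mul_sub (g h : qAut (sq F 3)) (ℓ : Submodule F (Fin 3 → F)) :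
    ℓ.map (g * h).1.toLinearMap = (ℓ.map h.1.toLinearMap).map g.1.toLinearMap := by
  rw [← Submodule.map_comp]
  rfl

theorem map_one_sub (ℓ : Submodule F (Fin 3 → F)) : ℓ.map (1 : qAut (sq F 3)).1.toLinearMap = ℓ :=
  Submodule.map_id ℓ

theorem map_span_line (g : qAut (sq F 3)) (a : Fin 3 → F) :
    (Submodule.span F {a}).map g.1.toLinearMap = Submodule.span F {g.1 a} := by
  rw [Submodule.map_span, Set.image_singleton]
  rfl

theorem kmul_apply (g h : K) (x : Fin 3 → F) : (g * h).1.1 x = g.1.1 (h.1.1 x) := rfl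

theorem kinv_apply (g : K) (x : Fin 3 → F) : (g⁻¹).1.1 (g.1.1 x) = x := qInv_apply_self _ g.1 x

section Axis

variable (T : Tri K) (hss : ∀ g ∈ K, g ≠ 1 → ∀ a : Fin 3 → F, a ≠ 0 → g.1 a = a → a ⬝ᵥ a ≠ 0)
include T hss

theorem fixSp_eq {g : qAut (sq F 3)} (hg : g ∈ K) (h1 : g ≠ 1) {a : Fin 3 → F} (ha : a ≠ 0) (hga : g.1 a = a) :
    fixSp g = Submodule.span F {a} := by
  refine le_antisymm (fun b hb => ?_) (span_le_fixSp hga)
  have haa := hss g hg h1 a ha hga
  obtain ⟨c, hc⟩ : ∃ c, c = b - ((b ⬝ᵥ a) / (a ⬝ᵥ a)) • a := ⟨_, rfl⟩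
  have hgc : g.1 c = c := by rw [hc, map_sub, map_smul, hga, mem_fixSp.1 hb]
  have hca : a ⬝ᵥ c = 0 := by
    rw [hc, dotProduct_sub, dotProduct_smul, smul_eq_mul, div_mul_cancel₀ _ haa, dotProduct_comm, sub_self]
  by_cases hc0 : c = 0
  · rw [hc, sub_eq_zero] at hc0
    exact Submodule.mem_span_singleton.2 ⟨_, hc0.symm⟩
  · exact absurd (eq_one_of_two_fixed T.two (T.det g hg) haa (hss g hg h1 c hc0 hgc) hca hga hgc) h1

theorem axes_spec {ℓ : Submodule F (Fin 3 → F)} (h : ℓ ∈ axesin K) :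
    ∃ a, a ⬝ᵥ a ≠ 0 ∧ ℓ = Submodule.span F {a} ∧ ∃ g : K, g ≠ 1 ∧ g.1.1 a = a := by
  obtain ⟨g, hg, rfl⟩ := Finset.mem_image.1 h
  have h1 : g.1 ≠ 1 := fun e => (Finset.mem_erase.1 hg).1 (Subtype.ext e)
  obtain ⟨a, ha, hga⟩ := exists_fixed T.two (T.det _ g.2)
  exact ⟨a, hss _ g.2 h1 a ha hga, fixSp_eq T hss g.2 h1 ha hga, g, (Finset.mem_erase.1 hg).1, hga⟩

omit hss in
theorem mem_cylin_line {a : Fin 3 → F} {g : K} : g ∈ cylin K (Submodule.span F {a}) ↔ g.1.1 a = a := by
  rw [cylin, Finset.mem_filter, Submodule.span_singleton_le_iff_mem, mem_fixSp]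
  simp

omit hss in
theorem one_mem_cylin (ℓ : Submodule F (Fin 3 → F)) : (1 : K) ∈ cylin K ℓ :=
  Finset.mem_filter.2 ⟨Finset.mem_univ _, fun x _ => rfl⟩

theorem cylin_fibre {ℓ : Submodule F (Fin 3 → F)} (h : ℓ ∈ axesin K) :
    (((Finset.univ : Finset K).erase 1).filter fun g => fixSp g.1 = ℓ) = (cylin K ℓ).erase 1 := by
  obtain ⟨a, ha, rfl, -⟩ := axes_spec T hss h
  ext g
  rw [Finset.mem_filter, Finset.mem_erase, Finset.mem_erase, mem_cylin_line T]
  constructor
  · rintro ⟨⟨h1, -⟩, he⟩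
    exact ⟨h1, mem_fixSp.1 (he.symm ▸ Submodule.mem_span_singleton_self a)⟩
  · rintro ⟨h1, hga⟩
    exact ⟨⟨h1, Finset.mem_univ _⟩, fixSp_eq T hss g.2 (fun e => h1 (Subtype.ext e))
      (fun h0 => ha (by rw [h0, zero_dotProduct])) hga⟩

theorem two_le_cylin {ℓ : Submodule F (Fin 3 → F)} (h : ℓ ∈ axesin K) : 2 ≤ (cylin K ℓ).card := by
  obtain ⟨a, -, rfl, g, hg1, hga⟩ := axes_spec T hss h
  exact Finset.one_lt_card.2 ⟨g, (mem_cylin_line T).2 hga, 1, one_mem_cylin T _, hg1⟩

theorem card_eq_sum : Fintype.card K - 1 = ∑ ℓ ∈ axesin K, ((cylin K ℓ).card - 1) := by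
  rw [← Finset.card_univ, ← Finset.card_erase_of_mem (Finset.mem_univ (1 : K)),
    Finset.card_eq_sum_card_image (fun g : K => fixSp g.1)]
  exact Finset.sum_congr rfl fun ℓ hℓ => by
    rw [cylin_fibre T hss hℓ, Finset.card_erase_of_mem (one_mem_cylin T ℓ)]

theorem orbin_subset {ℓ : Submodule F (Fin 3 → F)} (h : ℓ ∈ axesin K) : orbin K ℓ ⊆ axesin K := by
  intro m hm
  obtain ⟨k, -, rfl⟩ := Finset.mem_image.1 hm
  obtain ⟨a, ha, rfl, g, hg1, hga⟩ := axes_spec T hss h
  refine Finset.mem_image.2 ⟨k * g * k⁻¹, Finset.mem_erase.2 ⟨fun e => hg1 ?_, Finset.mem_univ _⟩, ?_⟩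
  · rwa [mul_inv_eq_one, mul_eq_left] at e
  have hka : (k * g * k⁻¹).1.1 (k.1.1 a) = k.1.1 a := by
    rw [kmul_apply, kmul_apply, kinv_apply, hga]
  rw [fixSp_eq T hss (k * g * k⁻¹).2 (fun e => hg1 ?_) (fun h0 => ha ?_) hka, map_span_line]
  · have e' : k * g * k⁻¹ = 1 := Subtype.ext e
    rwa [mul_inv_eq_one, mul_eq_left] at e'
  · rw [← iso_dot T.two k.1 a a, h0, zero_dotProduct]

omit hss in
theorem self_mem_orbin (ℓ : Submodule F (Fin 3 → F)) : ℓ ∈ orbin K ℓ :=
  Finset.mem_image.2 ⟨1, Finset.mem_univ _, map_one_sub ℓ⟩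

omit hss in
theorem orbin_eq {ℓ m : Submodule F (Fin 3 → F)} (h : m ∈ orbin K ℓ) : orbin K m = orbin K ℓ := by
  obtain ⟨k, -, rfl⟩ := Finset.mem_image.1 h
  ext p
  simp only [orbin, Finset.mem_image, Finset.mem_univ, true_and]
  constructor
  · rintro ⟨g, rfl⟩
    exact ⟨g * k, map_mul_sub _ _ _⟩
  · rintro ⟨g, rfl⟩
    refine ⟨g * k⁻¹, ?_⟩
    rw [← map_mul_sub]
    simp

omit hss in
theorem cylin_orbin {ℓ m : Submodule F (Fin 3 → F)} (h : m ∈ orbin K ℓ) :
    (cylin K m).card = (cylin K ℓ).card := by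
  obtain ⟨k, -, rfl⟩ := Finset.mem_image.1 h
  refine Finset.card_nbij' (fun g => k⁻¹ * g * k) (fun g => k * g * k⁻¹) ?_ ?_
    (fun g _ => by group) (fun g _ => by group)
  · intro g hg
    simp only [cylin, Finset.coe_filter, Finset.mem_univ, true_and, Set.mem_setOf_eq] at hg ⊢
    intro x hx
    rw [mem_fixSp, kmul_apply, kmul_apply]
    have h2' : g.1.1 (k.1.1 x) = k.1.1 x := mem_fixSp.1 (hg ⟨x, hx, rfl⟩)
    rw [h2', kinv_apply]
  · intro g hg
    simp only [cylin, Finset.coe_filter, Finset.mem_univ, true_and, Set.mem_setOf_eq] at hg ⊢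
    rintro _ ⟨x, hx, rfl⟩
    rw [mem_fixSp, kmul_apply, kmul_apply, LinearEquiv.coe_coe, kinv_apply]
    rw [mem_fixSp.1 (hg hx)]

omit hss in
theorem card_orbin (ℓ : Submodule F (Fin 3 → F)) :
    Fintype.card K = (orbin K ℓ).card * (stabin K ℓ).card := by
  rw [← Finset.card_univ, Finset.card_eq_sum_card_image (fun g : K => ℓ.map g.1.1.toLinearMap),
    ← orbin, Finset.sum_const_nat]
  intro m hm
  obtain ⟨k, -, rfl⟩ := Finset.mem_image.1 hm
  refine Finset.card_nbij' (fun g => k⁻¹ * g) (fun g => k * g) ?_ ?_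
    (fun g _ => by group) (fun g _ => by group)
  · intro g hg
    simp only [stabin, Finset.coe_filter, Finset.mem_univ, true_and, Set.mem_setOf_eq] at hg ⊢
    rw [Subgroup.coe_mul, map_mul_sub, hg, ← map_mul_sub, ← Subgroup.coe_mul, inv_mul_cancel]
    exact map_one_sub ℓ
  · intro g hg
    simp only [stabin, Finset.coe_filter, Finset.mem_univ, true_and, Set.mem_setOf_eq] at hg ⊢
    rw [Subgroup.coe_mul, map_mul_sub, hg]

theorem sign_of_stab {a : Fin 3 → F} (ha : a ⬝ᵥ a ≠ 0) {g : qAut (sq F 3)} {c : F} (h : g.1 a = c • a) :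
    g.1 a = a ∨ g.1 a = -a := by
  have h1 := iso_dot T.two g a a
  rw [h, smul_dotProduct, dotProduct_smul, smul_eq_mul, smul_eq_mul, ← mul_assoc] at h1
  rcases mul_self_eq_one_iff.1 (mul_right_cancel₀ ha (h1.trans (one_mul _).symm)) with e | e <;> subst e
  · exact Or.inl (by rw [h, one_smul])
  · exact Or.inr (by rw [h, neg_one_smul])

omit hss in
theorem mem_stabin_line {a : Fin 3 → F} {g : K} (h : g.1.1 a = a ∨ g.1.1 a = -a) :
    g ∈ stabin K (Submodule.span F {a}) := by
  refine Finset.mem_filter.2 ⟨Finset.mem_univ _, ?_⟩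
  rw [map_span_line]
  rcases h with h | h <;> rw [h]
  rw [← neg_one_smul F a]
  exact Submodule.span_singleton_smul_eq (isUnit_one.neg) a

theorem flip_card {a : Fin 3 → F} (ha : a ⬝ᵥ a ≠ 0) {h : K} (hh : h.1.1 a = -a) :
    (stabin K (Submodule.span F {a})).card = 2 * (cylin K (Submodule.span F {a})).card := by
  have hinv : (h⁻¹).1.1 a = -a := by
    have := congrArg (fun x => (h.1⁻¹).1 x) hh
    simp only [qInv_apply_self, map_neg] at this
    rw [Subgroup.coe_inv]
    linear_combination (norm := module) this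
  have hsplit : stabin K (Submodule.span F {a}) = cylin K (Submodule.span F {a}) ∪
      (cylin K (Submodule.span F {a})).image (fun g => h * g) := by
    ext g
    rw [Finset.mem_union, Finset.mem_image, mem_cylin_line T]
    constructor
    · intro hg
      have hm : g.1.1 a ∈ Submodule.span F {a} := by
        have := Submodule.mem_map_of_mem (f := g.1.1.toLinearMap) (Submodule.mem_span_singleton_self a)
        rwa [(Finset.mem_filter.1 hg).2] at this
      obtain ⟨c, hc⟩ := Submodule.mem_span_singleton.1 hm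
      refine (sign_of_stab T hss ha hc.symm).imp id fun e => ⟨h⁻¹ * g, (mem_cylin_line T).2 ?_, by group⟩
      rw [Subgroup.coe_mul, qAut_mul_apply, e, map_neg, hinv, neg_neg]
    · rintro (e | ⟨g', hg', rfl⟩)
      · exact mem_stabin_line T (Or.inl e)
      · refine mem_stabin_line T (Or.inr ?_)
        rw [Subgroup.coe_mul, qAut_mul_apply, (mem_cylin_line T).1 hg', hh]
  rw [hsplit, Finset.card_union_of_disjoint, Finset.card_image_of_injective _ (mul_right_injective h), two_mul]
  rw [Finset.disjoint_left]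
  intro g hg hg'
  obtain ⟨g', hg'', rfl⟩ := Finset.mem_image.1 hg'
  have h1 := (mem_cylin_line T).1 hg
  rw [Subgroup.coe_mul, qAut_mul_apply, (mem_cylin_line T).1 hg'', hh] at h1
  have h3 : (2 : F) • a = 0 := by linear_combination (norm := module) -h1
  rcases smul_eq_zero.1 h3 with h4 | h4
  · exact T.two h4
  · exact ha (by rw [h4, zero_dotProduct])

theorem noflip_card {a : Fin 3 → F} (ha : a ⬝ᵥ a ≠ 0) (hno : ∀ h : K, h.1.1 a ≠ -a) :
    stabin K (Submodule.span F {a}) = cylin K (Submodule.span F {a}) := by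
  ext g
  rw [mem_cylin_line T]
  refine ⟨fun hg => ?_, fun h => mem_stabin_line T (Or.inl h)⟩
  have hm : g.1.1 a ∈ Submodule.span F {a} := by
    have := Submodule.mem_map_of_mem (f := g.1.1.toLinearMap) (Submodule.mem_span_singleton_self a)
    rwa [(Finset.mem_filter.1 hg).2] at this
  obtain ⟨c, hc⟩ := Submodule.mem_span_singleton.1 hm
  exact (sign_of_stab T hss ha hc.symm).resolve_right (hno g)

theorem two_le_orbin {ℓ : Submodule F (Fin 3 → F)} (h : ℓ ∈ axesin K) : 2 ≤ (orbin K ℓ).card := by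
  obtain ⟨a, ha, rfl, -⟩ := axes_spec T hss h
  refine Finset.one_lt_card.2 ?_
  by_contra hc
  push Not at hc
  have hfix : ∀ g ∈ K, g.1 a = a ∨ g.1 a = -a := fun g hg => by
    have hs := hc _ (Finset.mem_image.2 ⟨⟨g, hg⟩, Finset.mem_univ _, rfl⟩) _ (self_mem_orbin T _)
    have hm : g.1 a ∈ Submodule.span F {a} := by
      rw [← hs]
      exact Submodule.mem_map_of_mem (f := g.1.toLinearMap) (Submodule.mem_span_singleton_self a)
    obtain ⟨c, hc'⟩ := Submodule.mem_span_singleton.1 hm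
    exact sign_of_stab T hss ha hc'.symm
  obtain ⟨t, ht, htax⟩ := T.cyc
  have hcoord : ∀ i, a i = 0 ∨ ∀ j, j ≠ i → a j = 0 := fun i => by
    obtain ⟨g, hg, hgi, hgj⟩ := T.half i
    have hval : ∀ j, g.1 a j = if j = i then a j else -a j := fun j => by
      rw [← dot_ax j (g.1 a), dot_inv T.two]
      by_cases hj : j = i
      · subst hj
        rw [if_pos rfl, show (g⁻¹).1 (ax j) = ax j from by conv_lhs => rw [← hgi, qInv_apply_self], dot_ax]
      · rw [if_neg hj, show (g⁻¹).1 (ax j) = -ax j from by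
          have := congrArg (fun x => (g⁻¹).1 x) (hgj j hj)
          simp only [qInv_apply_self, map_neg] at this
          linear_combination (norm := module) this, dotProduct_neg, dot_ax]
    rcases hfix g hg with e | e
    · refine Or.inr fun j hj => ?_
      have h' := hval j
      rw [e, if_neg hj] at h'
      exact (mul_eq_zero.1 (show (2 : F) * a j = 0 by linear_combination h')).resolve_left T.two
    · refine Or.inl ?_
      have h' := hval i
      rw [e, if_pos rfl, Pi.neg_apply] at h'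
      exact (mul_eq_zero.1 (show (2 : F) * a i = 0 by linear_combination -h')).resolve_left T.two
  obtain ⟨i, hi⟩ : ∃ i, a i ≠ 0 := Function.ne_iff.1 fun h0 : a = 0 => ha (by rw [h0, zero_dotProduct])
  have ha' : a = a i • ax i := funext fun j => by
    by_cases hj : j = i
    · subst hj; simp [ax_self]
    · rw [Pi.smul_apply, ax_ne hj, smul_zero, (hcoord i).resolve_left hi j hj]
  have hta : t.1 a = a i • ax (i + 1) := by rw [ha', map_smul, htax, ← ha']
  have hne : i + 1 ≠ i := by fin_cases i <;> decide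
  rcases hfix t ht with e | e <;> rw [hta] at e <;> have e' := congrFun e i <;>
    simp only [Pi.smul_apply, Pi.neg_apply, ax_ne hne.symm, smul_zero] at e'
  · exact hi e'.symm
  · exact hi (neg_eq_zero.1 e'.symm)

end Axis

end CfsgLib.Classical22.Frame
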