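/-
The even monomial rotations and the weights of the axes.
-/
import Cfsg.Agent.Lib.Classical22.Frame.Three

set_option autoImplicit false

namespace CfsgLib.Classical22.Frame

open Cfsg CfsgLib.Classical
open scoped Matrix _root_.Classical

variable {F : Type*} [Field F] [Fintype F] {K : Subgroup (qAut (sq F 3))}

attribute [local instance] triFintype

variable (T : Tri K) (hss : ∀ g ∈ K, g ≠ 1 → ∀ a : Fin 3 → F, a ≠ 0 → g.1 a = a → a ⬝ᵥ a ≠ 0)
include T

/-- The twelve even monomial rotations. -/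
theorem exists_twelve : ∃ f : Fin 3 × Option (Fin 3) → K, Function.Injective f ∧ ∀ k v j,
    (f (k, v)).1.1 (ax j) = (v.elim (1 : F) fun i => if j = i then 1 else -1) • ax (j + k) := by
  obtain ⟨t, ht, htax⟩ := T.cyc
  choose d hd hdi hdj using T.half
  obtain ⟨τ, hτ⟩ : ∃ τ : K, τ = ⟨t, ht⟩ := ⟨_, rfl⟩
  obtain ⟨dd, hdd⟩ : ∃ dd : Option (Fin 3) → K, dd none = 1 ∧ ∀ i, dd (some i) = ⟨d i, hd i⟩ :=
    ⟨fun v => v.elim (1 : K) fun i => ⟨d i, hd i⟩, rfl, fun i => rfl⟩
  obtain ⟨f, hf⟩ : ∃ f : Fin 3 × Option (Fin 3) → K, ∀ k v, f (k, v) = τ ^ (k : ℕ) * dd v :=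
    ⟨fun p => τ ^ (p.1 : ℕ) * dd p.2, fun k v => rfl⟩
  have hval : ∀ k v j,
      (f (k, v)).1.1 (ax j) = (v.elim (1 : F) fun i => if j = i then 1 else -1) • ax (j + k) := by
    intro k v j
    have hv : (dd v).1.1 (ax j) = (v.elim (1 : F) fun i => if j = i then 1 else -1) • ax j := by
      cases v with
      | none => rw [hdd.1, Option.elim_none, one_smul]; rfl
      | some i =>
        rw [hdd.2, Option.elim_some]
        by_cases h : j = i
        · subst h; rw [if_pos rfl, one_smul]; exact hdi j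
        · rw [if_neg h, neg_one_smul]; exact hdj i j h
    have htau : ∀ i, τ.1.1 (ax i) = ax (i + 1) := fun i => by rw [hτ]; exact htax i
    rw [hf, kmul_apply, hv, map_smul]
    congr 1
    fin_cases k
    · change (τ ^ 0).1.1 (ax j) = ax (j + 0)
      rw [pow_zero, add_zero]
      rfl
    · change (τ ^ 1).1.1 (ax j) = ax (j + 1)
      rw [pow_one, htau]
    · change (τ ^ 2).1.1 (ax j) = ax (j + 2)
      rw [pow_two, kmul_apply, htau, htau, add_assoc]
      rfl
  refine ⟨f, ?_, hval⟩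
  rintro ⟨k, v⟩ ⟨k', v'⟩ h
  have hc : ∀ (v : Option (Fin 3)) (j : Fin 3), (v.elim (1 : F) fun i => if j = i then 1 else -1) ≠ 0 := by
    intro v j
    cases v with
    | none => exact one_ne_zero
    | some i => rw [Option.elim_some]; split_ifs <;> simp
  have hall : ∀ j, (v.elim (1 : F) fun i => if j = i then 1 else -1) • (ax (j + k) : Fin 3 → F) =
      (v'.elim (1 : F) fun i => if j = i then 1 else -1) • ax (j + k') := fun j => by
    rw [← hval, ← hval, h]
  have hk : k = k' := by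
    by_contra hne
    have h0 := congrFun (hall 0) k
    simp only [zero_add, Pi.smul_apply, smul_eq_mul, ax_self, ax_ne hne, mul_one, mul_zero] at h0
    exact hc v 0 h0
  subst hk
  have hs : ∀ j, (v.elim (1 : F) fun i => if j = i then 1 else -1) =
      v'.elim (1 : F) fun i => if j = i then 1 else -1 := fun j => by
    simpa [ax_self] using congrFun (hall j) (j + k)
  have h11 : (1 : F) ≠ -1 := (neg_one_ne_one T.two).symm
  have hnone : ∀ i : Fin 3, ¬ ∀ j, (if j = i then (1 : F) else -1) = 1 := fun i hj => by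
    have := hj (i + 1)
    rw [if_neg (by fin_cases i <;> decide)] at this
    exact h11 this.symm
  rw [Prod.mk.injEq]
  refine ⟨rfl, ?_⟩
  cases v with
  | none =>
    cases v' with
    | none => rfl
    | some i => exact absurd (fun j => (hs j).symm) (hnone i)
  | some i =>
    cases v' with
    | none => exact absurd (fun j => hs j) (hnone i)
    | some i' =>
      refine congrArg some (by_contra fun hne => h11 ?_)
      simpa [hne] using hs i

include hss

theorem weight {ℓ : Submodule F (Fin 3 → F)} (h : ℓ ∈ axesin K) :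
    ∃ σ, (σ = 1 ∨ σ = 2) ∧ σ * ((orbin K ℓ).card * (cylin K ℓ).card) = Fintype.card K ∧
      (σ = 2 → ∃ (a : Fin 3 → F) (g : K), ℓ = Submodule.span F {a} ∧ a ⬝ᵥ a ≠ 0 ∧ g.1.1 a = -a) := by
  obtain ⟨a, ha, rfl, -⟩ := axes_spec T hss h
  rw [card_orbin T (Submodule.span F {a})]
  by_cases hf : ∃ g : K, g.1.1 a = -a
  · obtain ⟨g, hg⟩ := hf
    exact ⟨2, Or.inr rfl, by rw [flip_card T hss ha hg]; ring, fun _ => ⟨a, g, rfl, ha, hg⟩⟩
  · push Not at hf
    exact ⟨1, Or.inl rfl, by rw [noflip_card T hss ha hf, one_mul], fun h => absurd h (by norm_num)⟩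

theorem sum_orbin {ℓ : Submodule F (Fin 3 → F)} :
    ∑ m ∈ orbin K ℓ, ((cylin K m).card - 1) = (orbin K ℓ).card * ((cylin K ℓ).card - 1) :=
  Finset.sum_const_nat fun m hm => by rw [cylin_orbin T hm]

theorem orbin_disjoint {ℓ m : Submodule F (Fin 3 → F)} (h : m ∉ orbin K ℓ) :
    Disjoint (orbin K ℓ) (orbin K m) :=
  Finset.disjoint_left.2 fun p h1 h2 => h (by rw [← orbin_eq T h1, orbin_eq T h2]; exact self_mem_orbin T m)

omit hss in
theorem even_cylin {ℓ : Submodule F (Fin 3 → F)} {g : K} (hg : g ≠ 1) (hg2 : g * g = 1) (hgl : g ∈ cylin K ℓ) :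
    Even (cylin K ℓ).card := by
  obtain ⟨S, hS⟩ : ∃ S : Subgroup K, ∀ x, x ∈ S ↔ x ∈ cylin K ℓ := by
    refine ⟨{ carrier := {x | x ∈ cylin K ℓ}
              one_mem' := one_mem_cylin T ℓ
              mul_mem' := fun {x y} hx hy => ?_
              inv_mem' := fun {x} hx => ?_ }, fun x => Iff.rfl⟩
    · simp only [cylin, Finset.mem_filter, Finset.mem_univ, true_and, Set.mem_setOf_eq] at hx hy ⊢
      intro z hz
      rw [mem_fixSp, kmul_apply, mem_fixSp.1 (hy hz), mem_fixSp.1 (hx hz)]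
    · simp only [cylin, Finset.mem_filter, Finset.mem_univ, true_and, Set.mem_setOf_eq] at hx ⊢
      intro z hz
      rw [mem_fixSp]
      conv_lhs => arg 2; rw [← mem_fixSp.1 (hx hz)]
      exact kinv_apply x z
  have ho : orderOf (⟨g, (hS g).2 hgl⟩ : S) = 2 :=
    orderOf_eq_prime (Subtype.ext (by rw [pow_two]; exact hg2)) (fun e => hg (congrArg Subtype.val e))
  have hd := orderOf_dvd_natCard (⟨g, (hS g).2 hgl⟩ : S)
  rw [ho, show Nat.card S = (cylin K ℓ).card from
    Nat.subtype_card _ (fun x => (hS x).symm)] at hd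
  exact even_iff_two_dvd.2 hd

omit hss in
theorem pow_cylin {ℓ : Submodule F (Fin 3 → F)} {g : K} (hgl : g ∈ cylin K ℓ) :
    g ^ (cylin K ℓ).card = 1 := by
  obtain ⟨S, hS⟩ : ∃ S : Subgroup K, ∀ x, x ∈ S ↔ x ∈ cylin K ℓ := by
    refine ⟨{ carrier := {x | x ∈ cylin K ℓ}
              one_mem' := one_mem_cylin T ℓ
              mul_mem' := fun {x y} hx hy => ?_
              inv_mem' := fun {x} hx => ?_ }, fun x => Iff.rfl⟩
    · simp only [cylin, Finset.mem_filter, Finset.mem_univ, true_and, Set.mem_setOf_eq] at hx hy ⊢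
      intro z hz
      rw [mem_fixSp, kmul_apply, mem_fixSp.1 (hy hz), mem_fixSp.1 (hx hz)]
    · simp only [cylin, Finset.mem_filter, Finset.mem_univ, true_and, Set.mem_setOf_eq] at hx ⊢
      intro z hz
      rw [mem_fixSp]
      conv_lhs => arg 2; rw [← mem_fixSp.1 (hx hz)]
      exact kinv_apply x z
  have h := pow_card_eq_one' (G := S) (x := ⟨g, (hS g).2 hgl⟩)
  rw [show Nat.card S = (cylin K ℓ).card from Nat.subtype_card _ (fun x => (hS x).symm)] at h
  exact congrArg Subtype.val h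

end CfsgLib.Classical22.Frame
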