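/-
The orders of the rotation groups containing the even monomial rotations.
-/
import Cfsg.Agent.Lib.Classical22.Frame.Twelve

set_option autoImplicit false

namespace CfsgLib.Classical22.Frame

open Cfsg CfsgLib.Classical
open scoped Matrix _root_.Classical

variable {F : Type*} [Field F] [Fintype F] {K : Subgroup (qAut (sq F 3))}

attribute [local instance] triFintype

variable (T : Tri K) (hss : ∀ g ∈ K, g ≠ 1 → ∀ a : Fin 3 → F, a ≠ 0 → g.1 a = a → a ⬝ᵥ a ≠ 0)
include T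

include hss

/-- The arithmetic of the orbits of axes. -/
theorem card_cases : Fintype.card K = 12 ∨ Fintype.card K = 24 ∨
    ∃ ℓ ∈ axesin K, (cylin K ℓ).card = 5 ∧ (orbin K ℓ).card = 6 ∧
      (cylin K (Submodule.span F {ax 0})).card = 2 ∧
      (∀ m ∈ axesin K, Even (cylin K m).card → m ∈ orbin K (Submodule.span F {ax 0})) ∧
      (∀ m ∈ axesin K, (cylin K m).card = 5 → m ∈ orbin K ℓ) ∧
      (∀ m ∈ axesin K, (cylin K m).card ≤ 5) ∧
      ∃ (a : Fin 3 → F) (g : K), ℓ = Submodule.span F {a} ∧ a ⬝ᵥ a ≠ 0 ∧ g.1.1 a = -a := by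
  obtain ⟨f, hfi, hf⟩ := exists_twelve T
  have hN : 12 ≤ Fintype.card K := le_trans (by simp) (Fintype.card_le_of_injective f hfi)
  obtain ⟨l₀, hl₀⟩ : ∃ l₀, l₀ = Submodule.span F {(ax 0 : Fin 3 → F)} := ⟨_, rfl⟩
  have hd0 : (f (0, some 0)).1.1 (ax 0) = ax 0 := by rw [hf]; simp
  have hd0ne : f (0, some 0) ≠ 1 := fun h => by
    have h1 : (f (0, some 0)).1.1 (ax 1) = -ax 1 := by rw [hf]; simp
    rw [h] at h1
    have h1' := congrFun (show (ax 1 : Fin 3 → F) = -ax 1 from h1) 1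
    rw [Pi.neg_apply, ax_self] at h1'
    exact neg_one_ne_one T.two h1'.symm
  have h00 : sq F 3 (ax 0 : Fin 3 → F) ≠ 0 := sq_ax_ne 0
  rw [sq_apply] at h00
  have hax0 : l₀ ∈ axesin K := Finset.mem_image.2 ⟨f (0, some 0), Finset.mem_erase.2 ⟨hd0ne, Finset.mem_univ _⟩,
    hl₀ ▸ fixSp_eq T hss (f (0, some 0)).2 (fun e => hd0ne (Subtype.ext e)) (ax_ne_zero 0) hd0⟩
  have hflip0 : (f (0, some 1)).1.1 (ax 0) = -ax 0 := by rw [hf]; simp
  have hsq : f (0, some 0) * f (0, some 0) = 1 := Subtype.ext (qAut_ext fun x => by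
    rw [kmul_apply]
    conv_lhs => rw [eq_sum_ax x, map_sum, map_sum]
    conv_rhs => rw [show ((1 : K).1.1 x) = x from rfl, eq_sum_ax x]
    refine Finset.sum_congr rfl fun i _ => ?_
    rw [map_smul, map_smul, hf, map_smul]
    simp only [add_zero]
    rw [hf, smul_smul, smul_smul]
    simp only [add_zero, Option.elim_some]
    split_ifs <;> simp)
  have hev : Even (cylin K l₀).card :=
    even_cylin T hd0ne hsq (hl₀ ▸ (mem_cylin_line T).2 hd0)
  have hm₁ : 2 ≤ (cylin K l₀).card := two_le_cylin T hss hax0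
  have h1 : 2 * ((orbin K l₀).card * (cylin K l₀).card) = Fintype.card K := by
    rw [card_orbin T l₀, hl₀, flip_card T hss h00 hflip0]
    ring
  have ho₁ : 3 ≤ (orbin K l₀).card := by
    have hinj : Function.Injective fun k : Fin 3 => l₀.map (f (k, none)).1.1.toLinearMap := by
      intro k k' h
      simp only [hl₀, map_span_line, hf, Option.elim_none, one_smul, zero_add] at h
      obtain ⟨c, hc⟩ := Submodule.mem_span_singleton.1
        (h.symm ▸ Submodule.mem_span_singleton_self (ax k' : Fin 3 → F))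
      by_contra hne
      have := congrFun hc k'
      simp [ax_self, ax_ne (Ne.symm hne)] at this
    have := Finset.card_le_card_of_injOn (s := (Finset.univ : Finset (Fin 3))) (t := orbin K l₀) _
      (fun k _ => Finset.mem_image.2 ⟨f (k, none), Finset.mem_univ _, rfl⟩) hinj.injOn
    simpa using this
  have hsum := card_eq_sum T hss
  have hO₁ := orbin_subset T hss hax0
  -- a further orbit
  obtain ⟨l₂, hl₂, hl₂'⟩ : ∃ l₂ ∈ axesin K, l₂ ∉ orbin K l₀ := by
    by_contra hc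
    push Not at hc
    rw [Finset.Subset.antisymm hc hO₁, sum_orbin T hss, Nat.mul_sub_one] at hsum
    omega
  obtain ⟨σ₂, hσ₂, h₂, hflip₂⟩ := weight T hss hl₂
  have hd12 := orbin_disjoint T hss hl₂'
  have hO₂ := orbin_subset T hss hl₂
  by_cases hrest : ∀ m ∈ axesin K, m ∈ orbin K l₀ ∪ orbin K l₂
  · refine Or.inl ?_
    rw [Finset.Subset.antisymm hrest (Finset.union_subset hO₁ hO₂), Finset.sum_union hd12, sum_orbin T hss,
      sum_orbin T hss] at hsum
    exact two_orbit_arith hN hσ₂ h1 hm₁ ho₁ h₂ (two_le_cylin T hss hl₂) (two_le_orbin T hss hl₂) hsum.symm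
  push Not at hrest
  obtain ⟨l₃, hl₃, hl₃'⟩ := hrest
  rw [Finset.mem_union, not_or] at hl₃'
  obtain ⟨σ₃, hσ₃, h₃, hflip₃⟩ := weight T hss hl₃
  have hd3 : Disjoint (orbin K l₀ ∪ orbin K l₂) (orbin K l₃) :=
    Finset.disjoint_union_left.2 ⟨orbin_disjoint T hss hl₃'.1, orbin_disjoint T hss hl₃'.2⟩
  have hO₃ := orbin_subset T hss hl₃
  by_cases hrest : ∀ m ∈ axesin K, m ∈ orbin K l₀ ∪ orbin K l₂ ∪ orbin K l₃
  · rw [Finset.Subset.antisymm hrest (Finset.union_subset (Finset.union_subset hO₁ hO₂) hO₃),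
      Finset.sum_union hd3, Finset.sum_union hd12, sum_orbin T hss, sum_orbin T hss, sum_orbin T hss] at hsum
    rcases three_orbit_arith hN hev hσ₂ hσ₃ h1 hm₁ ho₁ h₂ (two_le_cylin T hss hl₂) (two_le_orbin T hss hl₂) h₃
      (two_le_cylin T hss hl₃) (two_le_orbin T hss hl₃) hsum.symm with
      h | h | ⟨h, e1, e2, e3, e⟩
    · exact Or.inl h
    · exact Or.inr (Or.inl h)
    refine Or.inr (Or.inr ?_)
    have hcases : ∀ m ∈ axesin K, (cylin K m).card = 2 ∧ m ∈ orbin K l₀ ∨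
        (cylin K m).card = (cylin K l₂).card ∧ m ∈ orbin K l₂ ∨
        (cylin K m).card = (cylin K l₃).card ∧ m ∈ orbin K l₃ := fun m hm => by
      rcases Finset.mem_union.1 (hrest m hm) with h' | h'
      · rcases Finset.mem_union.1 h' with h' | h'
        · exact Or.inl ⟨(cylin_orbin T h').trans e1, h'⟩
        · exact Or.inr (Or.inl ⟨cylin_orbin T h', h'⟩)
      · exact Or.inr (Or.inr ⟨cylin_orbin T h', h'⟩)
    rw [← hl₀]
    rcases e with ⟨ea, eb⟩ | ⟨ea, eb⟩
    · refine ⟨l₃, hl₃, eb, by rw [eb, e3, h] at h₃; omega, e1, fun m hm he => ?_, fun m hm he => ?_,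
        fun m hm => by rcases hcases m hm with ⟨x, -⟩ | ⟨x, -⟩ | ⟨x, -⟩ <;> omega, hflip₃ e3⟩
      · rcases hcases m hm with ⟨-, x⟩ | ⟨x, -⟩ | ⟨x, -⟩
        · exact x
        · obtain ⟨r, hr⟩ := he; omega
        · obtain ⟨r, hr⟩ := he; omega
      · rcases hcases m hm with ⟨x, -⟩ | ⟨x, -⟩ | ⟨-, x⟩
        · omega
        · omega
        · exact x
    · refine ⟨l₂, hl₂, ea, by rw [ea, e2, h] at h₂; omega, e1, fun m hm he => ?_, fun m hm he => ?_,
        fun m hm => by rcases hcases m hm with ⟨x, -⟩ | ⟨x, -⟩ | ⟨x, -⟩ <;> omega, hflip₂ e2⟩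
      · rcases hcases m hm with ⟨-, x⟩ | ⟨x, -⟩ | ⟨x, -⟩
        · exact x
        · obtain ⟨r, hr⟩ := he; omega
        · obtain ⟨r, hr⟩ := he; omega
      · rcases hcases m hm with ⟨x, -⟩ | ⟨-, x⟩ | ⟨x, -⟩
        · omega
        · exact x
        · omega
  exfalso
  push Not at hrest
  obtain ⟨l₄, hl₄, hl₄'⟩ := hrest
  rw [Finset.mem_union, Finset.mem_union, not_or, not_or] at hl₄'
  obtain ⟨σ₄, hσ₄, h₄, -⟩ := weight T hss hl₄
  have hd4 : Disjoint (orbin K l₀ ∪ orbin K l₂ ∪ orbin K l₃) (orbin K l₄) :=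
    Finset.disjoint_union_left.2 ⟨Finset.disjoint_union_left.2
      ⟨orbin_disjoint T hss hl₄'.1.1, orbin_disjoint T hss hl₄'.1.2⟩, orbin_disjoint T hss hl₄'.2⟩
  have hle := Finset.sum_le_sum_of_subset (f := fun m => (cylin K m).card - 1)
    (show orbin K l₀ ∪ orbin K l₂ ∪ orbin K l₃ ∪ orbin K l₄ ⊆ axesin K from
      Finset.union_subset (Finset.union_subset (Finset.union_subset hO₁ hO₂) hO₃) (orbin_subset T hss hl₄))
  rw [Finset.sum_union hd4, Finset.sum_union hd3, Finset.sum_union hd12, sum_orbin T hss, sum_orbin T hss,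
    sum_orbin T hss, sum_orbin T hss, ← hsum] at hle
  have hbound : ∀ {o m σ : ℕ}, (σ = 1 ∨ σ = 2) → σ * (o * m) = Fintype.card K → 2 ≤ m →
      Fintype.card K ≤ 4 * (o * (m - 1)) := by
    intro o m σ hσ h hm
    have : o * 2 ≤ o * m := Nat.mul_le_mul_left _ hm
    rw [Nat.mul_sub_one]
    rcases hσ with rfl | rfl <;> omega
  have b1 := hbound (Or.inr rfl) h1 hm₁
  have b2 := hbound hσ₂ h₂ (two_le_cylin T hss hl₂)
  have b3 := hbound hσ₃ h₃ (two_le_cylin T hss hl₃)
  have b4 := hbound hσ₄ h₄ (two_le_cylin T hss hl₄)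
  omega

end CfsgLib.Classical22.Frame
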