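/-
The groups of twelve, twenty-four and sixty rotations containing the even monomial rotations.
-/
import Cfsg.Agent.Lib.Classical22.Frame.Cases

set_option autoImplicit false

namespace CfsgLib.Classical22.Frame

open Cfsg CfsgLib.Classical
open scoped Matrix _root_.Classical

variable {F : Type*} [Field F] [Fintype F] {K : Subgroup (qAut (sq F 3))}

attribute [local instance] triFintype

variable (T : Tri K) (hss : ∀ g ∈ K, g ≠ 1 → ∀ a : Fin 3 → F, a ≠ 0 → g.1 a = a → a ⬝ᵥ a ≠ 0)
include T

include hss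

/-- A rotation group without Eichler transformations is monomial. -/
theorem mono_of_ss : ∀ g ∈ K, Mono g := by
  obtain ⟨f, hfi, hf⟩ := exists_twelve T
  have hfm : ∀ p, Mono (f p).1 := fun p j => ⟨_, _, hf p.1 p.2 j⟩
  rcases card_cases T hss with hN | hN | ⟨ℓ, hℓ, hm5, ho6, hm1, hev, hfive, hle5, a, h, rfl, ha, hh⟩
  · intro g hg
    obtain ⟨p, hp⟩ := ((Fintype.bijective_iff_injective_and_card f).2 ⟨hfi, by simp [hN]⟩).2 ⟨g, hg⟩
    have := hfm p
    rwa [hp] at this
  · obtain ⟨M₀, hM₀⟩ : ∃ M₀ : Subgroup K, M₀ = (monoGroup F 3).subgroupOf K := ⟨_, rfl⟩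
    have hmem : ∀ x : K, x ∈ M₀ ↔ Mono x.1 := fun x => by rw [hM₀]; exact Iff.rfl
    have h12 : 12 ≤ Nat.card M₀ := le_trans (by simp)
      (Nat.card_le_card_of_injective (fun p => (⟨f p, (hmem _).2 (hfm p)⟩ : M₀))
        fun p p' e => hfi (congrArg Subtype.val e))
    have hidx := M₀.card_mul_index
    rw [Nat.card_eq_fintype_card (α := K), hN] at hidx
    by_cases hone : M₀.index = 1
    · intro g hg
      exact (hmem ⟨g, hg⟩).1 ((Subgroup.index_eq_one.1 hone).symm ▸ Subgroup.mem_top _)
    have htwo : M₀.index = 2 := by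
      rcases Nat.eq_zero_or_pos M₀.index with h | h
      · rw [h, mul_zero] at hidx; omega
      · have := Nat.mul_le_mul_right M₀.index h12; omega
    have hc12 : Nat.card M₀ = 12 := by rw [htwo] at hidx; omega
    haveI := Subgroup.normal_of_index_eq_two htwo
    have hsurj : ∀ x ∈ M₀, ∃ p, f p = x := fun x hx => by
      obtain ⟨p, hp⟩ := (((Nat.bijective_iff_injective_and_card (fun p => (⟨f p, (hmem _).2 (hfm p)⟩ : M₀))).2
        ⟨fun p p' e => hfi (congrArg Subtype.val e), by rw [hc12]; simp⟩).2 ⟨x, hx⟩)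
      exact ⟨p, congrArg Subtype.val hp⟩
    intro g hg i
    obtain ⟨d, hd⟩ : ∃ d, d = f (0, some i) := ⟨_, rfl⟩
    obtain ⟨⟨k, v⟩, hp⟩ := hsurj _ (Subgroup.Normal.conj_mem ‹M₀.Normal› d ((hmem d).2 (hd ▸ hfm _)) ⟨g, hg⟩)
    have hgd : (f (k, v)).1.1 (g.1 (ax i)) = g.1 (ax i) := by
      rw [hp, kmul_apply, kmul_apply]
      change g.1 (d.1.1 ((g⁻¹).1 (g.1 (ax i)))) = g.1 (ax i)
      rw [qInv_apply_self, hd, hf]
      simp
    have hgd' : ∀ j, j ≠ i → (f (k, v)).1.1 (g.1 (ax j)) = -g.1 (ax j) := fun j hj => by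
      rw [hp, kmul_apply, kmul_apply]
      change g.1 (d.1.1 ((g⁻¹).1 (g.1 (ax j)))) = -g.1 (ax j)
      rw [qInv_apply_self, hd, hf]
      simp [hj]
    have hne : f (k, v) ≠ 1 := fun e => by
      have h1 := hgd' (i + 1) (by fin_cases i <;> decide)
      rw [e] at h1
      have h3 : (2 : F) • g.1 (ax (i + 1)) = 0 := by
        have : g.1 (ax (i + 1)) = -g.1 (ax (i + 1)) := h1
        linear_combination (norm := module) this
      rcases smul_eq_zero.1 h3 with h4 | h4
      · exact T.two h4
      · exact ax_ne_zero _ ((map_eq_zero_iff _ g.1.injective).1 h4)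
    have hk : k = 0 := by
      have hsq : ∀ x, (f (k, v)).1.1 ((f (k, v)).1.1 x) = x := fun x => by
        rw [hp, kmul_apply, kmul_apply, kmul_apply, kmul_apply, kinv_apply, hd]
        have : ∀ y, (f (0, some i)).1.1 ((f (0, some i)).1.1 y) = y := fun y => by
          conv_rhs => rw [eq_sum_ax y]
          conv_lhs => rw [eq_sum_ax y, map_sum, map_sum]
          refine Finset.sum_congr rfl fun l _ => ?_
          rw [map_smul, map_smul, hf, map_smul, hf, smul_smul, smul_smul, add_zero, add_zero, Option.elim_some]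
          split_ifs <;> simp
        rw [this]
        exact qApply_inv_self _ g x
      have h0 := hsq (ax 0)
      rw [hf, map_smul, hf, smul_smul] at h0
      rw [zero_add] at h0
      by_contra hk0
      have hne0 : k + k ≠ 0 := by fin_cases k <;> simp_all <;> decide
      have := congrFun h0 0
      simp [ax_self, ax_ne hne0.symm] at this
    subst hk
    cases v with
    | none =>
      refine absurd (Subtype.ext (qAut_ext fun x => ?_)) hne
      conv_lhs => rw [eq_sum_ax x, map_sum]
      conv_rhs => rw [show (1 : K).1.1 x = x from rfl, eq_sum_ax x]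
      refine Finset.sum_congr rfl fun l _ => ?_
      rw [map_smul, hf]
      simp
    | some j =>
      have hfix : (f (0, some j)).1.1 (ax j) = ax j := by rw [hf]; simp
      have := (fixSp_eq T hss (f (0, some j)).2 (fun e => hne (Subtype.ext e)) (ax_ne_zero j) hfix) ▸
        mem_fixSp.2 hgd
      obtain ⟨c, hc⟩ := Submodule.mem_span_singleton.1 this
      exact ⟨j, c, hc.symm⟩
  · exfalso
    obtain ⟨h', hh'⟩ : ∃ h', h' = h ^ 5 := ⟨_, rfl⟩
    have hh2 : h * h ∈ cylin K (Submodule.span F {a}) :=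
      (mem_cylin_line T).2 (by rw [kmul_apply, hh, map_neg, hh, neg_neg])
    have hh'a : h'.1.1 a = -a := by
      have h1 : h' = h * ((h * h) * (h * h)) := by rw [hh']; simp [pow_succ, mul_assoc]
      rw [h1, kmul_apply, kmul_apply, (mem_cylin_line T).1 hh2, (mem_cylin_line T).1 hh2, hh]
    have hh'2 : h' * h' = 1 := by
      have := pow_cylin T hh2
      rw [hm5, ← pow_two, ← pow_mul] at this
      rw [hh', ← pow_add]
      exact this
    have hh'1 : h' ≠ 1 := fun e => by
      rw [e] at hh'a
      have h3 : (2 : F) • a = 0 := by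
        have : a = -a := hh'a
        linear_combination (norm := module) this
      rcases smul_eq_zero.1 h3 with h4 | h4
      · exact T.two h4
      · exact ha (by rw [h4, zero_dotProduct])
    have hh'' : h'.1 ≠ 1 := fun e => hh'1 (Subtype.ext e)
    obtain ⟨c, hc, hhc⟩ := exists_fixed T.two (T.det _ h'.2)
    have hax := fixSp_eq T hss h'.2 hh'' hc hhc
    have hmem : fixSp h'.1 ∈ axesin K := Finset.mem_image.2 ⟨h', Finset.mem_erase.2 ⟨hh'1, Finset.mem_univ _⟩, rfl⟩
    have horb := hev _ hmem (even_cylin T hh'1 hh'2 (Finset.mem_filter.2 ⟨Finset.mem_univ _, le_rfl⟩))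
    obtain ⟨k, -, hk⟩ := Finset.mem_image.1 horb
    have hd0 : (f (0, some 0)).1.1 (ax 0) = ax 0 := by rw [hf]; simp
    have hd0ne : f (0, some 0) ≠ 1 := fun e => by
      have h1 : (f (0, some 0)).1.1 (ax 1) = -ax 1 := by rw [hf]; simp
      rw [e] at h1
      have h3 : (2 : F) • (ax 1 : Fin 3 → F) = 0 := by
        have : (ax 1 : Fin 3 → F) = -ax 1 := h1
        linear_combination (norm := module) this
      rcases smul_eq_zero.1 h3 with h4 | h4
      · exact T.two h4
      · exact ax_ne_zero _ h4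
    have hconj : k⁻¹ * h' * k = f (0, some 0) := by
      have hin : k⁻¹ * h' * k ∈ cylin K (Submodule.span F {ax 0}) := (mem_cylin_line T).2 (by
        rw [kmul_apply, kmul_apply]
        have : h'.1.1 (k.1.1 (ax 0)) = k.1.1 (ax 0) := mem_fixSp.1 (hk ▸ by
          rw [map_span_line]
          exact Submodule.mem_span_singleton_self _)
        rw [this, kinv_apply])
      have hne' : k⁻¹ * h' * k ≠ 1 := fun e => hh'1 (by
        have := congrArg (fun x => k * x * k⁻¹) e
        simpa [mul_assoc] using this)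
      have hsub : ({k⁻¹ * h' * k, 1} : Finset K) = cylin K (Submodule.span F {ax 0}) :=
        Finset.eq_of_subset_of_card_le
          (by rw [Finset.insert_subset_iff, Finset.singleton_subset_iff]; exact ⟨hin, one_mem_cylin T _⟩)
          (by rw [hm1, Finset.card_insert_of_notMem (by simpa using hne'), Finset.card_singleton])
      have := (mem_cylin_line T).2 hd0
      rw [← hsub, Finset.mem_insert, Finset.mem_singleton] at this
      exact (this.resolve_right hd0ne).symm
    -- a member of the orbit of five-fold axes flipped by a half turn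
    obtain ⟨b₀, hb₀⟩ : ∃ b₀, b₀ = (k⁻¹).1.1 a := ⟨_, rfl⟩
    have hb00 : b₀ 0 = 0 := by
      have e : (f (0, some 0)).1.1 b₀ = -b₀ := by
        rw [← hconj, kmul_apply, kmul_apply, hb₀]
        have : k.1.1 ((k⁻¹).1.1 a) = a := qApply_inv_self _ k.1 a
        rw [this, hh'a, map_neg]
      have h0 := iso_dot T.two (f (0, some 0)).1 (ax 0) b₀
      rw [hd0, e, dotProduct_neg, ax_dot] at h0
      exact (mul_eq_zero.1 (show (2 : F) * b₀ 0 = 0 by linear_combination -h0)).resolve_left T.two
    obtain ⟨t, ht⟩ : ∃ t, t = f (1, none) := ⟨_, rfl⟩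
    obtain ⟨b, hb⟩ : ∃ b, b = (t * t * k⁻¹).1.1 a := ⟨_, rfl⟩
    have hb2 : b 2 = 0 := by
      have htax : ∀ i, t.1.1 (ax i) = ax (i + 1) := fun i => by rw [ht, hf]; simp
      have e : b = t.1.1 (t.1.1 b₀) := by rw [hb, kmul_apply, kmul_apply, hb₀]
      have e0 := iso_dot T.two t.1 (ax 1) (t.1.1 b₀)
      have e1 := iso_dot T.two t.1 (ax 0) b₀
      rw [htax, ax_dot, ← e, ax_dot] at e0
      rw [htax, ax_dot, ax_dot] at e1
      rw [show (1 : Fin 3) + 1 = 2 from rfl] at e0
      rw [show (0 : Fin 3) + 1 = 1 from rfl] at e1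
      rw [e0, e1, hb00]
    have hbb : b ⬝ᵥ b ≠ 0 := by rw [hb, iso_dot T.two]; exact ha
    have hborb : Submodule.span F {b} ∈ orbin K (Submodule.span F {a}) :=
      Finset.mem_image.2 ⟨t * t * k⁻¹, Finset.mem_univ _, by rw [map_span_line, ← hb]⟩
    have hb5 : (cylin K (Submodule.span F {b})).card = 5 := (cylin_orbin T hborb).trans hm5
    obtain ⟨g₀, hg0, hg1, hg2, hgK⟩ := T.turn
    obtain ⟨b', hb'⟩ : ∃ b', b' = g₀.1 b := ⟨_, rfl⟩
    have hbb' : b ⬝ᵥ b' = 0 := by
      have e : b' = b 0 • ax 1 + b 1 • -ax 0 := by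
        rw [hb', eq_sum_ax b, map_sum, Fin.sum_univ_three, map_smul, map_smul, map_smul, hg0, hg1, hg2,
          ← eq_sum_ax b, hb2, zero_smul, add_zero]
      rw [e, dotProduct_add, dotProduct_smul, dotProduct_smul, dotProduct_neg, dot_ax, dot_ax]
      simp only [smul_eq_mul]
      ring
    have hb'5 : Submodule.span F {b'} ∈ orbin K (Submodule.span F {a}) := by
      have hle : 5 ≤ (cylin K (Submodule.span F {b'})).card := by
        rw [← hb5]
        refine Finset.card_le_card_of_injOn (fun x => ⟨g₀ * x.1 * g₀⁻¹, hgK _ x.2⟩) (fun x hx => ?_) ?_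
        · refine (mem_cylin_line T).2 ?_
          simp only [qAut_mul_apply, hb', qInv_apply_self]
          rw [(mem_cylin_line T).1 hx]
        · intro x _ y _ e
          have := congrArg Subtype.val e
          simpa using this
      have hax : Submodule.span F {b'} ∈ axesin K := by
        obtain ⟨x, hx, hx1⟩ := Finset.exists_mem_ne (show 1 < (cylin K (Submodule.span F {b'})).card by omega) 1
        refine Finset.mem_image.2 ⟨x, Finset.mem_erase.2 ⟨hx1, Finset.mem_univ _⟩,
          fixSp_eq T hss x.2 (fun e => hx1 (Subtype.ext e)) (fun h0 => ?_) ((mem_cylin_line T).1 hx)⟩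
        exact hbb (by rw [← iso_dot T.two g₀ b b, ← hb', h0, zero_dotProduct])
      exact hfive _ hax (le_antisymm (hle5 _ hax) hle)
    obtain ⟨O, hO⟩ : ∃ O, O = orbin K (Submodule.span F {b}) := ⟨_, rfl⟩
    have hOa : O = orbin K (Submodule.span F {a}) := hO.trans (orbin_eq T hborb)
    have hO6 : O.card = 6 := by rw [hOa]; exact ho6
    have hmap : ∀ (g : K) (m : Submodule F (Fin 3 → F)), m ∈ O → m.map g.1.1.toLinearMap ∈ O := by
      intro g m hm
      rw [hO] at hm ⊢
      obtain ⟨k, -, rfl⟩ := Finset.mem_image.1 hm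
      exact Finset.mem_image.2 ⟨g * k, Finset.mem_univ _, map_mul_sub g.1 k.1 _⟩
    have hb'b' : b' ⬝ᵥ b' ≠ 0 := by rw [hb', iso_dot T.two]; exact hbb
    have hperp : ∀ m ∈ O, m ≠ Submodule.span F {b} → ∀ z ∈ m, b ⬝ᵥ z = 0 := by
      have hfixb : ∀ x ∈ cylin K (Submodule.span F {b}), x.1.1 b = b := fun x hx => (mem_cylin_line T).1 hx
      have horth : ∀ x ∈ cylin K (Submodule.span F {b}), b ⬝ᵥ x.1.1 b' = 0 := fun x hx => by
        rw [← hfixb x hx, iso_dot T.two, hbb']
      have hsub : (cylin K (Submodule.span F {b})).image (fun x => Submodule.span F {x.1.1 b'}) ⊆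
          O.erase (Submodule.span F {b}) := by
        intro m hm
        obtain ⟨x, hx, rfl⟩ := Finset.mem_image.1 hm
        refine Finset.mem_erase.2 ⟨fun e => ?_, ?_⟩
        · obtain ⟨c, hc⟩ := Submodule.mem_span_singleton.1 (e ▸ Submodule.mem_span_singleton_self (x.1.1 b'))
          have h0 := horth x hx
          rw [← hc, dotProduct_smul, smul_eq_mul] at h0
          rw [(mul_eq_zero.1 h0).resolve_right hbb, zero_smul] at hc
          exact hb'b' (by rw [← iso_dot T.two x.1 b' b', ← hc, zero_dotProduct])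
        · rw [← map_span_line]
          exact hmap x _ (hOa ▸ hb'5)
      have hinj : Set.InjOn (fun x : K => Submodule.span F {x.1.1 b'})
          (cylin K (Submodule.span F {b}) : Set K) := by
        intro x hx y hy e
        obtain ⟨z, hz⟩ : ∃ z, z = y⁻¹ * x := ⟨_, rfl⟩
        have hzb : z.1.1 b = b := by
          rw [hz, kmul_apply, hfixb x hx]
          conv_lhs => arg 2; rw [← hfixb y hy]
          exact kinv_apply y b
        obtain ⟨c, hc⟩ := Submodule.mem_span_singleton.1
          (show x.1.1 b' ∈ Submodule.span F {y.1.1 b'} from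
            (show Submodule.span F {x.1.1 b'} = Submodule.span F {y.1.1 b'} from e) ▸
              Submodule.mem_span_singleton_self _)
        have hzb' : z.1.1 b' = c • b' := by rw [hz, kmul_apply, ← hc, map_smul, kinv_apply]
        have hone : ∀ w : K, w.1.1 b = b → w.1.1 b' = b' → w = 1 := fun w h1 h2 =>
          Subtype.ext (eq_one_of_two_fixed T.two (T.det _ w.2) hbb hb'b' hbb' h1 h2)
        suffices hz1 : z = 1 by rw [hz, inv_mul_eq_one] at hz1; exact hz1.symm
        rcases sign_of_stab T hss hb'b' hzb' with h1 | h1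
        · exact hone z hzb h1
        · have h2 : z * z = 1 := hone _ (by rw [kmul_apply, hzb, hzb])
            (by rw [kmul_apply, h1, map_neg, h1, neg_neg])
          have h5 := pow_cylin T ((mem_cylin_line T).2 hzb)
          rw [hb5, show (5 : ℕ) = 2 + (2 + 1) from rfl, pow_add, pow_add, pow_two, h2, one_mul, one_mul,
            pow_one] at h5
          exact h5
      have heq := Finset.eq_of_subset_of_card_le hsub (by
        rw [Finset.card_image_of_injOn hinj, hb5, Finset.card_erase_of_mem (hO ▸ self_mem_orbin T _), hO6])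
      intro m hm hne z hz
      obtain ⟨x, hx, rfl⟩ := Finset.mem_image.1 (heq ▸ Finset.mem_erase.2 ⟨hne, hm⟩)
      obtain ⟨c, rfl⟩ := Submodule.mem_span_singleton.1 hz
      rw [dotProduct_smul, horth x hx, smul_zero]
    -- six pairwise orthogonal lines
    have hrep : ∀ m ∈ O, ∃ r : Fin 3 → F, r ⬝ᵥ r ≠ 0 ∧ r ∈ m := by
      intro m hm
      rw [hO] at hm
      obtain ⟨k, -, rfl⟩ := Finset.mem_image.1 hm
      exact ⟨k.1.1 b, by rw [iso_dot T.two]; exact hbb,
        Submodule.mem_map_of_mem (f := k.1.1.toLinearMap) (Submodule.mem_span_singleton_self b)⟩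
    choose r hr hrm using hrep
    obtain ⟨ε⟩ : Nonempty (Fin 6 ≃ O) := ⟨(Finset.equivFinOfCardEq hO6).symm⟩
    have hli := linearIndependent_orth (fun i => r _ (ε i).2) (fun i => hr _ (ε i).2) fun i j hij => by
      have hne : (ε i : Submodule F (Fin 3 → F)) ≠ ε j := fun e => hij (ε.injective (Subtype.ext e))
      have hmem' : (ε i : Submodule F (Fin 3 → F)) ∈ orbin K (Submodule.span F {b}) := by
        rw [← hO]; exact (ε i).2
      obtain ⟨k, -, hk⟩ := Finset.mem_image.1 hmem'
      obtain ⟨c, hc⟩ := Submodule.mem_span_singleton.1 (show r _ (ε i).2 ∈ Submodule.span F {k.1.1 b} by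
        rw [← map_span_line, hk]; exact hrm _ _)
      have hne' : (ε j : Submodule F (Fin 3 → F)).map (k⁻¹).1.1.toLinearMap ≠ Submodule.span F {b} := fun e => by
        refine hne (hk.symm.trans ?_)
        rw [← e, ← map_mul_sub, ← Subgroup.coe_mul, mul_inv_cancel]
        exact map_one_sub _
      have h0 := hperp _ (hmap k⁻¹ _ (ε j).2) hne' _
        (Submodule.mem_map_of_mem (f := (k⁻¹).1.1.toLinearMap) (hrm _ (ε j).2))
      change r _ (ε i).2 ⬝ᵥ r _ (ε j).2 = 0
      rw [← hc, smul_dotProduct, dot_inv T.two]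
      change c • (b ⬝ᵥ _) = 0
      rw [show (k.1⁻¹).1 = (k⁻¹).1.1 from rfl]
      rw [show b ⬝ᵥ (k⁻¹).1.1 (r _ (ε j).2) = 0 from h0, smul_zero]
    have := hli.fintype_card_le_finrank
    simp at this

end CfsgLib.Classical22.Frame
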