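/-
Isometries moving only three coordinates, inside an overgroup of the monomial isometries.
-/
import Cfsg.Agent.Lib.Classical22.Frame.Tetra

set_option autoImplicit false

namespace CfsgLib.Classical22.Frame

open Cfsg CfsgLib.Classical
open scoped Matrix

variable {F : Type*} [Field F] [Fintype F]

/-- A rotation group is monomial or contains a non-trivial Eichler transformation. -/
theorem mono_or_eich {K : Subgroup (qAut (sq F 3))} (T : Tri K) :
    (∀ g ∈ K, Mono g) ∨ ∃ x y : Fin 3 → F, x ≠ 0 ∧ x ⬝ᵥ x = 0 ∧ x ⬝ᵥ y = 0 ∧ eich (sq F 3) x y ∈ K ∧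
      eich (sq F 3) x y ≠ 1 := by
  by_cases hss : ∀ g ∈ K, g ≠ 1 → ∀ a : Fin 3 → F, a ≠ 0 → g.1 a = a → a ⬝ᵥ a ≠ 0
  · exact Or.inl (mono_of_ss T hss)
  push Not at hss
  obtain ⟨g, hg, hg1, x, hx0, hgx, hxx⟩ := hss
  obtain ⟨y, hxy, rfl⟩ := eich_of_fixed T.two (T.det g hg) hx0 hxx hgx
  exact Or.inr ⟨x, y, hx0, hxx, hxy, hg, hg1⟩

variable {n : ℕ}

/-- The determinant of an isometry squares to one. -/
theorem dt_mul_self (h2 : (2 : F) ≠ 0) (g : qAut (sq F n)) : dt g * dt g = 1 := by
  obtain ⟨A, hA⟩ : ∃ A, A = LinearMap.toMatrix' g.1.toLinearMap := ⟨_, rfl⟩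
  have hcol : ∀ i j, A i j = g.1 (ax j) i := fun i j => by
    rw [hA, LinearMap.toMatrix'_apply]
    rfl
  have horth : Aᵀ * A = 1 := by
    ext i j
    rw [Matrix.mul_apply]
    simp only [Matrix.transpose_apply, hcol]
    change g.1 (ax i) ⬝ᵥ g.1 (ax j) = _
    rw [iso_dot h2, ax_dot]
    by_cases hij : i = j
    · subst hij; rw [ax_self, Matrix.one_apply_eq]
    · rw [ax_ne hij, Matrix.one_apply_ne hij]
  have hd := congrArg Matrix.det horth
  rw [Matrix.det_mul, Matrix.det_transpose, Matrix.det_one, hA, LinearMap.det_toMatrix'] at hd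
  exact hd

/-- The coordinate embedding along a map of index sets. -/
def emb {m : ℕ} (e : Fin m → Fin n) : (Fin m → F) →ₗ[F] (Fin n → F) where
  toFun x := ∑ i, x i • ax (e i)
  map_add' x y := by simp [add_smul, Finset.sum_add_distrib]
  map_smul' c x := by simp [smul_smul, Finset.smul_sum]

section Emb

variable {m : ℕ} {e : Fin m → Fin n} (he : Function.Injective e)
include he

omit [Fintype F] in
theorem emb_ax (i : Fin m) : emb e (ax i : Fin m → F) = ax (e i) := by
  change ∑ j, (ax i : Fin m → F) j • (ax (e j) : Fin n → F) = _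
  rw [Finset.sum_eq_single i (fun j _ hj => by rw [ax_ne hj, zero_smul]) (fun h => absurd (Finset.mem_univ i) h),
    ax_self, one_smul]

omit [Fintype F] in
theorem emb_apply_self (x : Fin m → F) (i : Fin m) : emb e x (e i) = x i := by
  change (∑ j, x j • (ax (e j) : Fin n → F)) (e i) = x i
  rw [Finset.sum_apply, Finset.sum_eq_single i
    (fun j _ hj => by rw [Pi.smul_apply, ax_ne (fun h => hj (he h.symm)), smul_zero])
    (fun h => absurd (Finset.mem_univ i) h), Pi.smul_apply, ax_self, smul_eq_mul, mul_one]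

omit [Fintype F] in
theorem emb_apply_out (x : Fin m → F) {i : Fin n} (hi : ∀ j, e j ≠ i) : emb e x i = 0 := by
  change (∑ j, x j • (ax (e j) : Fin n → F)) i = 0
  rw [Finset.sum_apply]
  exact Finset.sum_eq_zero fun j _ => by rw [Pi.smul_apply, ax_ne (Ne.symm (hi j)), smul_zero]

omit [Fintype F] in
theorem eq_emb {v : Fin n → F} (hv : ∀ i, (∀ j, e j ≠ i) → v i = 0) : v = emb e fun i => v (e i) :=
  funext fun i => by
    by_cases h : ∃ j, e j = i
    · obtain ⟨j, rfl⟩ := h
      rw [emb_apply_self he]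
    · push Not at h
      rw [hv i h, emb_apply_out he _ h]

omit [Fintype F] in
theorem emb_injective : Function.Injective (emb (F := F) e) := fun x y h => funext fun i => by
  rw [← emb_apply_self he x i, h, emb_apply_self he]

omit [Fintype F] in
theorem emb_dot (x : Fin m → F) (v : Fin n → F) : emb e x ⬝ᵥ v = ∑ i, x i * v (e i) := by
  change (∑ i, x i • ax (e i)) ⬝ᵥ v = _
  rw [sum_dotProduct]
  exact Finset.sum_congr rfl fun i _ => by rw [smul_dotProduct, ax_dot, smul_eq_mul]

omit [Fintype F] in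
theorem emb_dot_emb (x y : Fin m → F) : emb e x ⬝ᵥ emb e y = x ⬝ᵥ y := by
  rw [emb_dot he]
  simp only [emb_apply_self he]
  rfl

/-- An isometry fixing the coordinate axes outside the range fixes every vector vanishing on the range. -/
theorem fix_of_fix_ax {g : qAut (sq F n)} (hg : ∀ i, (∀ j, e j ≠ i) → g.1 (ax i) = ax i) {z : Fin n → F}
    (hz : ∀ j, z (e j) = 0) : g.1 z = z := by
  conv_lhs => rw [eq_sum_ax z, map_sum]
  conv_rhs => rw [eq_sum_ax z]
  refine Finset.sum_congr rfl fun i _ => ?_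
  rw [map_smul]
  by_cases h : ∃ j, e j = i
  · obtain ⟨j, rfl⟩ := h
    rw [hz, zero_smul, zero_smul]
  · push Not at h
    rw [hg i h]

/-- The restriction of an isometry fixing the axes outside the range. -/
theorem exists_restrict (h2 : (2 : F) ≠ 0) {g : qAut (sq F n)}
    (hg : ∀ i, (∀ j, e j ≠ i) → g.1 (ax i) = ax i) :
    ∃ k : qAut (sq F m), ∀ x, g.1 (emb e x) = emb e (k.1 x) := by
  have hin : ∀ (f : qAut (sq F n)), (∀ i, (∀ j, e j ≠ i) → f.1 (ax i) = ax i) → ∀ x,
      f.1 (emb e x) = emb e fun i => f.1 (emb e x) (e i) := fun f hf x => eq_emb he fun i hi => by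
    rw [← dot_ax i (f.1 (emb e x)), ← hf i hi, iso_dot h2, dot_ax, emb_apply_out he x hi]
  have hg' : ∀ i, (∀ j, e j ≠ i) → (g⁻¹).1 (ax i) = ax i := fun i hi => by
    conv_lhs => rw [← hg i hi, qInv_apply_self]
  obtain ⟨L, hL⟩ : ∃ L : (Fin m → F) ≃ₗ[F] (Fin m → F), ∀ x, L x = fun i => g.1 (emb e x) (e i) := by
    refine ⟨LinearEquiv.ofLinearMap
      (LinearMap.pi fun i => (LinearMap.proj (e i)).comp (g.1.toLinearMap.comp (emb e)))
      (LinearMap.pi fun i => (LinearMap.proj (e i)).comp ((g⁻¹).1.toLinearMap.comp (emb e)))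
      (LinearMap.ext fun x => ?_) (LinearMap.ext fun x => ?_), fun x => rfl⟩
    · funext i
      change g.1 (emb e fun i => (g⁻¹).1 (emb e x) (e i)) (e i) = x i
      rw [← hin _ hg', qApply_inv_self, emb_apply_self he]
    · funext i
      change (g⁻¹).1 (emb e fun i => g.1 (emb e x) (e i)) (e i) = x i
      rw [← hin _ hg, qInv_apply_self, emb_apply_self he]
  have hL' : ∀ x, g.1 (emb e x) = emb e (L x) := fun x => by rw [hL]; exact hin g hg x
  exact ⟨⟨L, fun x => by rw [sq_apply, sq_apply, ← emb_dot_emb he, ← hL', iso_dot h2, emb_dot_emb he]⟩, hL'⟩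

omit [Fintype F] in
theorem emb_refl_ax (h2 : (2 : F) ≠ 0) (i : Fin m) (x : Fin m → F) :
    (qRefl (sq F n) (sq_ax_ne (e i))).1 (emb e x) = emb e ((qRefl (sq F m) (sq_ax_ne i)).1 x) := by
  rw [refl_ax_apply h2, refl_ax_apply h2, map_sub, map_smul, emb_ax he, emb_apply_self he]

omit [Fintype F] in
theorem emb_swp (h2 : (2 : F) ≠ 0) {i j : Fin m} (h : i ≠ j) (x : Fin m → F) :
    (swp h2 (he.ne h)).1 (emb e x) = emb e ((swp h2 h).1 x) := by
  rw [swp_apply, swp_apply, map_sub, map_smul, map_sub, emb_ax he, emb_ax he, emb_apply_self he,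
    emb_apply_self he]

end Emb

end CfsgLib.Classical22.Frame
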