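/-
Groups generated by monomial isometries and more, acting on a set of coordinates: the triple lemma.
-/
import Cfsg.Agent.Lib.Classical22.Frame.Lift

set_option autoImplicit false

namespace CfsgLib.Classical22.Frame

open Cfsg CfsgLib.Classical
open scoped Matrix

variable {F : Type*} [Field F] [Fintype F] {n : ℕ}

/-- A group containing the reflections and the three-cycles of a set of coordinates and fixing the others. -/
structure Ctx (G : Subgroup (qAut (sq F n))) (S : Finset (Fin n)) : Prop where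
  two : (2 : F) ≠ 0
  prime : (Fintype.card F).Prime
  card : 5 ≤ S.card
  refl : ∀ i ∈ S, qRefl (sq F n) (sq_ax_ne i) ∈ G
  cyc : ∀ a b c : Fin n, ∀ (hab : a ≠ b) (hbc : b ≠ c), a ≠ c → a ∈ S → b ∈ S → c ∈ S →
    swp two hab * swp two hbc ∈ G
  fixed : ∀ g ∈ G, ∀ i, i ∉ S → g.1 (ax i) = ax i

/-- All Eichler transformations at a vector supported on a set of coordinates lie in the group. -/
def RootAt (G : Subgroup (qAut (sq F n))) (T : Finset (Fin n)) (x : Fin n → F) : Prop :=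
  ∀ y, supp y ⊆ T → x ⬝ᵥ y = 0 → eich (sq F n) x y ∈ G

/-- A singular vector with short support whose Eichler transformations lead out of its support. -/
def Seed (G : Subgroup (qAut (sq F n))) (S : Finset (Fin n)) : Prop :=
  ∃ (T : Finset (Fin n)) (x : Fin n → F), T ⊆ S ∧ T.card ≤ 3 ∧ x ≠ 0 ∧ supp x ⊆ T ∧ x ⬝ᵥ x = 0 ∧
    RootAt G T x ∧ ∃ j ∈ S, j ∉ T ∧ eich (sq F n) x (ax j) ∈ G

/-- The reflection in a vector lies in the group. -/
def InR (G : Subgroup (qAut (sq F n))) (v : Fin n → F) : Prop :=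
  ∃ h : sq F n v ≠ 0, qRefl (sq F n) h ∈ G

variable {G : Subgroup (qAut (sq F n))}

omit [Fintype F] in
theorem InR.map {v : Fin n → F} (hv : InR G v) {g : qAut (sq F n)} (hg : g ∈ G) : InR G (g.1 v) := by
  obtain ⟨h, hr⟩ := hv
  have h' : sq F n (g.1 v) ≠ 0 := by rwa [qAut_map]
  exact ⟨h', qRefl_conj (sq F n) g h h' ▸ G.mul_mem (G.mul_mem hg hr) (G.inv_mem hg)⟩

omit [Fintype F] in
theorem InR.smul {v : Fin n → F} (hv : InR G v) {t : F} (ht : t ≠ 0) : InR G (t • v) := by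
  obtain ⟨h, hr⟩ := hv
  have h' : sq F n (t • v) ≠ 0 := by rw [quad_smul]; exact mul_ne_zero (mul_ne_zero ht ht) h
  exact ⟨h', (qRefl_smul _ h h').symm ▸ hr⟩

omit [Fintype F] in
theorem InR.neg {v : Fin n → F} (hv : InR G v) : InR G (-v) := by
  rw [← neg_one_smul F v]
  exact hv.smul (neg_ne_zero.2 one_ne_zero)

variable {S : Finset (Fin n)}

theorem Ctx.dswap (C : Ctx G S) {a b p q : Fin n} (hab : a ≠ b) (hpq : p ≠ q) (hap : a ≠ p) (hbp : b ≠ p)
    (hbq : b ≠ q) (ha : a ∈ S) (hb : b ∈ S) (hp : p ∈ S) (hq : q ∈ S) :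
    swp C.two hab * swp C.two hpq ∈ G := by
  have h := G.mul_mem (C.cyc a b p hab hbp hap ha hb hp) (C.cyc b p q hbp hpq hbq hb hp hq)
  have e : swp C.two hab * swp C.two hbp * (swp C.two hbp * swp C.two hpq) = swp C.two hab * swp C.two hpq := by
    rw [mul_assoc, ← mul_assoc (swp C.two hbp) (swp C.two hbp), show swp C.two hbp * swp C.two hbp = 1 from qRefl_mul_self _ _,
      one_mul]
  rwa [e] at h

theorem Ctx.exists_outside (C : Ctx G S) (A : Finset (Fin n)) {k : ℕ} (hk : A.card + k ≤ 5) :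
    ∃ f : Fin k → Fin n, Function.Injective f ∧ ∀ i, f i ∈ S ∧ f i ∉ A := by
  have hc : k ≤ (S \ A).card := by
    have := Finset.le_card_sdiff A S
    have := C.card
    omega
  obtain ⟨B, hB, hBc⟩ := Finset.exists_subset_card_eq hc
  refine ⟨fun i => ((Finset.equivFinOfCardEq hBc).symm i).1,
    fun i j h => (Finset.equivFinOfCardEq hBc).symm.injective (Subtype.ext h), fun i => ?_⟩
  have := hB ((Finset.equivFinOfCardEq hBc).symm i).2
  exact ⟨(Finset.mem_sdiff.1 this).1, (Finset.mem_sdiff.1 this).2⟩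

theorem three_cases : ∀ a j : Fin 3, j = a ∨ j = a + 1 ∨ j = a + 2 := by decide

theorem three_ne : ∀ a : Fin 3, a ≠ a + 1 ∧ a ≠ a + 2 ∧ a + 1 ≠ a + 2 := by decide

section Triple

variable {e : Fin 3 → Fin n} (he : Function.Injective e)
include he

omit [Fintype F] in
theorem emb_eich (h2 : (2 : F) ≠ 0) {x y z : Fin 3 → F} (hxx : x ⬝ᵥ x = 0) (hxy : x ⬝ᵥ y = 0) :
    (eich (sq F n) (emb e x) (emb e y)).1 (emb e z) = emb e ((eich (sq F 3) x y).1 z) := by
  rw [eich_apply' h2 (by rw [emb_dot_emb he, hxx]) (by rw [emb_dot_emb he, hxy]), eich_apply' h2 hxx hxy]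
  simp only [emb_dot_emb he, map_add, map_sub, map_smul]

/-- A non-monomial element of the group moving only three coordinates gives root data there. -/
theorem Ctx.root_of_triple (C : Ctx G S) (heS : ∀ i, e i ∈ S) {g : qAut (sq F n)} (hg : g ∈ G)
    (hfix : ∀ i, (∀ j, e j ≠ i) → g.1 (ax i) = ax i) (hnm : ¬ Mono g) :
    ∃ x : Fin n → F, x ≠ 0 ∧ supp x ⊆ Finset.univ.image e ∧ x ⬝ᵥ x = 0 ∧
      RootAt G (Finset.univ.image e) x := by
  have h2 := C.two
  obtain ⟨K, hK⟩ : ∃ K : Subgroup (qAut (sq F 3)), ∀ k, k ∈ K ↔ dt k = 1 ∧ ∃ f ∈ G,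
      (∀ x, f.1 (emb e x) = emb e (k.1 x)) ∧ ∀ i, (∀ j, e j ≠ i) → f.1 (ax i) = ax i := by
    refine ⟨{ carrier := {k | dt k = 1 ∧ ∃ f ∈ G, (∀ x, f.1 (emb e x) = emb e (k.1 x)) ∧
                ∀ i, (∀ j, e j ≠ i) → f.1 (ax i) = ax i}
              one_mem' := ⟨dt_one, 1, G.one_mem, fun x => rfl, fun i _ => rfl⟩
              mul_mem' := ?_
              inv_mem' := ?_ }, fun k => Iff.rfl⟩
    · rintro a b ⟨ha, fa, hfa, ha1, ha2⟩ ⟨hb, fb, hfb, hb1, hb2⟩
      exact ⟨by rw [dt_mul, ha, hb, one_mul], fa * fb, G.mul_mem hfa hfb,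
        fun x => by rw [qAut_mul_apply, hb1, ha1, qAut_mul_apply],
        fun i hi => by rw [qAut_mul_apply, hb2 i hi, ha2 i hi]⟩
    · rintro a ⟨ha, fa, hfa, ha1, ha2⟩
      refine ⟨?_, fa⁻¹, G.inv_mem hfa, fun x => ?_, fun i hi => ?_⟩
      · have h := dt_mul a⁻¹ a
        rw [inv_mul_cancel, dt_one, ha, mul_one] at h
        exact h.symm
      · conv_lhs => rw [← qApply_inv_self (sq F 3) a x, ← ha1, qInv_apply_self]
      · conv_lhs => rw [← ha2 i hi, qInv_apply_self]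
  have hdr : ∀ i j : Fin 3, dt (qRefl (sq F 3) (sq_ax_ne (F := F) i) * qRefl (sq F 3) (sq_ax_ne j)) = 1 :=
    fun i j => by rw [dt_mul, dt_refl, dt_refl]; ring
  have T : Tri K := by
    refine ⟨h2, fun k hk => ((hK k).1 hk).1, fun i => ?_, ?_, ?_⟩
    · refine ⟨qRefl (sq F 3) (sq_ax_ne (i + 1)) * qRefl (sq F 3) (sq_ax_ne (i + 2)), (hK _).2 ⟨hdr _ _,
        qRefl (sq F n) (sq_ax_ne (e (i + 1))) * qRefl (sq F n) (sq_ax_ne (e (i + 2))),
        G.mul_mem (C.refl _ (heS _)) (C.refl _ (heS _)), fun x => ?_, fun l hl => ?_⟩, ?_, fun j hj => ?_⟩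
      · rw [qAut_mul_apply, emb_refl_ax he h2, emb_refl_ax he h2, qAut_mul_apply]
      · rw [qAut_mul_apply, refl_ax_fix (ax_ne (hl _)), refl_ax_fix (ax_ne (hl _))]
      · rw [qAut_mul_apply, refl_ax_fix (ax_ne (by fin_cases i <;> decide)),
          refl_ax_fix (ax_ne (by fin_cases i <;> decide))]
      · rcases (show j = i + 1 ∨ j = i + 2 by revert hj; revert i j; decide) with rfl | rfl
        · rw [qAut_mul_apply, refl_ax_fix (ax_ne (by fin_cases i <;> decide)), refl_ax_self]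
        · rw [qAut_mul_apply, refl_ax_self, map_neg, refl_ax_fix (ax_ne (by fin_cases i <;> decide))]
    · have h01 : (0 : Fin 3) ≠ 1 := by decide
      have h12 : (1 : Fin 3) ≠ 2 := by decide
      refine ⟨swp h2 h01 * swp h2 h12, (hK _).2 ⟨by rw [dt_mul, swp, swp, dt_refl, dt_refl]; ring,
        swp h2 (he.ne h01) * swp h2 (he.ne h12),
        C.cyc _ _ _ _ _ (he.ne (by decide)) (heS _) (heS _) (heS _), fun x => ?_, fun l hl => ?_⟩, fun i => ?_⟩
      · rw [qAut_mul_apply, emb_swp he h2 h12, emb_swp he h2 h01, qAut_mul_apply]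
      · rw [qAut_mul_apply, swp_other _ _ (hl _) (hl _), swp_other _ _ (hl _) (hl _)]
      · fin_cases i
        · change (swp h2 h01 * swp h2 h12).1 (ax (0 : Fin 3)) = ax 1
          rw [qAut_mul_apply, swp_other _ _ (by decide) (by decide), swp_left]
        · change (swp h2 h01 * swp h2 h12).1 (ax (1 : Fin 3)) = ax 2
          rw [qAut_mul_apply, swp_left, swp_other _ _ (by decide) (by decide)]
        · change (swp h2 h01 * swp h2 h12).1 (ax (2 : Fin 3)) = ax 0
          rw [qAut_mul_apply, swp_right, swp_right]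
    · have h01 : (0 : Fin 3) ≠ 1 := by decide
      obtain ⟨f, hf, hfS⟩ := C.exists_outside (Finset.univ.image e) (k := 2) (by
        have := (Finset.card_image_le (s := (Finset.univ : Finset (Fin 3))) (f := e))
        simp at this ⊢; omega)
      have hout : ∀ (i : Fin 3) (j : Fin 2), e i ≠ f j := fun i j h =>
        (hfS j).2 (Finset.mem_image.2 ⟨i, Finset.mem_univ _, h⟩)
      have hf01 : f 0 ≠ f 1 := hf.ne (by decide)
      obtain ⟨γ, hγ⟩ : ∃ γ, γ = qRefl (sq F n) (sq_ax_ne (e 0)) * (swp h2 (he.ne h01) * swp h2 hf01) := ⟨_, rfl⟩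
      have hγG : γ ∈ G := hγ ▸ G.mul_mem (C.refl _ (heS _))
        (C.dswap _ _ (hout _ _) (hout _ _) (hout _ _) (heS _) (heS _) (hfS _).1 (hfS _).1)
      obtain ⟨g₀, hg₀⟩ : ∃ g₀, g₀ = qRefl (sq F 3) (sq_ax_ne 0) * swp h2 h01 := ⟨_, rfl⟩
      have hγe : ∀ x, γ.1 (emb e x) = emb e (g₀.1 x) := fun x => by
        rw [hγ, qAut_mul_apply, qAut_mul_apply, show (swp h2 hf01).1 (emb e x) = emb e x by
          rw [swp_apply, emb_apply_out he x (fun j => hout j 0), emb_apply_out he x (fun j => hout j 1), sub_self,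
            zero_smul, sub_zero], emb_swp he h2 h01, emb_refl_ax he h2, hg₀, qAut_mul_apply]
      refine ⟨g₀, ?_, ?_, ?_, fun k hk => ?_⟩
      · rw [hg₀, qAut_mul_apply, swp_left, refl_ax_fix (ax_ne (by decide))]
      · rw [hg₀, qAut_mul_apply, swp_right, refl_ax_self]
      · rw [hg₀, qAut_mul_apply, swp_other _ _ (by decide) (by decide), refl_ax_fix (ax_ne (by decide))]
      · obtain ⟨hdk, f', hf', hf'1, hf'2⟩ := (hK k).1 hk
        refine (hK _).2 ⟨?_, γ * f' * γ⁻¹, G.mul_mem (G.mul_mem hγG hf') (G.inv_mem hγG), fun x => ?_,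
          fun i hi => ?_⟩
        · have h := dt_mul g₀ g₀⁻¹
          rw [mul_inv_cancel, dt_one] at h
          rw [dt_mul, dt_mul, hdk, mul_one, ← h]
        · rw [qAut_mul_apply, qAut_mul_apply]
          conv_lhs => arg 2; arg 2; rw [← qApply_inv_self (sq F 3) g₀ x, ← hγe, qInv_apply_self]
          rw [hf'1, hγe, qAut_mul_apply, qAut_mul_apply]
        · rw [qAut_mul_apply, qAut_mul_apply, fix_of_fix_ax he hf'2 fun j => ?_, qApply_inv_self]
          rw [← dot_ax (e j) ((γ⁻¹).1 (ax i)), ← emb_ax he j, dot_inv h2, inv_inv, hγe, ax_dot,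
            emb_apply_out he _ hi]
  -- the given element
  obtain ⟨k, hk⟩ := exists_restrict he h2 hfix
  have hkm : ¬ Mono k := fun hm => hnm fun i => by
    by_cases h : ∃ j, e j = i
    · obtain ⟨j, rfl⟩ := h
      obtain ⟨l, c, hl⟩ := hm j
      exact ⟨e l, c, by rw [← emb_ax he j, hk, hl, map_smul, emb_ax he]⟩
    · push Not at h
      exact ⟨i, 1, by rw [hfix i h, one_smul]⟩
  obtain ⟨k', hk'K, hk'm⟩ : ∃ k' ∈ K, ¬ Mono k' := by
    rcases mul_self_eq_one_iff.1 (dt_mul_self h2 k) with h | h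
    · exact ⟨k, (hK k).2 ⟨h, g, hg, hk, hfix⟩, hkm⟩
    refine ⟨qRefl (sq F 3) (sq_ax_ne 0) * k, (hK _).2 ⟨by rw [dt_mul, dt_refl, h]; ring,
      qRefl (sq F n) (sq_ax_ne (e 0)) * g, G.mul_mem (C.refl _ (heS _)) hg, fun x => ?_, fun i hi => ?_⟩, fun hm => ?_⟩
    · rw [qAut_mul_apply, hk, emb_refl_ax he h2, qAut_mul_apply]
    · rw [qAut_mul_apply, hfix i hi, refl_ax_fix (ax_ne (hi _))]
    · have hr : qRefl (sq F 3) (sq_ax_ne (F := F) 0) ∈ monoGroup F 3 := fun i => by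
        by_cases hi : i = 0
        · subst hi; exact ⟨0, -1, by rw [refl_ax_self, neg_one_smul]⟩
        · exact ⟨i, 1, by rw [refl_ax_fix (ax_ne (Ne.symm hi)), one_smul]⟩
      have := Subgroup.mul_mem _ (Subgroup.inv_mem _ hr) (mem_monoGroup.2 hm)
      rw [inv_mul_cancel_left] at this
      exact hkm this
  rcases mono_or_eich T with hall | ⟨x, y, hx0, hxx, hxy, hmem, hne⟩
  · exact absurd (hall k' hk'K) hk'm
  obtain ⟨-, f, hfG, hf1, hf2⟩ := (hK _).1 hmem
  have hXX : emb e x ⬝ᵥ emb e x = 0 := by rw [emb_dot_emb he, hxx]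
  have hXY : emb e x ⬝ᵥ emb e y = 0 := by rw [emb_dot_emb he, hxy]
  have hfE : f = eich (sq F n) (emb e x) (emb e y) := by
    refine qAut_ext fun z => ?_
    rw [eq_sum_ax z, map_sum, map_sum]
    refine Finset.sum_congr rfl fun i _ => ?_
    rw [map_smul, map_smul]
    congr 1
    by_cases h : ∃ j, e j = i
    · obtain ⟨j, rfl⟩ := h
      rw [← emb_ax he j, hf1, emb_eich he h2 hxx hxy]
    · push Not at h
      rw [hf2 i h, eich_apply' h2 hXX hXY, ax_dot, ax_dot, emb_apply_out he x h, emb_apply_out he y h]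
      simp
  rw [hfE] at hfG
  have hsupp : ∀ v : Fin 3 → F, supp (emb e v) ⊆ Finset.univ.image e := fun v => supp_subset fun i hi =>
    emb_apply_out he v fun j hj => hi (Finset.mem_image.2 ⟨j, Finset.mem_univ _, hj⟩)
  refine ⟨emb e x, fun h => hx0 (emb_injective he (by rw [h, map_zero])), hsupp x, hXX, fun u hu hxu => ?_⟩
  obtain ⟨a, ha⟩ : ∃ a, x a ≠ 0 := Function.ne_iff.1 hx0
  have hT : ∀ v : Fin n → F, supp v ⊆ Finset.univ.image e → supp v ⊆ {e a, e (a + 1), e (a + 2)} :=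
    fun v hv i hi => by
      obtain ⟨j, -, rfl⟩ := Finset.mem_image.1 (hv hi)
      rcases (three_cases a j) with rfl | rfl | rfl <;> simp
  have hab : e a ≠ e (a + 1) := he.ne (three_ne a).1
  have hac : e a ≠ e (a + 2) := he.ne (three_ne a).2.1
  have hbc : e (a + 1) ≠ e (a + 2) := he.ne (three_ne a).2.2
  have hXa : emb e x (e a) ≠ 0 := by rwa [emb_apply_self he]
  obtain ⟨W, hW⟩ : ∃ W, W = perpVec (emb e x) (e (a + 1)) (e (a + 2)) := ⟨_, rfl⟩
  have hXW : emb e x ⬝ᵥ W = 0 := hW ▸ perpVec_perp hab hac hbc (hT _ (hsupp x))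
  have hXp : ∀ w, emb e x ⬝ᵥ w = 0 → QuadraticMap.polar (sq F n) (emb e x) w = 0 := fun w hw => by
    rw [polar_sq, hw, mul_zero]
  have hX0 : sq F n (emb e x) = 0 := by rw [sq_apply, hXX]
  have hsplit : ∀ v : Fin n → F, supp v ⊆ Finset.univ.image e → emb e x ⬝ᵥ v = 0 →
      ∃ t, eich (sq F n) (emb e x) v = eich (sq F n) (emb e x) (t • W) := fun v hv hv0 => by
    obtain ⟨s, t, rfl⟩ := eq_of_perp_triple hab hac hbc (hT _ (hsupp x)) (hT v hv) hXX hv0 hXa
    rw [← hW]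
    exact ⟨t, by rw [add_comm (s • emb e x), eich_add_self _ hX0 (hXp _ (by rw [dotProduct_smul, hXW, smul_zero]))]⟩
  obtain ⟨t, ht⟩ := hsplit _ (hsupp y) hXY
  have ht0 : t ≠ 0 := by
    rintro rfl
    rw [zero_smul, eich_zero _ hX0] at ht
    refine hne (qAut_ext fun z => emb_injective he ?_)
    rw [← emb_eich he h2 hxx hxy, ht]
    rfl
  obtain ⟨t', ht'⟩ := hsplit u hu hxu
  rw [ht', show t' • W = (t' / t) • (t • W) by rw [smul_smul, div_mul_cancel₀ _ ht0]]
  exact eich_smul_mem C.prime hX0 (hXp _ (by rw [dotProduct_smul, hXW, smul_zero])) (ht ▸ hfG) _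

end Triple

end CfsgLib.Classical22.Frame
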