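/-
Root data on three coordinates lead out of them.
-/
import Cfsg.Agent.Lib.Classical22.Frame.Ctx

set_option autoImplicit false

namespace CfsgLib.Classical22.Frame

open Cfsg CfsgLib.Classical
open scoped Matrix

variable {F : Type*} [Field F] [Fintype F] {n : ℕ} {G : Subgroup (qAut (sq F n))} {S T : Finset (Fin n)}

omit [Fintype F] in
theorem supp_add {u v : Fin n → F} (hu : supp u ⊆ T) (hv : supp v ⊆ T) : supp (u + v) ⊆ T :=
  supp_subset fun i hi => by rw [Pi.add_apply, eq_zero_of_supp hu hi, eq_zero_of_supp hv hi, add_zero]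

omit [Fintype F] in
theorem supp_sub {u v : Fin n → F} (hu : supp u ⊆ T) (hv : supp v ⊆ T) : supp (u - v) ⊆ T :=
  supp_subset fun i hi => by rw [Pi.sub_apply, eq_zero_of_supp hu hi, eq_zero_of_supp hv hi, sub_zero]

omit [Fintype F] in
theorem supp_smul_le {u : Fin n → F} (hu : supp u ⊆ T) (c : F) : supp (c • u) ⊆ T :=
  supp_subset fun i hi => by rw [Pi.smul_apply, eq_zero_of_supp hu hi, smul_zero]

omit [Fintype F] in
theorem supp_ax_le {i : Fin n} (hi : i ∈ T) : supp (ax i : Fin n → F) ⊆ T := by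
  rw [supp_ax]
  exact Finset.singleton_subset_iff.2 hi

omit [Fintype F] in
theorem supp_eich (h2 : (2 : F) ≠ 0) {x w y : Fin n → F} (hx : supp x ⊆ T) (hw : supp w ⊆ T) (hy : supp y ⊆ T)
    (hxx : x ⬝ᵥ x = 0) (hxw : x ⬝ᵥ w = 0) : supp ((eich (sq F n) x w).1 y) ⊆ T := by
  rw [eich_apply' h2 hxx hxw]
  exact supp_sub (supp_add hy (supp_smul_le hw _)) (supp_smul_le hx _)

omit [Fintype F] in
theorem supp_eich_inv (h2 : (2 : F) ≠ 0) {x w y : Fin n → F} (hx : supp x ⊆ T) (hw : supp w ⊆ T) (hy : supp y ⊆ T)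
    (hxx : x ⬝ᵥ x = 0) (hxw : x ⬝ᵥ w = 0) : supp (((eich (sq F n) x w)⁻¹).1 y) ⊆ T := by
  rw [eich_inv _ (by rw [sq_apply, hxx]) (by rw [polar_sq, hxw, mul_zero])]
  refine supp_eich h2 hx ?_ hy hxx (by rw [dotProduct_neg, hxw, neg_zero])
  rw [← neg_one_smul F w]
  exact supp_smul_le hw _

omit [Fintype F] in
theorem RootAt.map (h2 : (2 : F) ≠ 0) {x : Fin n → F} (hx : RootAt G T x) (hxx : x ⬝ᵥ x = 0) {g : qAut (sq F n)}
    (hg : g ∈ G) (hgT : ∀ y, supp y ⊆ T → supp ((g⁻¹).1 y) ⊆ T) : RootAt G T (g.1 x) := by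
  intro y hy hxy
  obtain ⟨y', rfl⟩ : ∃ y', g.1 y' = y := ⟨_, qApply_inv_self _ g y⟩
  rw [iso_dot h2] at hxy
  have h := hx y' (by simpa [qInv_apply_self] using hgT _ hy) hxy
  rw [← eich_conj (sq F n) g (by rw [sq_apply, hxx]) (by rw [polar_sq, hxy, mul_zero])]
  exact G.mul_mem (G.mul_mem hg h) (G.inv_mem hg)

omit [Fintype F] in
theorem RootAt.smul (h2 : (2 : F) ≠ 0) {x : Fin n → F} (hx : RootAt G T x) (hxx : x ⬝ᵥ x = 0) {t : F} (ht : t ≠ 0) :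
    RootAt G T (t • x) := by
  intro y hy hxy
  rw [smul_dotProduct, smul_eq_mul] at hxy
  have hxy' := (mul_eq_zero.1 hxy).resolve_left ht
  rw [eich_smul_left _ (by rw [sq_apply, hxx]) (by rw [polar_sq, hxy', mul_zero])]
  exact hx _ (supp_smul_le hy t) (by rw [dotProduct_smul, hxy', smul_zero])

omit [Fintype F] in
/-- Root data at two opposite points spread to a third one. -/
theorem RootAt.shift (h2 : (2 : F) ≠ 0) {x v z : Fin n → F} (hx : RootAt G T x) (hv : RootAt G T v)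
    (hxT : supp x ⊆ T) (hvT : supp v ⊆ T) (hzT : supp z ⊆ T) (hxx : x ⬝ᵥ x = 0) (hvv : v ⬝ᵥ v = 0)
    (hzz : z ⬝ᵥ z = 0) (hvx : v ⬝ᵥ x ≠ 0) (hzx : z ⬝ᵥ x ≠ 0) : RootAt G T z := by
  obtain ⟨c, hc⟩ : ∃ c, c = (v ⬝ᵥ x) / (z ⬝ᵥ x) := ⟨_, rfl⟩
  have hc0 : c ≠ 0 := hc ▸ div_ne_zero hvx hzx
  obtain ⟨hperp, hmove⟩ := eich_shift h2 hxx hvx (z := c • z)
    (by rw [smul_dotProduct, smul_eq_mul, hc, div_mul_cancel₀ _ hzx])
    (by rw [smul_dotProduct, dotProduct_smul, hzz, smul_zero, smul_zero, hvv])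
  obtain ⟨w, hw⟩ : ∃ w, w = (2 * (v ⬝ᵥ x))⁻¹ • (c • z - v) := ⟨_, rfl⟩
  rw [← hw] at hperp hmove
  have hwT : supp w ⊆ T := hw ▸ supp_smul_le (supp_sub (supp_smul_le hzT c) hvT) _
  have h := RootAt.map h2 hv hvv (g := eich (sq F n) x w) (hx w hwT hperp)
    (fun y hy => supp_eich_inv h2 hxT hwT hy hxx hperp)
  rw [hmove] at h
  have h' := RootAt.smul h2 h (by rw [smul_dotProduct, dotProduct_smul, hzz, smul_zero, smul_zero]) (inv_ne_zero hc0)
  rwa [smul_smul, inv_mul_cancel₀ hc0, one_smul] at h'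

theorem char_odd_card (h2 : (2 : F) ≠ 0) : Fintype.card F % 2 = 1 :=
  FiniteField.odd_card_of_char_ne_two fun h => h2 (by
    haveI := ringChar.of_eq h
    exact CharTwo.two_eq_zero)

/-- A diagonal binary quadratic form represents every value. -/
theorem exists_diag_value (h2 : (2 : F) ≠ 0) {a b : F} (ha : a ≠ 0) (hb : b ≠ 0) (r : F) :
    ∃ s t, a * (s * s) + b * (t * t) = r := by
  obtain ⟨s, t, hst⟩ := FiniteField.exists_root_sum_quadratic
    (f := Polynomial.C a * Polynomial.X ^ 2) (g := Polynomial.C b * Polynomial.X ^ 2 - Polynomial.C r)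
    (Polynomial.degree_C_mul_X_pow 2 ha)
    (by rw [Polynomial.degree_sub_C (by rw [Polynomial.degree_C_mul_X_pow 2 hb]; decide),
      Polynomial.degree_C_mul_X_pow 2 hb]; rfl) (char_odd_card h2)
  simp only [Polynomial.eval_mul, Polynomial.eval_C, Polynomial.eval_pow, Polynomial.eval_X,
    Polynomial.eval_sub] at hst
  exact ⟨s, t, by linear_combination hst⟩

variable {a b c : Fin n} {x : Fin n → F}

omit [Fintype F] in
theorem dot_flip (h2 : (2 : F) ≠ 0) (hxx : x ⬝ᵥ x = 0) :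
    (qRefl (sq F n) (sq_ax_ne a)).1 x ⬝ᵥ x = -(2 * (x a * x a)) := by
  rw [refl_ax_apply h2, sub_dotProduct, smul_dotProduct, ax_dot, hxx, smul_eq_mul]
  ring

omit [Fintype F] in
theorem flip_supp (h2 : (2 : F) ≠ 0) (haT : a ∈ T) {y : Fin n → F} (hy : supp y ⊆ T) :
    supp ((qRefl (sq F n) (sq_ax_ne a)).1 y) ⊆ T := by
  rw [refl_ax_apply h2]
  exact supp_sub hy (supp_smul_le (supp_ax_le haT) _)

omit [Fintype F] in
theorem RootAt.flip (h2 : (2 : F) ≠ 0) (hr : qRefl (sq F n) (sq_ax_ne a) ∈ G) (haT : a ∈ T)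
    (hx : RootAt G T x) (hxx : x ⬝ᵥ x = 0) : RootAt G T ((qRefl (sq F n) (sq_ax_ne a)).1 x) :=
  RootAt.map h2 hx hxx hr fun y hy => by rw [qRefl_inv]; exact flip_supp h2 haT hy

/-- Root data and a square root of minus one. -/
theorem Ctx.seed_of_sqrt (C : Ctx G S) (hab : a ≠ b) (hac : a ≠ c) (hbc : b ≠ c) (ha : a ∈ S) (hb : b ∈ S)
    (hc : c ∈ S) (hx : RootAt G {a, b, c} x) (hxT : supp x ⊆ {a, b, c}) (hxx : x ⬝ᵥ x = 0) (hxa : x a ≠ 0)
    {ι : F} (hι : ι * ι = -1) : Seed G S := by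
  have h2 := C.two
  obtain ⟨κ, hκ, hκx⟩ : ∃ κ : F, κ * κ = -1 ∧ x a + κ * x b ≠ 0 := by
    by_cases h : x a + ι * x b = 0
    · refine ⟨-ι, by rw [neg_mul_neg, hι], fun h' => hxa ?_⟩
      exact (mul_eq_zero.1 (show (2 : F) * x a = 0 by linear_combination h + h')).resolve_left h2
    · exact ⟨ι, hι, h⟩
  obtain ⟨x₀, hx₀⟩ : ∃ x₀ : Fin n → F, x₀ = ax a + κ • ax b := ⟨_, rfl⟩
  have hTS : ({a, b, c} : Finset (Fin n)) ⊆ S := by
    simp [Finset.insert_subset_iff, ha, hb, hc]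
  have hx0T : supp x₀ ⊆ {a, b, c} := hx₀ ▸ supp_add (supp_ax_le (by simp)) (supp_smul_le (supp_ax_le (by simp)) _)
  have hx00 : x₀ ⬝ᵥ x₀ = 0 := by
    rw [hx₀]
    simp only [add_dotProduct, dotProduct_add, smul_dotProduct, dotProduct_smul, ax_dot, ax_self, ax_ne hab,
      ax_ne (Ne.symm hab), smul_eq_mul]
    linear_combination hκ
  have hx0x : x₀ ⬝ᵥ x ≠ 0 := by
    rwa [hx₀, add_dotProduct, smul_dotProduct, ax_dot, ax_dot, smul_eq_mul]
  have hroot : RootAt G {a, b, c} x₀ := by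
    refine RootAt.shift h2 hx (RootAt.flip h2 (C.refl a ha) (by simp) hx hxx) hxT
      (flip_supp h2 (by simp) hxT) hx0T hxx (by rw [iso_dot h2, hxx]) hx00 ?_ hx0x
    rw [dot_flip h2 hxx, neg_ne_zero]
    exact mul_ne_zero h2 (mul_ne_zero hxa hxa)
  have hc0 : x₀ ⬝ᵥ ax c = 0 := by
    rw [hx₀, add_dotProduct, smul_dotProduct, ax_dot, ax_dot, ax_ne hac, ax_ne hbc, smul_zero, add_zero]
  obtain ⟨f, hf, hfS⟩ := C.exists_outside {a, b, c} (k := 2) (by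
    have : ({a, b, c} : Finset (Fin n)).card ≤ 3 := Finset.card_le_three
    omega)
  have hout : ∀ i, f i ≠ a ∧ f i ≠ b ∧ f i ≠ c := fun i => by
    have := (hfS i).2
    simp only [Finset.mem_insert, Finset.mem_singleton, not_or] at this
    exact this
  have hcj : c ≠ f 0 := Ne.symm (hout 0).2.2
  have h01 : f 0 ≠ f 1 := hf.ne (by decide)
  have hτ := C.cyc c (f 0) (f 1) hcj h01 (Ne.symm (hout 1).2.2) hc (hfS 0).1 (hfS 1).1
  have hfix : ∀ d, c ≠ d → f 0 ≠ d → f 1 ≠ d →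
      (swp C.two hcj * swp C.two h01).1 (ax d) = ax d := fun d d1 d2 d3 => by
    rw [qAut_mul_apply, swp_other _ _ d2 d3, swp_other _ _ d1 d2]
  have h := G.mul_mem (G.mul_mem hτ (hroot _ (supp_ax_le (by simp)) hc0)) (G.inv_mem hτ)
  rw [eich_conj (sq F n) _ (by rw [sq_apply, hx00]) (by rw [polar_sq, hc0, mul_zero])] at h
  have e1 : (swp C.two hcj * swp C.two h01).1 x₀ = x₀ := by
    rw [hx₀, map_add, map_smul, hfix a (Ne.symm hac) (hout 0).1 (hout 1).1,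
      hfix b (Ne.symm hbc) (hout 0).2.1 (hout 1).2.1]
  have e2 : (swp C.two hcj * swp C.two h01).1 (ax c) = ax (f 0) := by
    rw [qAut_mul_apply, swp_other _ _ (hout 0).2.2 (hout 1).2.2, swp_left]
  rw [e1, e2] at h
  refine ⟨{a, b, c}, x₀, hTS, Finset.card_le_three, fun h0 => ?_, hx0T, hx00, hroot, f 0, (hfS 0).1, (hfS 0).2, h⟩
  have := congrFun h0 a
  rw [hx₀, Pi.add_apply, Pi.smul_apply, ax_self, ax_ne hab, smul_zero, add_zero] at this
  exact one_ne_zero this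

/-- Unit vectors not orthogonal to the root point give reflections. -/
theorem Ctx.inR_of_unit (C : Ctx G S) (hab : a ≠ b) (hac : a ≠ c) (hbc : b ≠ c) (ha : a ∈ S)
    (hx : RootAt G {a, b, c} x) (hxT : supp x ⊆ {a, b, c}) (hxx : x ⬝ᵥ x = 0) (hxa : x a ≠ 0)
    (hns : ∀ ι : F, ι * ι ≠ -1) {z : Fin n → F} (hzT : supp z ⊆ {a, b, c}) (hzz : z ⬝ᵥ z = 1)
    (hzx : z ⬝ᵥ x ≠ 0) : InR G z := by
  have h2 := C.two
  obtain ⟨x', hx'⟩ : ∃ x', x' = (qRefl (sq F n) (sq_ax_ne a)).1 x := ⟨_, rfl⟩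
  have hx'r : RootAt G {a, b, c} x' := hx' ▸ RootAt.flip h2 (C.refl a ha) (by simp) hx hxx
  have hx'T : supp x' ⊆ {a, b, c} := hx' ▸ flip_supp h2 (by simp) hxT
  have hx'x' : x' ⬝ᵥ x' = 0 := by rw [hx', iso_dot h2, hxx]
  obtain ⟨k, hk⟩ : ∃ k, k = x' ⬝ᵥ x := ⟨_, rfl⟩
  have hkv : k = -(2 * (x a * x a)) := by rw [hk, hx', dot_flip h2 hxx]
  have hk0 : k ≠ 0 := by rw [hkv, neg_ne_zero]; exact mul_ne_zero h2 (mul_ne_zero hxa hxa)
  obtain ⟨w, hw⟩ : ∃ w, w = perpVec x b c := ⟨_, rfl⟩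
  have hwx : x ⬝ᵥ w = 0 := hw ▸ perpVec_perp hab hac hbc hxT
  have hwT : supp w ⊆ {a, b, c} := hw ▸ supp_sub (supp_smul_le (supp_ax_le (by simp)) _)
    (supp_smul_le (supp_ax_le (by simp)) _)
  have hwa : ax a ⬝ᵥ w = 0 := by
    rw [ax_dot, hw, perpVec, Pi.sub_apply, Pi.smul_apply, Pi.smul_apply, ax_ne hac, ax_ne hab]
    simp
  have hwx' : x' ⬝ᵥ w = 0 := by
    rw [hx', refl_ax_apply h2, sub_dotProduct, smul_dotProduct, hwx, hwa, smul_zero, sub_zero]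
  obtain ⟨q, hq⟩ : ∃ q, q = w ⬝ᵥ w := ⟨_, rfl⟩
  have hqv : q = -(x a * x a) := by rw [hq, hw, perpVec_norm hab hac hbc hxT hxx]
  have hq0 : q ≠ 0 := by rw [hqv, neg_ne_zero]; exact mul_ne_zero hxa hxa
  have hqns : ∀ γ, γ * γ * q ≠ 1 := fun γ h => hns (γ * x a) (by rw [hqv] at h; linear_combination -h)
  -- one step along a root group
  have step : ∀ {y v u : Fin n → F}, RootAt G {a, b, c} y → supp y ⊆ {a, b, c} → y ⬝ᵥ y = 0 →
      supp v ⊆ {a, b, c} → InR G v → v ⬝ᵥ v = 1 → supp u ⊆ {a, b, c} → u ⬝ᵥ u = 1 → v ⬝ᵥ y ≠ 0 →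
      u ⬝ᵥ y = v ⬝ᵥ y → InR G u := by
    intro y v u hy hyT hyy hvT hv hvv huT huu hvy huy
    obtain ⟨hperp, hmove⟩ := eich_shift h2 hyy hvy huy (by rw [huu, hvv])
    exact hmove ▸ hv.map (hy _ (supp_smul_le (supp_sub huT hvT) _) hperp)
  obtain ⟨c₀, hc₀⟩ : ∃ c₀, c₀ = (ax a : Fin n → F) ⬝ᵥ x := ⟨_, rfl⟩
  have hc₀0 : c₀ ≠ 0 := by rwa [hc₀, ax_dot]
  obtain ⟨c', hc'⟩ : ∃ c', c' = z ⬝ᵥ x := ⟨_, rfl⟩
  have hc'0 : c' ≠ 0 := hc' ▸ hzx
  obtain ⟨γ, δ, hγδ⟩ := exists_diag_value h2 (mul_ne_zero hc'0 hq0) (neg_ne_zero.2 (mul_ne_zero hc₀0 hq0)) (c' - c₀)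
  obtain ⟨c₁, hc₁⟩ : ∃ c₁, c₁ = (1 - γ * γ * q) * k / (2 * c₀) := ⟨_, rfl⟩
  have hc₁' : 2 * c₀ * c₁ = (1 - γ * γ * q) * k := by
    rw [hc₁, mul_div_cancel₀ _ (mul_ne_zero h2 hc₀0)]
  have hc₁0 : c₁ ≠ 0 := by
    rw [hc₁]
    exact div_ne_zero (mul_ne_zero (sub_ne_zero.2 (fun h => hqns γ h.symm)) hk0) (mul_ne_zero h2 hc₀0)
  have hc₁'' : 2 * c' * c₁ = (1 - δ * δ * q) * k :=
    mul_left_cancel₀ hc₀0 (by linear_combination c' * hc₁' - k * hγδ)
  have hvec : ∀ (γ d : F), 2 * d * c₁ = (1 - γ * γ * q) * k →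
      supp ((c₁ / k) • x + (d / k) • x' + γ • w) ⊆ {a, b, c} ∧
      ((c₁ / k) • x + (d / k) • x' + γ • w) ⬝ᵥ x = d ∧
      ((c₁ / k) • x + (d / k) • x' + γ • w) ⬝ᵥ x' = c₁ ∧
      ((c₁ / k) • x + (d / k) • x' + γ • w) ⬝ᵥ ((c₁ / k) • x + (d / k) • x' + γ • w) = 1 := by
    intro γ d h
    refine ⟨supp_add (supp_add (supp_smul_le hxT _) (supp_smul_le hx'T _)) (supp_smul_le hwT _), ?_, ?_, ?_⟩
    · simp only [add_dotProduct, smul_dotProduct, hxx, ← hk, dotProduct_comm w x, hwx, smul_eq_mul]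
      field_simp
      ring
    · simp only [add_dotProduct, smul_dotProduct, dotProduct_comm x x', hx'x', ← hk, dotProduct_comm w x', hwx',
        smul_eq_mul]
      field_simp
      ring
    · simp only [add_dotProduct, dotProduct_add, smul_dotProduct, dotProduct_smul, hxx, hx'x', ← hk, ← hq,
        dotProduct_comm x x', dotProduct_comm w x, dotProduct_comm w x', hwx, hwx', smul_eq_mul]
      field_simp
      linear_combination k * h
  obtain ⟨h1T, h1x, h1x', h11⟩ := hvec γ c₀ hc₁'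
  obtain ⟨h2T, h2x, h2x', h22⟩ := hvec δ c' hc₁''
  have r1 := step hx hxT hxx (supp_ax_le (by simp)) ⟨sq_ax_ne a, C.refl a ha⟩ (by rw [ax_dot, ax_self]) h1T h11
    (hc₀ ▸ hc₀0) (h1x.trans hc₀)
  have r2 := step hx'r hx'T hx'x' h1T r1 h11 h2T h22 (h1x'.symm ▸ hc₁0) (h2x'.trans h1x'.symm)
  exact step hx hxT hxx h2T r2 h22 hzT hzz (h2x.symm ▸ hc'0) (hc'.symm.trans h2x.symm)

/-- Root data on three coordinates give a seed. -/
theorem Ctx.seed_of_root (C : Ctx G S) (h3 : (3 : F) ≠ 0) (hab : a ≠ b) (hac : a ≠ c) (hbc : b ≠ c) (ha : a ∈ S)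
    (hb : b ∈ S) (hc : c ∈ S) (hx : RootAt G {a, b, c} x) (hxT : supp x ⊆ {a, b, c}) (hxx : x ⬝ᵥ x = 0)
    (hxa : x a ≠ 0) : Seed G S := by
  by_cases hns : ∃ ι : F, ι * ι = -1
  · obtain ⟨ι, hι⟩ := hns
    exact C.seed_of_sqrt hab hac hbc ha hb hc hx hxT hxx hxa hι
  push Not at hns
  have h2 := C.two
  have h4 : (4 : F) ≠ 0 := fun h => mul_ne_zero h2 h2 (by linear_combination h)
  have h5 : (5 : F) ≠ 0 := fun h => hns 2 (by linear_combination h)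
  have hD : x b * x b + x c * x c = -(x a * x a) := by
    have h := dot_triple hab hac hbc hxT x
    rw [hxx] at h
    linear_combination -h
  obtain ⟨s, hs⟩ : ∃ s, s = 3 / (4 * x a) := ⟨_, rfl⟩
  obtain ⟨v, hv⟩ : ∃ v : Fin n → F, v = (5 / 4 : F) • ax a + (-(s * x c)) • ax b + (s * x b) • ax c := ⟨_, rfl⟩
  have hvT : supp v ⊆ {a, b, c} := hv ▸ supp_add (supp_add (supp_smul_le (supp_ax_le (by simp)) _)
    (supp_smul_le (supp_ax_le (by simp)) _)) (supp_smul_le (supp_ax_le (by simp)) _)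
  have hvv : v ⬝ᵥ v = 1 := by
    rw [hv]
    simp only [add_dotProduct, dotProduct_add, smul_dotProduct, dotProduct_smul, ax_dot, ax_self, ax_ne hab,
      ax_ne hac, ax_ne hbc, ax_ne (Ne.symm hab), ax_ne (Ne.symm hac), ax_ne (Ne.symm hbc), smul_eq_mul]
    have hss : s * (4 * x a) = 3 := by rw [hs, div_mul_cancel₀ _ (mul_ne_zero h4 hxa)]
    have h54 : (5 / 4 : F) * 4 = 5 := div_mul_cancel₀ _ h4
    refine mul_left_cancel₀ (mul_ne_zero h4 h4) ?_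
    linear_combination ((5 / 4 : F) * 4 + 5) * h54 + 16 * (s * s) * hD - (s * (4 * x a) + 3) * hss
  have hvx : v ⬝ᵥ x ≠ 0 := by
    rw [hv]
    simp only [add_dotProduct, smul_dotProduct, ax_dot, smul_eq_mul]
    rw [show 5 / 4 * x a + -(s * x c) * x b + s * x b * x c = 5 / 4 * x a by ring]
    exact mul_ne_zero (div_ne_zero h5 h4) hxa
  have hvR := C.inR_of_unit hab hac hbc ha hx hxT hxx hxa hns hvT hvv hvx
  obtain ⟨f, hf, hfS⟩ := C.exists_outside {a, b, c} (k := 2) (by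
    have : ({a, b, c} : Finset (Fin n)).card ≤ 3 := Finset.card_le_three
    omega)
  have hout : ∀ i, f i ≠ a ∧ f i ≠ b ∧ f i ≠ c := fun i => by
    have := (hfS i).2
    simp only [Finset.mem_insert, Finset.mem_singleton, not_or] at this
    exact this
  have haj : a ≠ f 0 := Ne.symm (hout 0).1
  have h01 : f 0 ≠ f 1 := hf.ne (by decide)
  have hτ := C.cyc a (f 0) (f 1) haj h01 (Ne.symm (hout 1).1) ha (hfS 0).1 (hfS 1).1
  obtain ⟨v', hv'⟩ : ∃ v' : Fin n → F, v' = (5 / 4 : F) • ax (f 0) + (-(s * x c)) • ax b + (s * x b) • ax c :=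
    ⟨_, rfl⟩
  have hv'R : InR G v' := by
    have e : (swp C.two haj * swp C.two h01).1 v = v' := by
      rw [hv, hv', map_add, map_add, map_smul, map_smul, map_smul]
      congr 1
      · congr 1
        · rw [qAut_mul_apply, swp_other _ _ (hout 0).1 (hout 1).1, swp_left]
        · rw [qAut_mul_apply, swp_other _ _ (hout 0).2.1 (hout 1).2.1, swp_other _ _ hab (hout 0).2.1]
      · rw [qAut_mul_apply, swp_other _ _ (hout 0).2.2 (hout 1).2.2, swp_other _ _ hac (hout 0).2.2]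
    exact e ▸ hvR.map hτ
  obtain ⟨hv'0, hr⟩ := hv'R
  have hja : (ax (f 0) : Fin n → F) a = 0 := ax_ne haj
  have hjb : (ax (f 0) : Fin n → F) b = 0 := ax_ne (Ne.symm (hout 0).2.1)
  have hjc : (ax (f 0) : Fin n → F) c = 0 := ax_ne (Ne.symm (hout 0).2.2)
  have hxj : x (f 0) = 0 := eq_zero_of_supp hxT (hfS 0).2
  have hv'v' : v' ⬝ᵥ v' = 1 := by
    rw [← hvv, hv, hv']
    simp only [add_dotProduct, dotProduct_add, smul_dotProduct, dotProduct_smul, ax_dot, ax_self, ax_ne hab,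
      ax_ne hac, ax_ne hbc, ax_ne (Ne.symm hab), ax_ne (Ne.symm hac), ax_ne (Ne.symm hbc), hjb, hjc,
      ax_ne (F := F) (hout 0).2.1, ax_ne (F := F) (hout 0).2.2, smul_eq_mul]
  have hxv' : x ⬝ᵥ v' = 0 := by
    rw [hv']
    simp only [dotProduct_add, dotProduct_smul, dot_ax, hxj, smul_eq_mul]
    ring
  obtain ⟨y, hy⟩ : ∃ y, y = perpVec x b c := ⟨_, rfl⟩
  have hxy : x ⬝ᵥ y = 0 := hy ▸ perpVec_perp hab hac hbc hxT
  have hyT : supp y ⊆ {a, b, c} := hy ▸ supp_sub (supp_smul_le (supp_ax_le (by simp)) _)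
    (supp_smul_le (supp_ax_le (by simp)) _)
  have hyv' : y ⬝ᵥ v' = -(s * (x a * x a)) := by
    rw [hy, perpVec_dot, hv']
    simp only [Pi.add_apply, Pi.smul_apply, hjb, hjc, ax_self, ax_ne hbc, ax_ne (Ne.symm hbc), smul_eq_mul]
    linear_combination s * hD
  have hmem := G.mul_mem (G.mul_mem hr (hx y hyT hxy)) (G.inv_mem hr)
  have hX0 : sq F n x = 0 := by rw [sq_apply, hxx]
  rw [eich_conj (sq F n) _ hX0 (by rw [polar_sq, hxy, mul_zero]), refl_apply_fix h2 hv'0 hxv',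
    refl_apply h2 hv'0 y, hv'v', div_one, hyv'] at hmem
  obtain ⟨d, hd⟩ : ∃ d, d = -(2 * -(s * (x a * x a))) * (5 / 4) := ⟨_, rfl⟩
  have hd0 : d ≠ 0 := by
    have hs0 : s ≠ 0 := hs ▸ div_ne_zero h3 (mul_ne_zero h4 hxa)
    rw [hd]
    exact mul_ne_zero (neg_ne_zero.2 (mul_ne_zero h2 (neg_ne_zero.2 (mul_ne_zero hs0 (mul_ne_zero hxa hxa)))))
      (div_ne_zero h5 h4)
  obtain ⟨yT, hyT'⟩ : ∃ yT, yT = y - (2 * -(s * (x a * x a))) • ((-(s * x c)) • ax b + (s * x b) • ax c) :=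
    ⟨_, rfl⟩
  have hsplit : y - (2 * -(s * (x a * x a))) • v' = yT + d • ax (f 0) := by
    rw [hyT', hd, hv']
    module
  rw [hsplit] at hmem
  have hyTs : supp yT ⊆ {a, b, c} := hyT' ▸ supp_sub hyT (supp_smul_le (supp_add
    (supp_smul_le (supp_ax_le (by simp)) _) (supp_smul_le (supp_ax_le (by simp)) _)) _)
  have hxj' : x ⬝ᵥ (d • ax (f 0)) = 0 := by rw [dotProduct_smul, dot_ax, hxj, smul_zero]
  have hxyT : x ⬝ᵥ yT = 0 := by
    rw [hyT', dotProduct_sub, hxy, dotProduct_smul, dotProduct_add, dotProduct_smul, dotProduct_smul, dot_ax, dot_ax]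
    simp only [smul_eq_mul]
    ring
  have hp : ∀ {u : Fin n → F}, x ⬝ᵥ u = 0 → QuadraticMap.polar (sq F n) x u = 0 := fun h => by
    rw [polar_sq, h, mul_zero]
  have hj : eich (sq F n) x (d • ax (f 0)) ∈ G := by
    have h := G.mul_mem (hx (-yT) (by rw [← neg_one_smul F yT]; exact supp_smul_le hyTs _)
      (by rw [dotProduct_neg, hxyT, neg_zero])) hmem
    rwa [eich_mul _ hX0 (hp (by rw [dotProduct_neg, hxyT, neg_zero]))
      (hp (by rw [dotProduct_add, hxyT, hxj', add_zero])), neg_add_cancel_left] at h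
  have hfin := eich_smul_mem C.prime hX0 (hp hxj') hj d⁻¹
  rw [smul_smul, inv_mul_cancel₀ hd0, one_smul] at hfin
  refine ⟨{a, b, c}, x, ?_, Finset.card_le_three, fun h => hxa (by rw [h]; rfl), hxT, hxx, hx, f 0, (hfS 0).1,
    (hfS 0).2, hfin⟩
  simp [Finset.insert_subset_iff, ha, hb, hc]

/-- A non-monomial element moving three coordinates gives a seed. -/
theorem Ctx.seed_of_triple (C : Ctx G S) (h3 : (3 : F) ≠ 0) {e : Fin 3 → Fin n} (he : Function.Injective e)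
    (heS : ∀ i, e i ∈ S) {g : qAut (sq F n)} (hg : g ∈ G) (hfix : ∀ i, (∀ j, e j ≠ i) → g.1 (ax i) = ax i)
    (hnm : ¬ Mono g) : Seed G S := by
  obtain ⟨x, hx0, hxT, hxx, hroot⟩ := C.root_of_triple he heS hg hfix hnm
  obtain ⟨i, hi⟩ : ∃ i, x i ≠ 0 := Function.ne_iff.1 hx0
  obtain ⟨j, -, rfl⟩ := Finset.mem_image.1 (hxT (mem_supp.2 hi))
  have hT : Finset.univ.image e = {e j, e (j + 1), e (j + 2)} := by
    ext l
    simp only [Finset.mem_image, Finset.mem_univ, true_and, Finset.mem_insert, Finset.mem_singleton]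
    constructor
    · rintro ⟨m, rfl⟩
      rcases three_cases j m with rfl | rfl | rfl <;> simp
    · rintro (rfl | rfl | rfl) <;> exact ⟨_, rfl⟩
  rw [hT] at hxT hroot
  exact C.seed_of_root h3 (he.ne (three_ne j).1) (he.ne (three_ne j).2.1) (he.ne (three_ne j).2.2) (heS _) (heS _)
    (heS _) hroot hxT hxx hi

end CfsgLib.Classical22.Frame
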