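/-
The vectors whose reflections lie in an overgroup of the monomial isometries: first facts.
-/
import Cfsg.Agent.Lib.Classical22.Frame.RootSeed

set_option autoImplicit false

namespace CfsgLib.Classical22.Frame

open Cfsg CfsgLib.Classical
open scoped Matrix _root_.Classical

variable {F : Type*} [Field F] [Fintype F] {n : ℕ} {G : Subgroup (qAut (sq F n))} {S : Finset (Fin n)}

omit [Fintype F] in
theorem mono_col {g : qAut (sq F n)} (hg : Mono g) {i j l : Fin n} (hj : g.1 (ax i) j ≠ 0) (hl : g.1 (ax i) l ≠ 0) :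
    j = l := by
  obtain ⟨m, c, hm⟩ := hg i
  by_contra hne
  by_cases hjm : j = m
  · subst hjm
    exact hl (by rw [hm, Pi.smul_apply, ax_ne (Ne.symm hne), smul_zero])
  · exact hj (by rw [hm, Pi.smul_apply, ax_ne hjm, smul_zero])

omit [Fintype F] in
theorem refl_ax_coord (h2 : (2 : F) ≠ 0) {v : Fin n → F} (hv : sq F n v ≠ 0) (i j : Fin n) :
    (qRefl (sq F n) hv).1 (ax i) j = (if j = i then 1 else 0) - 2 * v i / (v ⬝ᵥ v) * v j := by
  rw [refl_apply h2, Pi.sub_apply, Pi.smul_apply, ax_dot, smul_eq_mul]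
  congr 1
  split_ifs with h
  · subst h; rw [ax_self]
  · rw [ax_ne h]

omit [Fintype F] in
theorem InR.ne_zero {v : Fin n → F} (hv : InR G v) : v ⬝ᵥ v ≠ 0 := by
  obtain ⟨h, -⟩ := hv
  rwa [← sq_apply]

theorem Ctx.supp_le (C : Ctx G S) {v : Fin n → F} (hv : InR G v) : supp v ⊆ S := by
  obtain ⟨h, hr⟩ := hv
  refine supp_subset fun i hi => ?_
  have h1 := congrFun (C.fixed _ hr i hi) i
  rw [refl_ax_coord C.two h, if_pos rfl, ax_self, sub_eq_self, div_mul_eq_mul_div, div_eq_zero_iff] at h1
  rcases h1 with h1 | h1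
  · exact mul_self_eq_zero.1 ((mul_eq_zero.1 (show (2 : F) * (v i * v i) = 0 by linear_combination h1)).resolve_left
      C.two)
  · exact absurd h1 (by rwa [← sq_apply])

theorem Ctx.inR_ax (C : Ctx G S) {i : Fin n} (hi : i ∈ S) : InR G (ax i : Fin n → F) := ⟨sq_ax_ne i, C.refl i hi⟩

/-- Signs of coordinates may be changed. -/
theorem Ctx.inR_signed (C : Ctx G S) {v u : Fin n → F} (hv : InR G v) (h : ∀ i, u i = v i ∨ u i = -v i) :
    InR G u := by
  suffices ∀ (D : Finset (Fin n)), D ⊆ S → InR G (fun i => if i ∈ D then -v i else v i) by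
    have h' := this (S.filter fun i => u i ≠ v i) (Finset.filter_subset _ _)
    convert h' using 1
    funext i
    by_cases hi : i ∈ S.filter fun i => u i ≠ v i
    · rw [if_pos hi]
      exact (h i).resolve_left (Finset.mem_filter.1 hi).2
    · rw [if_neg hi]
      by_contra hne
      by_cases hS : i ∈ S
      · exact hi (Finset.mem_filter.2 ⟨hS, hne⟩)
      · rcases h i with h | h
        · exact hne h
        · exact hne (by rw [h, eq_zero_of_supp (C.supp_le hv) hS, neg_zero])
  intro D
  induction D using Finset.induction with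
  | empty => intro _; simpa using hv
  | @insert a D ha ih =>
    intro hD
    have h1 := (ih ((Finset.subset_insert _ _).trans hD)).map (C.refl a (hD (Finset.mem_insert_self _ _)))
    convert h1 using 1
    funext i
    rw [refl_ax_apply C.two, Pi.sub_apply, Pi.smul_apply, if_neg ha]
    by_cases hi : i = a
    · subst hi
      rw [ax_self, if_neg ha, if_pos (Finset.mem_insert_self _ _), smul_eq_mul]
      ring
    · rw [ax_ne hi, smul_zero, sub_zero]
      simp [hi]

theorem Ctx.mono_of_small (C : Ctx G S) (h3 : (3 : F) ≠ 0) (hns : ¬ Seed G S) {A : Finset (Fin n)}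
    (hA : A.card ≤ 3) (hAS : A ⊆ S) {g : qAut (sq F n)} (hg : g ∈ G) (hfix : ∀ i, i ∉ A → g.1 (ax i) = ax i) :
    Mono g := by
  by_contra hnm
  obtain ⟨B, hAB, hBS, hB⟩ := Finset.exists_subsuperset_card_eq hAS hA (by have := C.card; omega)
  refine hns (C.seed_of_triple h3 (e := fun i => ((Finset.equivFinOfCardEq hB).symm i).1)
    (fun i j h => (Finset.equivFinOfCardEq hB).symm.injective (Subtype.ext h))
    (fun i => hBS ((Finset.equivFinOfCardEq hB).symm i).2) hg (fun i hi => hfix i fun hiA => ?_) hnm)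
  exact hi (Finset.equivFinOfCardEq hB ⟨i, hAB hiA⟩) (by rw [Equiv.symm_apply_apply])

/-- A vector of the set with two non-zero coordinates has equal squares. -/
theorem Ctx.inR_two (C : Ctx G S) (h3 : (3 : F) ≠ 0) (hns : ¬ Seed G S) {v : Fin n → F} (hv : InR G v)
    (hc : (supp v).card = 2) {a b : Fin n} (ha : v a ≠ 0) (hb : v b ≠ 0) : v a * v a = v b * v b := by
  by_cases hab : a = b
  · rw [hab]
  have hs : supp v = {a, b} := (Finset.eq_of_subset_of_card_le
    (by simp [Finset.insert_subset_iff, mem_supp, ha, hb]) (by rw [hc, Finset.card_pair hab])).symm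
  obtain ⟨h, hr⟩ := hv
  have hS := C.supp_le ⟨h, hr⟩
  have hm := C.mono_of_small h3 hns (A := {a, b}) (Finset.card_le_two.trans (by norm_num)) (hs ▸ hS) hr fun i hi => by
    refine refl_apply_fix C.two h ?_
    rw [ax_dot]
    exact notMem_supp.1 (hs ▸ hi)
  by_contra hne
  have hN : v a * v a + v b * v b = v ⬝ᵥ v := by
    rw [dot_eq_sum (T := {a, b}) hs.le, Finset.sum_pair hab]
  have hN0 : v ⬝ᵥ v ≠ 0 := by rwa [← sq_apply]
  refine hab (mono_col hm (i := a) (j := a) (l := b) ?_ ?_) <;> rw [refl_ax_coord C.two h]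
  · rw [if_pos rfl, sub_ne_zero, div_mul_eq_mul_div, ne_eq, eq_div_iff hN0]
    intro e
    exact hne (by linear_combination -e - hN)
  · rw [if_neg (Ne.symm hab), zero_sub, neg_ne_zero, div_mul_eq_mul_div]
    exact div_ne_zero (mul_ne_zero (mul_ne_zero C.two ha) hb) hN0

/-- No vector of the set has exactly three non-zero coordinates. -/
theorem Ctx.inR_ne_three (C : Ctx G S) (h3 : (3 : F) ≠ 0) (hns : ¬ Seed G S) {v : Fin n → F} (hv : InR G v) :
    (supp v).card ≠ 3 := fun hc => by
  obtain ⟨a, b, c, hab, hac, hbc, hs⟩ := Finset.card_eq_three.1 hc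
  have hN0 := hv.ne_zero
  obtain ⟨h, hr⟩ := hv
  have hS := C.supp_le ⟨h, hr⟩
  have hm := C.mono_of_small h3 hns (A := supp v) hc.le hS hr fun i hi => by
    refine refl_apply_fix C.two h ?_
    rw [ax_dot]
    exact notMem_supp.1 hi
  have hne : ∀ i ∈ supp v, v i ≠ 0 := fun i => mem_supp.1
  have ha := hne a (by simp [hs])
  refine hbc (mono_col hm (i := a) (j := b) (l := c) ?_ ?_) <;>
    rw [refl_ax_coord C.two h, if_neg (by first | exact Ne.symm hab | exact Ne.symm hac), zero_sub, neg_ne_zero,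
      div_mul_eq_mul_div]
  · exact div_ne_zero (mul_ne_zero (mul_ne_zero C.two ha) (hne b (by simp [hs]))) hN0
  · exact div_ne_zero (mul_ne_zero (mul_ne_zero C.two ha) (hne c (by simp [hs]))) hN0

end CfsgLib.Classical22.Frame
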