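/-
The involution attached to a vector of the set with two coordinates of different squares.
-/
import Cfsg.Agent.Lib.Classical22.Frame.RBasic

set_option autoImplicit false

namespace CfsgLib.Classical22.Frame

open Cfsg CfsgLib.Classical
open scoped Matrix _root_.Classical

variable {F : Type*} [Field F] [Fintype F] {n : ℕ} {G : Subgroup (qAut (sq F n))} {S : Finset (Fin n)}

omit [Fintype F] in
theorem qAut_ext_ax {g h : qAut (sq F n)} (H : ∀ i, g.1 (ax i) = h.1 (ax i)) : g = h :=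
  qAut_ext fun x => by
    rw [eq_sum_ax x, map_sum, map_sum]
    exact Finset.sum_congr rfl fun i _ => by rw [map_smul, map_smul, H i]

/-- The involution in the dihedral group of a reflection and a pair of axis reflections. -/
theorem Ctx.zlemma (C : Ctx G S) (h3 : (3 : F) ≠ 0) (hns : ¬ Seed G S) {v : Fin n → F} (hv : InR G v)
    {a b : Fin n} (ha : v a ≠ 0) (hb : v b ≠ 0) (hsq : v a * v a ≠ v b * v b) :
    ∃ s ∈ G, ∃ v' : Fin n → F, v' = v - v a • ax a - v b • ax b ∧ s * s = 1 ∧ v' ⬝ᵥ v' ≠ 0 ∧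
      (∀ y : Fin n → F, y a = 0 → y b = 0 → s.1 y = y - (2 * (y ⬝ᵥ v') / (v' ⬝ᵥ v')) • v') ∧
      ∀ c, c ≠ a → c ≠ b → s.1 (ax a) c = 0 ∧ s.1 (ax b) c = 0 := by
  have h2 := C.two
  have hab : a ≠ b := fun h => hsq (by rw [h])
  have hS := C.supp_le hv
  have haS : a ∈ S := hS (mem_supp.2 ha)
  have hbS : b ∈ S := hS (mem_supp.2 hb)
  have hN0 := hv.ne_zero
  obtain ⟨hv0, hrv⟩ := hv
  obtain ⟨r, hr⟩ : ∃ r, r = qRefl (sq F n) hv0 := ⟨_, rfl⟩
  obtain ⟨d, hd⟩ : ∃ d, d = qRefl (sq F n) (sq_ax_ne a) * qRefl (sq F n) (sq_ax_ne b) := ⟨_, rfl⟩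
  have hrG : r ∈ G := hr ▸ hrv
  have hdG : d ∈ G := hd ▸ G.mul_mem (C.refl a haS) (C.refl b hbS)
  have hrr : r * r = 1 := hr ▸ qRefl_mul_self _ _
  have hda : d.1 (ax a) = -ax a := by
    rw [hd, qAut_mul_apply, refl_ax_fix (ax_ne (Ne.symm hab)), refl_ax_self]
  have hdb : d.1 (ax b) = -ax b := by
    rw [hd, qAut_mul_apply, refl_ax_self, map_neg, refl_ax_fix (ax_ne hab)]
  have hdo : ∀ y : Fin n → F, ∀ c, c ≠ a → c ≠ b → d.1 y c = y c := fun y c hca hcb => by
    rw [hd, qAut_mul_apply, refl_ax_apply h2, refl_ax_apply h2 b]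
    simp [ax_ne hca, ax_ne hcb]
  have hdfix : ∀ c, c ≠ a → c ≠ b → d.1 (ax c) = ax c := fun c hca hcb => by
    rw [hd, qAut_mul_apply, refl_ax_fix (ax_ne (Ne.symm hcb)), refl_ax_fix (ax_ne (Ne.symm hca))]
  have hdd : d * d = 1 := qAut_ext_ax fun i => by
    rw [qAut_mul_apply]
    by_cases hia : i = a
    · subst hia; rw [hda, map_neg, hda, neg_neg]; rfl
    by_cases hib : i = b
    · subst hib; rw [hdb, map_neg, hdb, neg_neg]; rfl
    rw [hdfix i hia hib, hdfix i hia hib]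
    rfl
  obtain ⟨ρ, hρ⟩ : ∃ ρ, ρ = r * d := ⟨_, rfl⟩
  have hdt : dt ρ = -1 := by
    rw [hρ, hd, hr, dt_mul, dt_mul, dt_refl, dt_refl, dt_refl]
    ring
  haveI := finite_qAut (sq F n)
  have hpos : 0 < orderOf ρ := orderOf_pos ρ
  obtain ⟨j, hj⟩ : Even (orderOf ρ) := by
    by_contra ho
    rw [Nat.not_even_iff_odd] at ho
    have h := congrArg dt (pow_orderOf_eq_one ρ)
    rw [dt_pow, hdt, ho.neg_one_pow, dt_one] at h
    exact neg_one_ne_one h2 h
  obtain ⟨s, hs⟩ : ∃ s, s = ρ ^ j := ⟨_, rfl⟩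
  have hs2 : s * s = 1 := by rw [hs, ← pow_add, ← hj, pow_orderOf_eq_one]
  have hs1 : s ≠ 1 := hs ▸ pow_ne_one_of_lt_orderOf (by omega) (by omega)
  have hsi : s⁻¹ = s := inv_eq_of_mul_eq_one_right hs2
  have hri : r⁻¹ = r := inv_eq_of_mul_eq_one_right hrr
  have hdi : d⁻¹ = d := inv_eq_of_mul_eq_one_right hdd
  have hρi : ρ⁻¹ = d * r := by rw [hρ, mul_inv_rev, hri, hdi]
  have hds : d * s = s * d := by
    have h : d * ρ * d⁻¹ = ρ⁻¹ := by rw [hρi, hρ, hdi, ← mul_assoc d r d, mul_assoc (d * r), hdd, mul_one]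
    have h' : d * s * d⁻¹ = s := by rw [hs, ← conj_pow, h, inv_pow, ← hs, hsi]
    rwa [mul_inv_eq_iff_eq_mul] at h'
  have hrs : r * s = s * r := by
    have h : r * ρ * r⁻¹ = ρ⁻¹ := by rw [hρi, hρ, hri, ← mul_assoc r r d, hrr, one_mul]
    have h' : r * s * r⁻¹ = s := by rw [hs, ← conj_pow, h, inv_pow, ← hs, hsi]
    rwa [mul_inv_eq_iff_eq_mul] at h'
  have hss : ∀ y, s.1 (s.1 y) = y := fun y => by rw [← qAut_mul_apply, hs2]; rfl
  have hsdot : ∀ x y, s.1 x ⬝ᵥ y = x ⬝ᵥ s.1 y := fun x y => by rw [dot_inv h2, hsi]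
  have hfix : ∀ y : Fin n → F, y a = 0 → y b = 0 → y ⬝ᵥ v = 0 → s.1 y = y := fun y hya hyb hyv => by
    have h1 : ρ.1 y = y := by
      rw [hρ, hd, qAut_mul_apply, qAut_mul_apply, refl_ax_fix hyb, refl_ax_fix hya, hr, refl_apply_fix h2 hv0 hyv]
    rw [hs]
    clear * - h1
    induction j with
    | zero => rfl
    | succ j ih => rw [pow_succ, qAut_mul_apply, h1, ih]
  have hP : ∀ c, c ≠ a → c ≠ b → s.1 (ax a) c = 0 ∧ s.1 (ax b) c = 0 := fun c hca hcb => by
    have key : ∀ e, d.1 (ax e) = -ax e → s.1 (ax e) c = 0 := fun e he => by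
      have h := congrArg (fun g : qAut (sq F n) => g.1 (ax e) c) hds
      simp only [qAut_mul_apply, he, map_neg, hdo _ c hca hcb, Pi.neg_apply] at h
      exact (mul_eq_zero.1 (show (2 : F) * s.1 (ax e) c = 0 by linear_combination h)).resolve_left h2
    exact ⟨key a hda, key b hdb⟩
  obtain ⟨v', hv'⟩ : ∃ v', v' = v - v a • ax a - v b • ax b := ⟨_, rfl⟩
  have hv'a : v' a = 0 := by
    rw [hv']; simp [ax_self, ax_ne hab]
  have hv'b : v' b = 0 := by
    rw [hv']; simp [ax_self, ax_ne (Ne.symm hab)]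
  have hdotv : ∀ y : Fin n → F, y a = 0 → y b = 0 → y ⬝ᵥ v = y ⬝ᵥ v' := fun y hya hyb => by
    rw [hv', dotProduct_sub, dotProduct_sub, dotProduct_smul, dotProduct_smul, dot_ax, dot_ax, hya, hyb]
    simp
  have hperp : ∀ y : Fin n → F, y a = 0 → y b = 0 → s.1 y a = 0 ∧ s.1 y b = 0 := fun y hya hyb => by
    have key : ∀ e, (∀ c, c ≠ a → c ≠ b → s.1 (ax e) c = 0) → s.1 y e = 0 := fun e he => by
      rw [← dot_ax e (s.1 y), hsdot]
      refine dot_eq_zero_of_disjoint fun i => ?_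
      by_cases hia : i = a
      · exact Or.inl (hia ▸ hya)
      by_cases hib : i = b
      · exact Or.inl (hib ▸ hyb)
      exact Or.inr (he i hia hib)
    exact ⟨key a fun c h h' => (hP c h h').1, key b fun c h h' => (hP c h h').2⟩
  -- the sign at `v`
  obtain ⟨ε, hε, hεv⟩ : ∃ ε : F, ε * ε = 1 ∧ s.1 v = ε • v := by
    have h := congrArg (fun g : qAut (sq F n) => g.1 v) hrs
    simp only [qAut_mul_apply] at h
    rw [hr, qRefl_self, map_neg, refl_apply h2 hv0] at h
    obtain ⟨ε, hε⟩ : ∃ ε, ε = 2 * (s.1 v ⬝ᵥ v) / (v ⬝ᵥ v) * (1 / 2) := ⟨_, rfl⟩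
    have e : s.1 v = ε • v := by
      have h' : (2 : F) • s.1 v = (2 * (s.1 v ⬝ᵥ v) / (v ⬝ᵥ v)) • v := by linear_combination (norm := module) h
      rw [hε, mul_comm _ (1 / 2), ← smul_smul, ← h', smul_smul, one_div, inv_mul_cancel₀ h2, one_smul]
    refine ⟨ε, ?_, e⟩
    have h' := iso_dot h2 s v v
    rw [e, smul_dotProduct, dotProduct_smul, smul_eq_mul, smul_eq_mul, ← mul_assoc] at h'
    exact mul_right_cancel₀ hN0 (h'.trans (one_mul _).symm)
  have hsv' : s.1 v' = ε • v' := by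
    funext i
    by_cases hi : i = a ∨ i = b
    · obtain ⟨h1, h1'⟩ := hperp v' hv'a hv'b
      rcases hi with rfl | rfl
      · rw [h1, Pi.smul_apply, hv'a, smul_zero]
      · rw [h1', Pi.smul_apply, hv'b, smul_zero]
    push Not at hi
    rw [hv', map_sub, map_sub, map_smul, map_smul, hεv]
    simp [(hP i hi.1 hi.2).1, (hP i hi.1 hi.2).2, ax_ne hi.1, ax_ne hi.2]
  have hline : ∀ y : Fin n → F, y a = 0 → y b = 0 → ∀ c, c ≠ a → c ≠ b → v' c ≠ 0 →
      s.1 y - y = ((s.1 y - y) c / v' c) • v' := fun y hya hyb c hca hcb hc => funext fun i => by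
    by_cases hia : i = a
    · subst hia; simp [(hperp y hya hyb).1, hya, hv'a]
    by_cases hib : i = b
    · subst hib; simp [(hperp y hya hyb).2, hyb, hv'b]
    obtain ⟨z, hz⟩ : ∃ z : Fin n → F, z = ax i - (v' i / v' c) • ax c := ⟨_, rfl⟩
    have hza : z a = 0 := by rw [hz]; simp [ax_ne (Ne.symm hia), ax_ne (Ne.symm hca)]
    have hzb : z b = 0 := by rw [hz]; simp [ax_ne (Ne.symm hib), ax_ne (Ne.symm hcb)]
    have hzv : z ⬝ᵥ v = 0 := by
      rw [hdotv z hza hzb, hz, sub_dotProduct, smul_dotProduct, ax_dot, ax_dot, smul_eq_mul, div_mul_cancel₀ _ hc,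
        sub_self]
    have h : (s.1 y - y) ⬝ᵥ z = 0 := by rw [sub_dotProduct, hsdot, hfix z hza hzb hzv, sub_self]
    rw [hz, dotProduct_sub, dotProduct_smul, dot_ax, dot_ax, sub_eq_zero, smul_eq_mul] at h
    rw [h, Pi.smul_apply, smul_eq_mul]
    ring
  obtain ⟨c, hca, hcb, hc⟩ : ∃ c, c ≠ a ∧ c ≠ b ∧ v' c ≠ 0 := by
    by_contra h
    push Not at h
    have hsupp : supp v = {a, b} := by
      refine Finset.Subset.antisymm (supp_subset fun i hi => ?_) (by simp [Finset.insert_subset_iff, mem_supp, ha, hb])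
      simp only [Finset.mem_insert, Finset.mem_singleton, not_or] at hi
      simpa [hv', ax_ne hi.1, ax_ne hi.2] using h i hi.1 hi.2
    exact hsq (C.inR_two h3 hns ⟨hv0, hrv⟩ (by rw [hsupp, Finset.card_pair hab]) ha hb)
  have hsG : s ∈ G := hs ▸ G.pow_mem (hρ ▸ G.mul_mem hrG hdG) j
  refine ⟨s, hsG, v', hv', hs2, ?_⟩
  rcases mul_self_eq_one_iff.1 hε with rfl | rfl
  · exfalso
    rw [one_smul] at hsv'
    have hall : ∀ i, i ∉ ({a, b} : Finset (Fin n)) → s.1 (ax i) = ax i := fun i hi => by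
      simp only [Finset.mem_insert, Finset.mem_singleton, not_or] at hi
      have hia : (ax i : Fin n → F) a = 0 := ax_ne (Ne.symm hi.1)
      have hib : (ax i : Fin n → F) b = 0 := ax_ne (Ne.symm hi.2)
      obtain ⟨l, hl⟩ : ∃ l, s.1 (ax i) - ax i = l • v' := ⟨_, hline _ hia hib c hca hcb hc⟩
      by_cases hiv : ax i ⬝ᵥ v' = 0
      · exact hfix _ hia hib (by rw [hdotv _ hia hib, hiv])
      have h1 : l * (v' ⬝ᵥ v') = 0 := by
        rw [← smul_eq_mul, ← smul_dotProduct, ← hl, sub_dotProduct, hsdot, hsv', sub_self]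
      have h2' := iso_dot h2 s (ax i) (ax i)
      rw [show s.1 (ax i) = ax i + l • v' by rw [← hl, add_sub_cancel]] at h2' ⊢
      simp only [add_dotProduct, dotProduct_add, smul_dotProduct, dotProduct_smul, dotProduct_comm v' (ax i),
        smul_eq_mul] at h2'
      have h3' : l = 0 := (mul_eq_zero.1 (show l * (2 * (ax i ⬝ᵥ v')) = 0 by linear_combination h2' - l * h1)
        ).resolve_right (mul_ne_zero h2 hiv)
      rw [h3', zero_smul, add_zero]
    have hm := C.mono_of_small h3 hns (A := {a, b}) (Finset.card_le_two.trans (by norm_num))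
      (by simp [Finset.insert_subset_iff, haS, hbS]) hsG hall
    obtain ⟨p, x, hp⟩ := hm a
    have hxx := mono_coeff hp
    have hx0 := mono_coeff_ne hp
    have hvP : v a • s.1 (ax a) + v b • s.1 (ax b) = v a • ax a + v b • ax b := by
      have h := hεv
      rw [one_smul, show v = v' + (v a • ax a + v b • ax b) by rw [hv']; abel, map_add, hsv', add_right_inj,
        map_add, map_smul, map_smul] at h
      exact h
    rcases (show p = a ∨ p = b by
      by_contra h
      push Not at h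
      have := (hP p h.1 h.2).1
      rw [hp, Pi.smul_apply, ax_self, smul_eq_mul, mul_one] at this
      exact hx0 this) with rfl | rfl
    · obtain ⟨q, y, hq⟩ := hm b
      have hy0 := mono_coeff_ne hq
      have hqb : q = b := by
        by_contra h
        by_cases hqa : q = p
        · subst hqa
          have e := mono_inv_apply hp
          rw [hsi, hp] at e
          have e' := mono_inv_apply hq
          rw [hsi, hp] at e'
          have := congrFun e' b
          simp [ax_ne (Ne.symm hab), ax_self] at this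
          exact hy0 this.symm
        · have := (hP q hqa h).2
          rw [hq, Pi.smul_apply, ax_self, smul_eq_mul, mul_one] at this
          exact hy0 this
      subst hqb
      rw [hp, hq] at hvP
      have e1 := congrFun hvP p
      have e2 := congrFun hvP q
      simp only [Pi.add_apply, Pi.smul_apply, ax_self, ax_ne hab, ax_ne (Ne.symm hab), smul_eq_mul, mul_zero,
        mul_one, add_zero, zero_add] at e1 e2
      have hx1 : x = 1 := mul_left_cancel₀ ha (e1.trans (mul_one _).symm)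
      have hy1 : y = 1 := mul_left_cancel₀ hb (e2.trans (mul_one _).symm)
      refine hs1 (qAut_ext_ax fun i => ?_)
      change s.1 (ax i) = ax i
      by_cases hip : i = p
      · subst hip; rw [hp, hx1, one_smul]
      by_cases hiq : i = q
      · subst hiq; rw [hq, hy1, one_smul]
      exact hall i (by simp [hip, hiq])
    · have hq := mono_inv_apply hp
      rw [hsi] at hq
      rw [hp, hq] at hvP
      have e1 := congrFun hvP a
      simp only [Pi.add_apply, Pi.smul_apply, ax_self, ax_ne hab, ax_ne (Ne.symm hab), smul_eq_mul, mul_zero,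
        mul_one, add_zero, zero_add] at e1
      exact hsq (by rw [← e1]; linear_combination (v p * v p) * hxx)
  · have hneg : ∀ y : Fin n → F, y a = 0 → y b = 0 →
        ∃ l, s.1 y = y + l • v' ∧ l * (v' ⬝ᵥ v') = -(2 * (y ⬝ᵥ v')) := fun y hya hyb => by
      refine ⟨(s.1 y - y) c / v' c, by rw [← hline y hya hyb c hca hcb hc, add_sub_cancel], ?_⟩
      rw [← smul_eq_mul, ← smul_dotProduct, ← hline y hya hyb c hca hcb hc, sub_dotProduct, hsdot, hsv',
        dotProduct_smul, smul_eq_mul]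
      ring
    have hN' : v' ⬝ᵥ v' ≠ 0 := fun h0 => by
      obtain ⟨l, -, hl⟩ := hneg (ax c) (ax_ne (Ne.symm hca)) (ax_ne (Ne.symm hcb))
      rw [h0, mul_zero, ax_dot, eq_comm, neg_eq_zero] at hl
      exact hc ((mul_eq_zero.1 hl).resolve_left h2)
    refine ⟨hN', fun y hya hyb => ?_, hP⟩
    obtain ⟨l, hl, hl'⟩ := hneg y hya hyb
    rw [hl, show l = -(2 * (y ⬝ᵥ v') / (v' ⬝ᵥ v')) by rw [← neg_div, eq_div_iff hN', hl'], neg_smul, ← sub_eq_add_neg]

end CfsgLib.Classical22.Frame
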