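/-
Without a seed, in characteristic at least five, the vectors of the set have at most two non-zero coordinates.
-/
import Cfsg.Agent.Lib.Classical22.Frame.Zlem

set_option autoImplicit false

namespace CfsgLib.Classical22.Frame

open Cfsg CfsgLib.Classical
open scoped Matrix _root_.Classical

variable {F : Type*} [Field F] [Fintype F] {n : ℕ} {G : Subgroup (qAut (sq F n))} {S : Finset (Fin n)}

/-- The indicator vector of a set of coordinates. -/
noncomputable def ind (A : Finset (Fin n)) : Fin n → F := fun i => if i ∈ A then 1 else 0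

omit [Fintype F] in
theorem ind_mem {A : Finset (Fin n)} {i : Fin n} (h : i ∈ A) : (ind A : Fin n → F) i = 1 := if_pos h

omit [Fintype F] in
theorem ind_notMem {A : Finset (Fin n)} {i : Fin n} (h : i ∉ A) : (ind A : Fin n → F) i = 0 := if_neg h

omit [Fintype F] in
theorem supp_ind (A : Finset (Fin n)) : supp (ind A : Fin n → F) = A := by
  ext i
  rw [mem_supp]
  by_cases h : i ∈ A
  · simp [ind_mem h, h]
  · simp [ind_notMem h, h]

omit [Fintype F] in
theorem dot_ind (A : Finset (Fin n)) (y : Fin n → F) : y ⬝ᵥ ind A = ∑ i ∈ A, y i := by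
  rw [dotProduct_comm, dot_eq_sum (supp_ind A).le]
  exact Finset.sum_congr rfl fun i hi => by rw [ind_mem hi, one_mul]

omit [Fintype F] in
theorem ind_dot_self (A : Finset (Fin n)) : (ind A : Fin n → F) ⬝ᵥ ind A = A.card := by
  rw [dot_ind, Finset.sum_congr rfl fun i hi => ind_mem hi, Finset.sum_const, nsmul_one]

omit [Fintype F] in
theorem InR.refl_ind (h2 : (2 : F) ≠ 0) {A : Finset (Fin n)} (hA : InR G (ind A : Fin n → F)) {y : Fin n → F}
    (hy : InR G y) : InR G (y - (2 * (∑ i ∈ A, y i) / (A.card : F)) • ind A) := by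
  obtain ⟨h, hr⟩ := hA
  have := hy.map hr
  rwa [refl_apply h2 h, dot_ind, ind_dot_self] at this

/-- Vectors with all squares equal give indicator vectors. -/
theorem Ctx.inR_ind (C : Ctx G S) {v : Fin n → F} (hv : InR G v)
    (heq : ∀ i ∈ supp v, ∀ j ∈ supp v, v i * v i = v j * v j) (hne : supp v ≠ ∅) :
    InR G (ind (supp v) : Fin n → F) := by
  obtain ⟨a, ha⟩ := Finset.nonempty_iff_ne_empty.2 hne
  have ha0 := mem_supp.1 ha
  refine C.inR_signed (hv.smul (inv_ne_zero ha0)) fun i => ?_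
  rw [Pi.smul_apply, smul_eq_mul]
  by_cases hi : i ∈ supp v
  · rw [ind_mem hi]
    rcases mul_self_eq_mul_self_iff.1 (heq i hi a ha) with h | h <;> rw [h]
    · exact Or.inl (inv_mul_cancel₀ ha0).symm
    · exact Or.inr (by rw [mul_neg, inv_mul_cancel₀ ha0, neg_neg])
  · rw [ind_notMem hi, notMem_supp.1 hi, mul_zero]
    exact Or.inl rfl

/-- Two coordinates of different squares give vectors supported on the others. -/
theorem Ctx.unequal (C : Ctx G S) (h3 : (3 : F) ≠ 0) (hns : ¬ Seed G S) {v : Fin n → F} (hv : InR G v)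
    {a b : Fin n} (ha : v a ≠ 0) (hb : v b ≠ 0) (hsq : v a * v a ≠ v b * v b) :
    ∃ N : F, N ≠ 0 ∧ N = ∑ d ∈ (supp v).erase a |>.erase b, v d * v d ∧
      ∀ c ∈ (supp v).erase a |>.erase b, ∃ x, InR G x ∧ supp x ⊆ ((supp v).erase a).erase b ∧
        (((supp v).erase a).erase b).erase c ⊆ supp x ∧ x c = 1 - 2 * (v c * v c) / N := by
  have hab : a ≠ b := fun h => hsq (by rw [h])
  obtain ⟨s, hs, v', hv', -, hN, hy, hP⟩ := C.zlemma h3 hns hv ha hb hsq
  have hv'c : ∀ i, v' i = if i = a ∨ i = b then 0 else v i := fun i => by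
    rw [hv']
    by_cases hia : i = a
    · subst hia; simp [ax_self, ax_ne hab]
    by_cases hib : i = b
    · subst hib; simp [ax_self, ax_ne (Ne.symm hab)]
    simp [ax_ne hia, ax_ne hib, hia, hib]
  have hs' : supp v' = ((supp v).erase a).erase b := by
    ext i
    rw [Finset.mem_erase, Finset.mem_erase, mem_supp, mem_supp, hv'c]
    by_cases hia : i = a
    · simp [hia]
    by_cases hib : i = b
    · simp [hib]
    simp [hia, hib]
  refine ⟨v' ⬝ᵥ v', hN, ?_, fun c hc => ?_⟩
  · rw [dot_eq_sum hs'.le]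
    refine Finset.sum_congr rfl fun d hd => ?_
    simp only [Finset.mem_erase] at hd
    rw [hv'c, if_neg (by tauto)]
  have hcm := hc
  simp only [Finset.mem_erase, mem_supp] at hcm
  obtain ⟨hcb, hca, hc0⟩ := hcm
  have hx := (C.inR_ax (C.supp_le hv (mem_supp.2 hc0))).map hs
  rw [hy (ax c) (ax_ne (Ne.symm hca)) (ax_ne (Ne.symm hcb)), ax_dot, hv'c, if_neg (by tauto)] at hx
  refine ⟨_, hx, supp_subset fun i hi => ?_, fun i hi => ?_, ?_⟩
  · have h1 : i ∉ supp v' := hs' ▸ hi
    have h2 : i ≠ c := fun e => hi (e ▸ hc)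
    simp [notMem_supp.1 h1, ax_ne h2]
  · obtain ⟨hic, hi⟩ := Finset.mem_erase.1 hi
    have h1 : v' i ≠ 0 := mem_supp.1 (hs' ▸ hi)
    rw [mem_supp, Pi.sub_apply, Pi.smul_apply, ax_ne hic, zero_sub, neg_ne_zero, smul_eq_mul]
    exact mul_ne_zero (div_ne_zero (mul_ne_zero C.two hc0) hN) h1
  · rw [Pi.sub_apply, Pi.smul_apply, ax_self, hv'c, if_neg (by tauto), smul_eq_mul]
    ring

/-- With four non-zero coordinates, a pair of different squares leaves a pair of equal squares. -/
theorem Ctx.four_pair (C : Ctx G S) (h3 : (3 : F) ≠ 0) (hns : ¬ Seed G S) {v : Fin n → F} (hv : InR G v)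
    {a b c d : Fin n} (hs : supp v = {a, b, c, d}) (hca : c ≠ a) (hcb : c ≠ b) (hda : d ≠ a) (hdb : d ≠ b)
    (hcd : c ≠ d) (hsq : v a * v a ≠ v b * v b) : v c * v c = v d * v d := by
  have hne : ∀ i ∈ supp v, v i ≠ 0 := fun i => mem_supp.1
  have hab : a ≠ b := fun h => hsq (by rw [h])
  have hS := C.supp_le hv
  obtain ⟨s, hsG, v', hv', hs2, hN, hy, hP⟩ :=
    C.zlemma h3 hns hv (hne a (by simp [hs])) (hne b (by simp [hs])) hsq
  have hz : ∀ i, i ≠ c → i ≠ d → v' i = 0 := fun i hic hid => by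
    rw [hv']
    by_cases hia : i = a
    · subst hia; simp [ax_self, ax_ne hab]
    by_cases hib : i = b
    · subst hib; simp [ax_self, ax_ne (Ne.symm hab)]
    have : v i = 0 := notMem_supp.1 (by simp [hs, hia, hib, hic, hid])
    simp [this, ax_ne hia, ax_ne hib]
  have hvc : ∀ i, i ≠ a → i ≠ b → v' i = v i := fun i hia hib => by
    rw [hv']; simp [ax_ne hia, ax_ne hib]
  have hN' : v' ⬝ᵥ v' = v c * v c + v d * v d := by
    rw [dot_eq_sum (T := {c, d}) (supp_subset fun i hi => by
      simp only [Finset.mem_insert, Finset.mem_singleton, not_or] at hi; exact hz i hi.1 hi.2),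
      Finset.sum_pair hcd, hvc c hca hcb, hvc d hda hdb]
  have hfix : ∀ i, i ≠ a → i ≠ b → i ≠ c → i ≠ d → s.1 (ax i) = ax i := fun i hia hib hic hid => by
    rw [hy _ (ax_ne (Ne.symm hia)) (ax_ne (Ne.symm hib)), ax_dot, hz i hic hid]
    simp
  obtain ⟨f, hf, hfS⟩ := C.exists_outside {a, b, c, d} (k := 1) (by
    have : ({a, b, c, d} : Finset (Fin n)).card ≤ 4 := Finset.card_le_four
    omega)
  have hout : f 0 ≠ a ∧ f 0 ≠ b ∧ f 0 ≠ c ∧ f 0 ≠ d := by
    have := (hfS 0).2
    simp only [Finset.mem_insert, Finset.mem_singleton, not_or] at this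
    exact this
  have hce : c ≠ f 0 := Ne.symm hout.2.2.1
  have hed : f 0 ≠ d := hout.2.2.2
  have hcS : c ∈ S := hS (by simp [hs])
  obtain ⟨σ, hσ⟩ : ∃ σ, σ = swp C.two hce * swp C.two hed := ⟨_, rfl⟩
  have hσG : σ ∈ G := hσ ▸ C.cyc _ _ _ hce hed hcd hcS (hfS 0).1 (hS (by simp [hs]))
  have hσo : ∀ i, i ≠ c → i ≠ f 0 → i ≠ d → σ.1 (ax i) = ax i := fun i h1 h2 h3 => by
    rw [hσ, qAut_mul_apply, swp_other _ _ (Ne.symm h2) (Ne.symm h3), swp_other _ _ (Ne.symm h1) (Ne.symm h2)]
  have hσe : σ.1 (ax (f 0)) = ax d := by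
    rw [hσ, qAut_mul_apply, swp_left, swp_other _ _ hcd hed]
  obtain ⟨h, hh⟩ : ∃ h, h = s * (σ * s * σ⁻¹) := ⟨_, rfl⟩
  have hconj : ∀ i l, σ.1 (ax l) = ax i → s.1 (ax l) = ax l → (σ * s * σ⁻¹).1 (ax i) = ax i :=
    fun i l h1 h2 => by rw [← h1, qAut_mul_apply, qInv_apply_self, qAut_mul_apply, h2]
  have hhab : ∀ e, (∀ i, i ≠ a → i ≠ b → s.1 (ax e) i = 0) → σ.1 (ax e) = ax e → h.1 (ax e) = ax e := by
    intro e he hσe'
    have e1 : σ.1 (s.1 (ax e)) = s.1 (ax e) := by
      rw [show s.1 (ax e) = s.1 (ax e) a • ax a + s.1 (ax e) b • ax b from funext fun i => by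
        by_cases hia : i = a
        · subst hia; simp [ax_self, ax_ne hab]
        by_cases hib : i = b
        · subst hib; simp [ax_self, ax_ne (Ne.symm hab)]
        simp [ax_ne hia, ax_ne hib, he i hia hib], map_add, map_smul, map_smul,
        hσo a (Ne.symm hca) (Ne.symm hout.1) (Ne.symm hda),
        hσo b (Ne.symm hcb) (Ne.symm hout.2.1) (Ne.symm hdb)]
    rw [hh, qAut_mul_apply, qAut_mul_apply, qAut_mul_apply]
    conv_lhs => arg 2; arg 2; arg 2; rw [← hσe', qInv_apply_self]
    rw [e1, ← qAut_mul_apply, hs2]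
    rfl
  have hm := C.mono_of_small h3 hns (A := {c, d, f 0}) Finset.card_le_three
    (by simp [Finset.insert_subset_iff, hcS, hS (show d ∈ supp v by simp [hs]), (hfS 0).1])
    (hh ▸ G.mul_mem hsG (G.mul_mem (G.mul_mem hσG hsG) (G.inv_mem hσG))) fun i hi => by
      simp only [Finset.mem_insert, Finset.mem_singleton, not_or] at hi
      obtain ⟨hic, hid, hie⟩ := hi
      by_cases hia : i = a
      · subst hia
        exact hhab _ (fun j h1 h2 => (hP j h1 h2).1) (hσo _ hic hie hid)
      by_cases hib : i = b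
      · subst hib
        exact hhab _ (fun j h1 h2 => (hP j h1 h2).2) (hσo _ hic hie hid)
      rw [hh, qAut_mul_apply, hconj _ i (hσo i hic hie hid) (hfix i hia hib hic hid), hfix i hia hib hic hid]
  have hhd : h.1 (ax d) = ax d - (2 * v d / (v' ⬝ᵥ v')) • v' := by
    rw [hh, qAut_mul_apply, hconj d (f 0) hσe (hfix _ hout.1 hout.2.1 hout.2.2.1 hout.2.2.2),
      hy _ (ax_ne (Ne.symm hda)) (ax_ne (Ne.symm hdb)), ax_dot, hvc d hda hdb]
  by_contra hne'
  refine hcd (mono_col hm (i := d) ?_ ?_) <;> rw [hhd, Pi.sub_apply, Pi.smul_apply, smul_eq_mul]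
  · rw [ax_ne hcd, zero_sub, neg_ne_zero, hvc c hca hcb]
    exact mul_ne_zero (div_ne_zero (mul_ne_zero C.two (hne d (by simp [hs]))) hN) (hne c (by simp [hs]))
  · rw [ax_self, hvc d hda hdb, sub_ne_zero, ne_eq, div_mul_eq_mul_div, eq_div_iff hN]
    intro e
    exact hne' (by linear_combination e - hN')

/-- With four non-zero coordinates all squares are equal. -/
theorem Ctx.four_equal (C : Ctx G S) (h3 : (3 : F) ≠ 0) (hns : ¬ Seed G S) {v : Fin n → F} (hv : InR G v)
    (hc : (supp v).card = 4) : ∀ i ∈ supp v, ∀ j ∈ supp v, v i * v i = v j * v j := by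
  -- one coordinate differing from the three others is impossible
  have odd : ∀ (u : Fin n → F), InR G u → ∀ a b c d : Fin n, supp u = {a, b, c, d} → a ≠ b → a ≠ c → a ≠ d →
      b ≠ c → b ≠ d → c ≠ d → u b * u b = u c * u c → u b * u b = u d * u d → u a * u a = u b * u b := by
    intro u hu a b c d hs hab hac had hbc hbd hcd e1 e2
    by_contra hne
    have hne0 : ∀ i ∈ supp u, u i ≠ 0 := fun i => mem_supp.1
    have hb := hne0 b (by simp [hs])
    have hN0 := hu.ne_zero
    have hN : u ⬝ᵥ u = u a * u a + 3 * (u b * u b) := by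
      rw [dot_eq_sum hs.le, Finset.sum_insert (by simp [hab, hac, had]), Finset.sum_insert (by simp [hbc, hbd]),
        Finset.sum_pair hcd]
      linear_combination -e1 - e2
    obtain ⟨h, hr⟩ := hu
    have hw := (C.inR_ax (C.supp_le ⟨h, hr⟩ (mem_supp.2 hb))).map hr
    obtain ⟨w, hw'⟩ : ∃ w, w = (qRefl (sq F n) h).1 (ax b : Fin n → F) := ⟨_, rfl⟩
    rw [← hw'] at hw
    have hwv : ∀ j, w j * (u ⬝ᵥ u) = (if j = b then u ⬝ᵥ u else 0) - 2 * u b * u j := fun j => by
      rw [hw', refl_ax_coord C.two h, sub_mul, div_mul_eq_mul_div, div_mul_cancel₀ _ hN0]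
      split_ifs <;> ring
    have hws : supp w ⊆ {a, b, c, d} := supp_subset fun i hi => by
      have h1 := hwv i
      rw [notMem_supp.1 (show i ∉ supp u by rw [hs]; exact hi), if_neg (fun e : i = b => hi (by simp [e])), mul_zero,
        sub_zero] at h1
      exact (mul_eq_zero.1 h1).resolve_right hN0
    have hwne : ∀ j, j ≠ b → j ∈ supp u → w j ≠ 0 := fun j hjb hj hz => by
      have h1 := hwv j
      rw [hz, zero_mul, if_neg hjb, eq_comm, zero_sub, neg_eq_zero] at h1
      exact mul_ne_zero (mul_ne_zero C.two hb) (hne0 j hj) h1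
    have ha' := hwne a hab (by simp [hs])
    have hc' := hwne c (Ne.symm hbc) (by simp [hs])
    have hd' := hwne d (Ne.symm hbd) (by simp [hs])
    have hb' : w b ≠ 0 := fun hz => by
      refine C.inR_ne_three h3 hns hw ?_
      have e : supp w = {a, c, d} := by
        refine Finset.Subset.antisymm (fun i hi => ?_) (by simp [Finset.insert_subset_iff, mem_supp, ha', hc', hd'])
        have h1 := hws hi
        simp only [Finset.mem_insert, Finset.mem_singleton] at h1 ⊢
        rcases h1 with h1 | h1 | h1 | h1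
        · exact Or.inl h1
        · subst h1; exact absurd hz (mem_supp.1 hi)
        · exact Or.inr (Or.inl h1)
        · exact Or.inr (Or.inr h1)
      rw [e, Finset.card_insert_of_notMem (by simp [hac, had]), Finset.card_pair hcd]
    have hsw : supp w = {a, b, c, d} := Finset.Subset.antisymm hws
      (by simp [Finset.insert_subset_iff, mem_supp, ha', hb', hc', hd'])
    have qa := hwv a
    have qb := hwv b
    have qc := hwv c
    have qd := hwv d
    rw [if_neg hab] at qa
    rw [if_pos rfl] at qb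
    rw [if_neg (Ne.symm hbc)] at qc
    rw [if_neg (Ne.symm hbd)] at qd
    -- the two coordinates c, d agree, so b or a agrees with them
    have hac' : w a * w a ≠ w c * w c := fun e => hne (by
      refine mul_left_cancel₀ (mul_ne_zero (mul_ne_zero C.two C.two) (mul_ne_zero hb hb)) ?_
      linear_combination (u ⬝ᵥ u) * (u ⬝ᵥ u) * e - (w a * (u ⬝ᵥ u) - 2 * u b * u a) * qa +
        (w c * (u ⬝ᵥ u) - 2 * u b * u c) * qc - 4 * (u b * u b) * e1)
    have hbd' := C.four_pair h3 hns hw (a := a) (b := c) (c := b) (d := d)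
      (by rw [hsw]; ext i; simp; tauto) (Ne.symm hab) hbc (Ne.symm had) (Ne.symm hcd) hbd hac'
    -- so the value at b is ± twice the square at b
    have key : (u a * u a - u b * u b) * (u a * u a + 3 * (u b * u b)) = 0 := by
      have qb' : w b * (u ⬝ᵥ u) = u a * u a + u b * u b := by linear_combination qb + hN
      linear_combination (u ⬝ᵥ u) * (u ⬝ᵥ u) * hbd' - (w b * (u ⬝ᵥ u) + (u a * u a + u b * u b)) * qb' +
        (w d * (u ⬝ᵥ u) - 2 * u b * u d) * qd - 4 * (u b * u b) * e2
    rcases mul_eq_zero.1 key with h1 | h1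
    · exact hne (sub_eq_zero.1 h1)
    · exact hN0 (hN.trans h1)
  intro i hi j hj
  by_contra hne
  have hij : i ≠ j := fun h => hne (by rw [h])
  obtain ⟨c, d, hcd, hrest⟩ := Finset.card_eq_two.1 (show (((supp v).erase i).erase j).card = 2 by
    rw [Finset.card_erase_of_mem (Finset.mem_erase.2 ⟨Ne.symm hij, hj⟩), Finset.card_erase_of_mem hi, hc])
  have hcm : c ∈ ((supp v).erase i).erase j := by simp [hrest]
  have hdm : d ∈ ((supp v).erase i).erase j := by simp [hrest]
  simp only [Finset.mem_erase] at hcm hdm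
  obtain ⟨hcj, hci, hc'⟩ := hcm
  obtain ⟨hdj, hdi, hd'⟩ := hdm
  have hs : supp v = {i, j, c, d} := by
    ext l
    by_cases hli : l = i
    · simp [hli, mem_supp.1 hi, mem_supp]
    by_cases hlj : l = j
    · simp [hlj, mem_supp.1 hj, mem_supp]
    have h := Finset.ext_iff.1 hrest l
    simp [hli, hlj] at h ⊢
    exact h
  have e1 := C.four_pair h3 hns hv hs hci hcj hdi hdj hcd hne
  by_cases hic : v i * v i = v c * v c
  · exact hne (Eq.symm (odd v hv j i c d (by rw [hs]; ext l; simp; tauto) (Ne.symm hij) (Ne.symm hcj) (Ne.symm hdj)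
      (Ne.symm hci) (Ne.symm hdi) hcd hic (hic.trans e1)))
  · have e2 := C.four_pair h3 hns hv (a := i) (b := c) (c := j) (d := d) (by rw [hs]; ext l; simp; tauto)
      (Ne.symm hij) (Ne.symm hcj) hdi (Ne.symm hcd) (Ne.symm hdj) hic
    exact hne (odd v hv i j c d hs hij (Ne.symm hci) (Ne.symm hdi) (Ne.symm hcj) (Ne.symm hdj) hcd
      (e2.trans e1.symm) e2)

/-- A vector with at least five non-zero coordinates and no shorter neighbours is impossible. -/
theorem Ctx.long_ne (C : Ctx G S) (h3 : (3 : F) ≠ 0) (hns : ¬ Seed G S) {k : ℕ} (hk : 5 ≤ k)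
    (IH : ∀ u : Fin n → F, InR G u → (supp u).card = 3 ∨ (6 ≤ k ∧ 3 ≤ (supp u).card ∧ (supp u).card < k) → False)
    {v : Fin n → F} (hv : InR G v) (hc : (supp v).card = k) : False := by
  -- all squares are equal
  have heq : ∀ u : Fin n → F, InR G u → (supp u).card = k →
      ∀ i ∈ supp u, ∀ j ∈ supp u, u i * u i = u j * u j := by
    intro u hu hcu i hi j hj
    by_contra hne
    have hij : i ≠ j := fun h => hne (by rw [h])
    obtain ⟨N, hN, hNsum, hx⟩ := C.unequal h3 hns hu (mem_supp.1 hi) (mem_supp.1 hj) hne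
    obtain ⟨D, hD⟩ : ∃ D, D = ((supp u).erase i).erase j := ⟨_, rfl⟩
    rw [← hD] at hNsum hx
    have hDc : D.card = k - 2 := by
      rw [hD, Finset.card_erase_of_mem (Finset.mem_erase.2 ⟨Ne.symm hij, hj⟩), Finset.card_erase_of_mem hi, hcu]
      omega
    by_cases hk6 : 6 ≤ k
    · obtain ⟨c, hcD⟩ : D.Nonempty := Finset.card_pos.1 (by omega)
      obtain ⟨x, hxR, hx1, hx2, -⟩ := hx c hcD
      have l1 := Finset.card_le_card hx1
      have l2 := Finset.card_le_card hx2
      rw [Finset.card_erase_of_mem hcD] at l2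
      exact IH x hxR (Or.inr ⟨hk6, by omega, by omega⟩)
    have hk5 : k = 5 := by omega
    have hz : ∀ c ∈ D, 2 * (u c * u c) = N := fun c hcD => by
      obtain ⟨x, hxR, hx1, hx2, hxc⟩ := hx c hcD
      by_contra hne'
      refine IH x hxR (Or.inl ?_)
      rw [show supp x = D from Finset.Subset.antisymm hx1 fun l hl => ?_, hDc, hk5]
      by_cases hlc : l = c
      · subst hlc
        rw [mem_supp, hxc, sub_ne_zero, ne_eq, eq_comm, div_eq_one_iff_eq hN]
        exact hne'
      · exact hx2 (Finset.mem_erase.2 ⟨hlc, hl⟩)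
    have hsum := Finset.sum_congr rfl (fun c hcD => hz c hcD)
    rw [← Finset.mul_sum, ← hNsum, Finset.sum_const, hDc, hk5, nsmul_eq_mul] at hsum
    push_cast at hsum
    exact hN (by linear_combination -hsum)
  obtain ⟨A, hA⟩ : ∃ A, A = supp v := ⟨_, rfl⟩
  have hAc : A.card = k := hA ▸ hc
  have hind : InR G (ind A : Fin n → F) :=
    hA ▸ C.inR_ind hv (heq v hv hc) (fun h => by rw [h] at hc; simp at hc; omega)
  have hkF : (k : F) ≠ 0 := by rw [← hAc, ← ind_dot_self]; exact hind.ne_zero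
  obtain ⟨a, ha⟩ : A.Nonempty := Finset.card_pos.1 (by omega)
  have hw := hind.refl_ind C.two (C.inR_ax (C.supp_le hind ((supp_ind (F := F) A).symm ▸ ha)))
  have hsum : ∑ i ∈ A, (ax a : Fin n → F) i = 1 := by
    rw [Finset.sum_eq_single a (fun i _ hi => ax_ne hi) (fun h => absurd ha h), ax_self]
  rw [hsum, hAc] at hw
  obtain ⟨w, hw'⟩ : ∃ w, w = (ax a : Fin n → F) - (2 * 1 / (k : F)) • ind A := ⟨_, rfl⟩
  rw [← hw'] at hw
  have hwa : w a * k = k - 2 := by
    rw [hw', Pi.sub_apply, Pi.smul_apply, ax_self, ind_mem ha, smul_eq_mul]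
    field_simp
  have hwo : ∀ i ∈ A, i ≠ a → w i * k = -2 := fun i hi hia => by
    rw [hw', Pi.sub_apply, Pi.smul_apply, ax_ne hia, ind_mem hi, smul_eq_mul]
    field_simp
    ring
  have hwA : supp w ⊆ A := supp_subset fun i hi => by
    rw [hw', Pi.sub_apply, Pi.smul_apply, ax_ne (fun e : i = a => hi (e.symm ▸ ha)), ind_notMem hi, smul_zero,
      sub_zero]
  have hwne : ∀ i ∈ A, i ≠ a → i ∈ supp w := fun i hi hia => mem_supp.2 fun h => by
    have := hwo i hi hia
    rw [h, zero_mul, eq_comm, neg_eq_zero] at this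
    exact C.two this
  by_cases hk2 : (k : F) = 2
  · have hza : w a = 0 := (mul_eq_zero.1 (hwa.trans (by rw [hk2, sub_self]))).resolve_right hkF
    have hsw : supp w = A.erase a := Finset.Subset.antisymm (fun i hi => Finset.mem_erase.2
      ⟨fun e => mem_supp.1 hi (e ▸ hza), hwA hi⟩) fun i hi => hwne i (Finset.mem_erase.1 hi).2 (Finset.mem_erase.1 hi).1
    have hcw : (supp w).card = k - 1 := by rw [hsw, Finset.card_erase_of_mem ha, hAc]
    by_cases hk6 : 6 ≤ k
    · exact IH w hw (Or.inr ⟨hk6, by omega, by omega⟩)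
    · rw [show k = 5 by omega] at hk2
      exact h3 (by push_cast at hk2; linear_combination hk2)
  have hsw : supp w = A := Finset.Subset.antisymm hwA fun i hi => by
    by_cases hia : i = a
    · subst hia
      rw [mem_supp]
      intro h
      rw [h, zero_mul, eq_comm, sub_eq_zero] at hwa
      exact hk2 hwa
    · exact hwne i hi hia
  obtain ⟨b, hb, hba⟩ := Finset.exists_mem_ne (show 1 < A.card by omega) a
  have hk4 : (k : F) - 4 = 0 := by
    have h := heq w hw (hsw ▸ hAc) a (hsw ▸ ha) b (hsw ▸ hb)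
    refine (mul_eq_zero.1 (show (k : F) * ((k : F) - 4) = 0 from ?_)).resolve_left hkF
    linear_combination (k : F) * k * h - (w a * k + (k - 2)) * hwa + (w b * k - 2) * hwo b hb hba
  by_cases hk6 : 6 ≤ k
  swap
  · rw [show k = 5 by omega] at hk4
    exact one_ne_zero (α := F) (by push_cast at hk4; linear_combination hk4)
  obtain ⟨J, hJ, hJc⟩ := Finset.exists_subset_card_eq (show 4 ≤ A.card by omega)
  obtain ⟨y, hy⟩ : ∃ y : Fin n → F, y = ind A - (2 : F) • ind J := ⟨_, rfl⟩
  have hyR : InR G y := C.inR_signed hind fun i => by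
    rw [hy, Pi.sub_apply, Pi.smul_apply, smul_eq_mul]
    by_cases hi : i ∈ J
    · rw [ind_mem hi, ind_mem (hJ hi)]
      exact Or.inr (by ring)
    · rw [ind_notMem hi]
      exact Or.inl (by ring)
  have hys : ∑ i ∈ A, y i = -4 := by
    have hJs : ∑ i ∈ A, (ind J : Fin n → F) i = 4 := by
      rw [← dot_ind, dotProduct_comm, dot_ind, Finset.sum_congr rfl fun i hi => ind_mem (hJ hi), Finset.sum_const,
        hJc]
      simp
    rw [hy]
    simp only [Pi.sub_apply, Pi.smul_apply, smul_eq_mul]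
    rw [Finset.sum_sub_distrib, ← Finset.mul_sum, hJs, Finset.sum_congr rfl fun i hi => ind_mem hi,
      Finset.sum_const, hAc, nsmul_one]
    linear_combination hk4
  have hz := hind.refl_ind C.two hyR
  rw [hys, hAc, show (k : F) = 4 by linear_combination hk4] at hz
  have h4 : (4 : F) ≠ 0 := fun h => mul_ne_zero C.two C.two (by linear_combination h)
  obtain ⟨z, hz'⟩ : ∃ z, z = y - (2 * -4 / 4 : F) • ind A := ⟨_, rfl⟩
  rw [← hz'] at hz
  have hzJ : ∀ i ∈ J, z i = 1 := fun i hi => by
    rw [hz', hy]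
    simp only [Pi.sub_apply, Pi.smul_apply, ind_mem hi, ind_mem (hJ hi), smul_eq_mul]
    field_simp
    ring
  have hzA : ∀ i ∈ A, i ∉ J → z i = 3 := fun i hi hiJ => by
    rw [hz', hy]
    simp only [Pi.sub_apply, Pi.smul_apply, ind_notMem hiJ, ind_mem hi, smul_eq_mul]
    field_simp
    ring
  have hsz : supp z = A := Finset.Subset.antisymm (supp_subset fun i hi => by
    rw [hz', hy]
    simp only [Pi.sub_apply, Pi.smul_apply, ind_notMem hi, ind_notMem (fun h => hi (hJ h)), smul_eq_mul]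
    ring) fun i hi => by
    rw [mem_supp]
    by_cases hiJ : i ∈ J
    · rw [hzJ i hiJ]; exact one_ne_zero
    · rw [hzA i hi hiJ]; exact h3
  obtain ⟨i, hi⟩ : J.Nonempty := Finset.card_pos.1 (by omega)
  obtain ⟨j, hj, hjJ⟩ := Finset.exists_mem_notMem_of_card_lt_card (show J.card < A.card by omega)
  have h := heq z hz (hsz ▸ hAc) i (hsz ▸ hJ hi) j (hsz ▸ hj)
  rw [hzJ i hi, hzA j hj hjJ] at h
  exact mul_ne_zero h4 C.two (by linear_combination -h)

/-- No vector of the set has more than two non-zero coordinates. -/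
theorem Ctx.supp_le_two (C : Ctx G S) (h3 : (3 : F) ≠ 0) (hns : ¬ Seed G S) {v : Fin n → F} (hv : InR G v) :
    (supp v).card ≤ 2 := by
  have h5 : ∀ u : Fin n → F, InR G u → (supp u).card ≠ 5 := fun u hu hc =>
    C.long_ne h3 hns le_rfl (fun w hw h => by
      rcases h with h | ⟨h, -, -⟩
      · exact C.inR_ne_three h3 hns hw h
      · omega) hu hc
  have h4 : ∀ u : Fin n → F, InR G u → (supp u).card ≠ 4 := fun u hu hc => by
    have hind := C.inR_ind hu (C.four_equal h3 hns hu hc) (fun h => by rw [h] at hc; simp at hc)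
    obtain ⟨A, hA⟩ : ∃ A, A = supp u := ⟨_, rfl⟩
    rw [← hA] at hind
    have hAc : A.card = 4 := hA ▸ hc
    have hAS : A ⊆ S := hA ▸ C.supp_le hu
    obtain ⟨d, hd⟩ : A.Nonempty := Finset.card_pos.1 (by omega)
    obtain ⟨f, hf, hfS⟩ := C.exists_outside A (k := 1) (by omega)
    have hde : d ≠ f 0 := fun e => (hfS 0).2 (e ▸ hd)
    obtain ⟨d₂, hd₂, hd₂d⟩ := Finset.exists_mem_ne (show 1 < A.card by omega) d
    have hd₂e : d₂ ≠ f 0 := fun e => (hfS 0).2 (e ▸ hd₂)
    have hτ := C.cyc d d₂ (f 0) (Ne.symm hd₂d) hd₂e hde (hAS hd) (hAS hd₂) (hfS 0).1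
    have hBR := hind.map hτ
    obtain ⟨y, hy⟩ : ∃ y, y = (swp C.two (Ne.symm hd₂d) * swp C.two hd₂e).1 (ind A : Fin n → F) := ⟨_, rfl⟩
    have hyv : y = ind A - ax d + ax (f 0) := by
      rw [hy, qAut_mul_apply, swp_apply C.two hd₂e, ind_mem hd₂, ind_notMem (hfS 0).2, sub_zero, one_smul, swp_apply]
      simp only [Pi.sub_apply, ind_mem hd, ind_mem hd₂, ax_self, ax_ne (Ne.symm hd₂d), ax_ne hde, ax_ne hd₂e,
        sub_zero, sub_self, one_smul]
      abel
    rw [← hy] at hBR
    have hw := hind.refl_ind C.two hBR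
    have hsum : ∑ i ∈ A, y i = 3 := by
      rw [← dot_ind, hyv, add_dotProduct, sub_dotProduct, ind_dot_self, hAc, ax_dot, ax_dot, ind_mem hd,
        ind_notMem (hfS 0).2]
      push_cast
      ring
    rw [hsum, hAc] at hw
    push_cast at hw
    refine h5 _ hw ?_
    have h4' : (4 : F) ≠ 0 := fun h => mul_ne_zero C.two C.two (by linear_combination h)
    have e64 : (2 * 3 / 4 : F) * 4 = 6 := by rw [div_mul_cancel₀ _ h4']; norm_num
    have h1 : supp (y - (2 * 3 / 4 : F) • ind A) = insert (f 0) A := by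
      ext i
      rw [mem_supp, Finset.mem_insert, hyv]
      by_cases hi0 : i = f 0
      · subst hi0
        simp [ax_self, ind_notMem (hfS 0).2, ax_ne (Ne.symm hde)]
      by_cases hi : i ∈ A
      · simp only [hi0, hi, or_true, iff_true, Pi.sub_apply, Pi.add_apply, Pi.smul_apply, ind_mem hi, ax_ne hi0,
          smul_eq_mul]
        by_cases hid : i = d
        · subst hid
          rw [ax_self]
          intro h
          exact mul_ne_zero C.two h3 (by linear_combination (-4 : F) * h - e64)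
        · rw [ax_ne hid]
          intro h
          exact C.two (by linear_combination (-4 : F) * h - e64)
      · simp [hi0, hi, ind_notMem hi, ax_ne hi0, ax_ne (fun e : i = d => hi (e ▸ hd))]
    rw [h1, Finset.card_insert_of_notMem (hfS 0).2, hAc]
  suffices ∀ k, ∀ u : Fin n → F, InR G u → (supp u).card = k → k ≤ 2 from this _ v hv rfl
  intro k
  induction k using Nat.strong_induction_on with
  | _ k ih =>
    intro u hu hc
    by_contra hk
    have hk3 : k ≠ 3 := fun e => C.inR_ne_three h3 hns hu (hc.trans e)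
    have hk4 : k ≠ 4 := fun e => h4 u hu (hc.trans e)
    have hk5 : k ≠ 5 := fun e => h5 u hu (hc.trans e)
    refine C.long_ne h3 hns (k := k) (by omega) (fun w hw h => ?_) hu hc
    rcases h with h | ⟨-, h, h'⟩
    · exact C.inR_ne_three h3 hns hw h
    · have := ih _ h' w hw rfl
      omega

end CfsgLib.Classical22.Frame
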