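/-
A group containing the monomial isometries of many coordinates is monomial or has a seed.
-/
import Cfsg.Agent.Lib.Classical22.Frame.Classify

set_option autoImplicit false

namespace CfsgLib.Classical22.Frame

open Cfsg CfsgLib.Classical
open scoped Matrix _root_.Classical

variable {F : Type*} [Field F] [Fintype F] {n : ℕ} {G : Subgroup (qAut (sq F n))} {S : Finset (Fin n)}

/-- In the field with three elements every non-zero element squares to one. -/
theorem mul_self_of_three (hp : (Fintype.card F).Prime) (h3 : (3 : F) = 0) {x : F} (hx : x ≠ 0) : x * x = 1 := by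
  haveI : Fact (Fintype.card F).Prime := ⟨hp⟩
  haveI : CharP F (Fintype.card F) := by
    obtain ⟨p, hpc⟩ := CharP.exists F
    have hd : p ∣ Fintype.card F := (CharP.cast_eq_zero_iff F p _).1 (Nat.cast_card_eq_zero F)
    rcases (Nat.dvd_prime hp).1 hd with rfl | rfl
    · exact absurd (CharP.char_is_prime F 1) Nat.not_prime_one
    · exact hpc
  have hd : Fintype.card F ∣ 3 := (CharP.cast_eq_zero_iff F _ 3).1 (by exact_mod_cast h3)
  have hc : Fintype.card F = 3 := (Nat.prime_dvd_prime_iff_eq hp Nat.prime_three).1 hd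
  have := FiniteField.pow_card_sub_one_eq_one x hx
  rwa [hc, show 3 - 1 = 2 from rfl, pow_two] at this

theorem dot_self_three (hp : (Fintype.card F).Prime) (h3 : (3 : F) = 0) (v : Fin n → F) :
    v ⬝ᵥ v = ((supp v).card : F) := by
  rw [dot_eq_sum (T := supp v) subset_rfl, Finset.sum_congr rfl fun i hi => mul_self_of_three hp h3 (mem_supp.1 hi),
    Finset.sum_const, nsmul_one]

/-- Over the field with three elements a long vector of the set gives one with four non-zero coordinates. -/
theorem Ctx.exists_four (C : Ctx G S) (h3 : (3 : F) = 0) {v : Fin n → F} (hv : InR G v) (hk : 3 ≤ (supp v).card) :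
    ∃ w, InR G w ∧ (supp w).card = 4 := by
  have key : ∀ v : Fin n → F, InR G v → 4 ≤ (supp v).card → ((supp v).card : F) = 1 →
      ∃ w, InR G w ∧ (supp w).card = 4 := by
    intro v hv hk hk1
    by_cases h4 : (supp v).card = 4
    · exact ⟨v, hv, h4⟩
    obtain ⟨J, hJ, hJc⟩ := Finset.exists_subset_card_eq hk
    obtain ⟨y, hy⟩ : ∃ y : Fin n → F, y = fun i => if i ∈ J then -v i else v i := ⟨_, rfl⟩
    have hyR : InR G y := C.inR_signed hv fun i => by
      rw [hy]
      by_cases hi : i ∈ J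
      · exact Or.inr (if_pos hi)
      · exact Or.inl (if_neg hi)
    obtain ⟨h, hr⟩ := hv
    have hw := hyR.map hr
    refine ⟨_, hw, ?_⟩
    have hyv : y ⬝ᵥ v = 2 := by
      have e : y = v - (2 : F) • fun i => if i ∈ J then v i else 0 := funext fun i => by
        rw [hy]
        by_cases hi : i ∈ J
        · simp [hi]; ring
        · simp [hi]
      rw [e, sub_dotProduct, smul_dotProduct, dot_self_three C.prime h3, hk1,
        dot_eq_sum (T := J) (supp_subset fun i hi => if_neg hi),
        Finset.sum_congr rfl fun i hi => (by rw [if_pos hi]; exact mul_self_of_three C.prime h3 (mem_supp.1 (hJ hi)) :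
          (if i ∈ J then v i else 0) * v i = 1), Finset.sum_const, hJc]
      simp only [nsmul_eq_mul, smul_eq_mul, Nat.cast_ofNat, mul_one]
      linear_combination (-3 : F) * h3
    have hval : (qRefl (sq F n) h).1 y = y - v := by
      rw [refl_apply C.two, hyv, dot_self_three C.prime h3, hk1, div_one,
        show (2 * 2 : F) = 1 by linear_combination h3, one_smul]
    rw [hval, show supp (y - v) = J from ?_, hJc]
    ext i
    rw [mem_supp, Pi.sub_apply, hy]
    by_cases hi : i ∈ J
    · simp only [hi, if_true, iff_true]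
      intro e
      exact mul_ne_zero C.two (mem_supp.1 (hJ hi)) (by linear_combination -e)
    · simp [hi]
  have hk0 : ((supp v).card : F) ≠ 0 := by rw [← dot_self_three C.prime h3]; exact hv.ne_zero
  rcases eq_or_ne (supp v).card 3 with e | e
  · rw [e] at hk0
    exact absurd (by exact_mod_cast h3) hk0
  by_cases h2k : ((supp v).card : F) = 2
  swap
  · refine key v hv (by omega) ?_
    have := mul_self_of_three C.prime h3 hk0
    rcases mul_self_eq_one_iff.1 this with h | h
    · exact h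
    · exact absurd (h.trans (by linear_combination -h3)) h2k
  have hk5 : 5 ≤ (supp v).card := by
    by_contra hc
    rw [show (supp v).card = 4 by omega] at h2k
    exact C.two (by push_cast at h2k; linear_combination h2k)
  obtain ⟨a, ha⟩ := Finset.card_pos.1 (show 0 < (supp v).card by omega)
  have hva := mem_supp.1 ha
  obtain ⟨h, hr⟩ := hv
  have hw := (C.inR_ax (C.supp_le ⟨h, hr⟩ ha)).map hr
  have hsupp : supp ((qRefl (sq F n) h).1 (ax a)) = (supp v).erase a := by
    ext i
    rw [mem_supp, refl_ax_coord C.two h, dot_self_three C.prime h3, h2k, mul_div_cancel_left₀ _ C.two,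
      Finset.mem_erase, mem_supp]
    by_cases hia : i = a
    · subst hia
      simp [mul_self_of_three C.prime h3 hva]
    · simp [hia, hva]
  refine key _ hw ?_ ?_ <;> rw [hsupp, Finset.card_erase_of_mem ha]
  · omega
  · rw [Nat.cast_sub (by omega), h2k]
    norm_num

/-- Over the field with three elements a vector with four non-zero coordinates gives a seed. -/
theorem Ctx.seed_three (C : Ctx G S) (h3 : (3 : F) = 0) {v : Fin n → F} (hv : InR G v) (hc : (supp v).card = 4) :
    Seed G S := by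
  have h2 := C.two
  obtain ⟨v, hv, hc, hone'⟩ : ∃ u : Fin n → F, InR G u ∧ (supp u).card = 4 ∧ ∀ i ∈ supp u, u i = 1 :=
    ⟨ind (supp v), C.inR_ind hv (fun i hi j hj => by
        rw [mul_self_of_three C.prime h3 (mem_supp.1 hi), mul_self_of_three C.prime h3 (mem_supp.1 hj)])
      (fun h => by rw [h] at hc; simp at hc), by rw [supp_ind, hc], fun i hi => ind_mem (by rwa [supp_ind] at hi)⟩
  obtain ⟨a, ha⟩ := Finset.card_pos.1 (show 0 < (supp v).card by omega)
  obtain ⟨b, c, d, hbc, hbd, hcd, hT⟩ := Finset.card_eq_three.1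
    (show ((supp v).erase a).card = 3 by rw [Finset.card_erase_of_mem ha, hc])
  have hm : ∀ i ∈ ({b, c, d} : Finset (Fin n)), i ≠ a ∧ v i ≠ 0 := fun i hi => by
    rw [← hT, Finset.mem_erase, mem_supp] at hi
    exact hi
  obtain ⟨hba, hb0⟩ := hm b (by simp)
  obtain ⟨hca, hc0⟩ := hm c (by simp)
  obtain ⟨hda, hd0⟩ := hm d (by simp)
  have ha0 := mem_supp.1 ha
  have hS := C.supp_le hv
  have haS := hS ha
  have hbS := hS (mem_supp.2 hb0)
  have hcS := hS (mem_supp.2 hc0)
  have hdS := hS (mem_supp.2 hd0)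
  have hsq : ∀ {i}, v i ≠ 0 → v i * v i = 1 := fun h => mul_self_of_three C.prime h3 h
  have hout0 : ∀ i, i ≠ a → i ≠ b → i ≠ c → i ≠ d → v i = 0 := fun i h1 h2 h3 h4 => notMem_supp.1 fun h => by
    have : i ∈ ({b, c, d} : Finset (Fin n)) := hT ▸ Finset.mem_erase.2 ⟨h1, h⟩
    simp [h2, h3, h4] at this
  obtain ⟨x, hx⟩ : ∃ x, x = v - v a • ax a := ⟨_, rfl⟩
  have hxa : x a = 0 := by rw [hx]; simp [ax_self]
  have hxo : ∀ i, i ≠ a → x i = v i := fun i hi => by rw [hx]; simp [ax_ne hi]
  have hxT : supp x ⊆ {b, c, d} := supp_subset fun i hi => by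
    simp only [Finset.mem_insert, Finset.mem_singleton, not_or] at hi
    by_cases hia : i = a
    · exact hia ▸ hxa
    · rw [hxo i hia, hout0 i hia hi.1 hi.2.1 hi.2.2]
  have hxx : x ⬝ᵥ x = 0 := by
    rw [dot_eq_sum hxT, Finset.sum_insert (by simp [hbc, hbd]), Finset.sum_pair hcd, hxo b hba, hxo c hca, hxo d hda,
      hsq hb0, hsq hc0, hsq hd0]
    linear_combination h3
  have hX0 : sq F n x = 0 := by rw [sq_apply, hxx]
  have hp : ∀ {u : Fin n → F}, x ⬝ᵥ u = 0 → QuadraticMap.polar (sq F n) x u = 0 := fun h => by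
    rw [polar_sq, h, mul_zero]
  have hxe : x ⬝ᵥ ax a = 0 := by rw [dot_ax, hxa]
  -- the Eichler transformation leading to `a`
  have hEa : eich (sq F n) x (ax a) ∈ G := by
    have e : (ax a : Fin n → F) + v a • x = v a • v := by
      rw [hx, smul_sub, smul_smul, hsq ha0, one_smul, add_sub_cancel]
    obtain ⟨h, hr⟩ := hv.smul ha0
    have hw : sq F n ((ax a : Fin n → F) + v a • x) ≠ 0 := by rw [e]; exact h
    have h1 := G.mul_mem hr (C.refl a haS)
    rw [show qRefl (sq F n) h = qRefl (sq F n) hw by congr 1; exact e.symm,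
      refl_refl_eich h2 (v a) hxx hxe (sq_ax_ne a) hw, ax_dot, ax_self, div_one] at h1
    have h2' := eich_smul_mem C.prime hX0 (hp (by rw [dotProduct_smul, hxe, smul_zero])) h1 (-v a)
    rwa [smul_smul, neg_mul_neg, hsq ha0, one_smul] at h2'
  obtain ⟨f, hf, hfS⟩ := C.exists_outside {a, b, c, d} (k := 1) (by
    have : ({a, b, c, d} : Finset (Fin n)).card ≤ 4 := Finset.card_le_four
    omega)
  have hout : ∀ i, f i ≠ a ∧ f i ≠ b ∧ f i ≠ c ∧ f i ≠ d := fun i => by
    have := (hfS i).2
    simp only [Finset.mem_insert, Finset.mem_singleton, not_or] at this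
    exact this
  have hal : a ≠ f 0 := Ne.symm (hout 0).1
  have hdl : d ≠ f 0 := Ne.symm (hout 0).2.2.2
  have hxbc : x b = x c := by
    rw [hxo b hba, hxo c hca, hone' b (mem_supp.2 hb0), hone' c (mem_supp.2 hc0)]
  have hxl : x ⬝ᵥ ax (f 0) = 0 := by
    rw [dot_ax, eq_zero_of_supp hxT (by simp [(hout 0).2.1, (hout 0).2.2.1, (hout 0).2.2.2])]
  have hEl : eich (sq F n) x (ax (f 0)) ∈ G := by
    have hτ := C.dswap hal hbc (Ne.symm hba) (hout 0).2.1 (hout 0).2.2.1 haS (hfS 0).1 hbS hcS
    have h := G.mul_mem (G.mul_mem hτ hEa) (G.inv_mem hτ)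
    rw [eich_conj (sq F n) _ hX0 (hp hxe)] at h
    have e1 : (swp C.two hal * swp C.two hbc).1 x = x := by
      have hz : x (f 0) = 0 :=
        eq_zero_of_supp hxT (by simp [(hout 0).2.1, (hout 0).2.2.1, (hout 0).2.2.2])
      rw [qAut_mul_apply, swp_apply, swp_apply]
      simp [hxa, hz, hxbc]
    have e2 : (swp C.two hal * swp C.two hbc).1 (ax a) = ax (f 0) := by
      rw [qAut_mul_apply, swp_other _ _ hba hca, swp_left]
    rwa [e1, e2] at h
  -- a vector orthogonal to `x`
  obtain ⟨w, hw⟩ : ∃ w, w = perpVec x b c := ⟨_, rfl⟩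
  have hxw : x ⬝ᵥ w = 0 := by
    rw [hw, perpVec, dotProduct_sub, dotProduct_smul, dotProduct_smul, dot_ax, dot_ax, smul_eq_mul, smul_eq_mul]
    ring
  have hwz : ∀ i, i ≠ b → i ≠ c → w i = 0 := fun i h1 h2 => by
    rw [hw, perpVec]; simp [ax_ne h1, ax_ne h2]
  obtain ⟨u, hu⟩ : ∃ u : Fin n → F, u = w + ax a + ax d := ⟨_, rfl⟩
  have huR : InR G u := C.inR_signed hv fun i => by
    have hone : ∀ {i : Fin n} {r : F}, v i ≠ 0 → r * r = 1 → r = v i ∨ r = -v i := fun h hr =>
      mul_self_eq_mul_self_iff.1 (hr.trans (hsq h).symm)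
    rw [hu, Pi.add_apply, Pi.add_apply]
    by_cases hia : i = a
    · subst hia
      rw [hwz _ (Ne.symm hba) (Ne.symm hca), ax_self, ax_ne (Ne.symm hda), zero_add, add_zero]
      exact hone ha0 (one_mul 1)
    by_cases hid : i = d
    · subst hid
      rw [hwz _ (Ne.symm hbd) (Ne.symm hcd), ax_self, ax_ne hia, zero_add, zero_add]
      exact hone hd0 (one_mul 1)
    rw [ax_ne hia, ax_ne hid, add_zero, add_zero]
    by_cases hib : i = b
    · subst hib
      refine hone hb0 ?_
      rw [hw, perpVec, Pi.sub_apply, Pi.smul_apply, Pi.smul_apply, ax_self, ax_ne hbc, hxo c hca, smul_eq_mul,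
        smul_eq_mul]
      linear_combination hsq hc0
    by_cases hic : i = c
    · subst hic
      refine hone hc0 ?_
      rw [hw, perpVec, Pi.sub_apply, Pi.smul_apply, Pi.smul_apply, ax_self, ax_ne (Ne.symm hbc), hxo b hba,
        smul_eq_mul, smul_eq_mul]
      linear_combination hsq hb0
    rw [hwz i hib hic, hout0 i hia hib hic hid]
    exact Or.inl rfl
  have hτ' := C.dswap hdl hbc (Ne.symm hbd) (hout 0).2.1 (hout 0).2.2.1 hdS (hfS 0).1 hbS hcS
  obtain ⟨z, hz⟩ : ∃ z : Fin n → F, z = w + ax a + ax (f 0) := ⟨_, rfl⟩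
  have hzR : InR G z := by
    have e : (swp C.two hdl * swp C.two hbc).1 u = -w + ax a + ax (f 0) := by
      have e1 : (swp C.two hdl * swp C.two hbc).1 (ax a) = ax a := by
        rw [qAut_mul_apply, swp_other _ _ hba hca, swp_other _ _ hda (hout 0).1]
      have e2 : (swp C.two hdl * swp C.two hbc).1 (ax d) = ax (f 0) := by
        rw [qAut_mul_apply, swp_other _ _ hbd hcd, swp_left]
      have e3 : (swp C.two hdl * swp C.two hbc).1 w = -w := by
        have hwf : w (f 0) = 0 := hwz _ (hout 0).2.1 (hout 0).2.2.1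
        rw [hw, perpVec, map_sub, map_smul, map_smul, qAut_mul_apply, qAut_mul_apply, swp_right, swp_left,
          swp_other _ _ (Ne.symm hbd) (hout 0).2.1, swp_other _ _ (Ne.symm hcd) (hout 0).2.2.1, hxbc]
        module
      rw [hu, map_add, map_add, e1, e2, e3]
    refine C.inR_signed (e ▸ huR.map hτ') fun i => ?_
    rw [hz, Pi.add_apply, Pi.add_apply, Pi.add_apply, Pi.add_apply, Pi.neg_apply]
    by_cases hib : i = b
    · subst hib
      exact Or.inr (by rw [ax_ne hba, ax_ne (Ne.symm (hout 0).2.1)]; ring)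
    by_cases hic : i = c
    · subst hic
      exact Or.inr (by rw [ax_ne hca, ax_ne (Ne.symm (hout 0).2.2.1)]; ring)
    exact Or.inl (by rw [hwz i hib hic]; ring)
  obtain ⟨hz0, hrz⟩ := hzR
  have hxz : x ⬝ᵥ z = 0 := by rw [hz, dotProduct_add, dotProduct_add, hxw, hxe, hxl, add_zero, add_zero]
  have hzz : z ⬝ᵥ z = 1 := by
    have hw2 : w ⬝ᵥ w = 2 := by
      rw [hw, perpVec_dot]
      simp only [perpVec, Pi.sub_apply, Pi.smul_apply, ax_self, ax_ne hbc, ax_ne (Ne.symm hbc), hxo b hba, hxo c hca,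
        smul_eq_mul]
      linear_combination hsq hb0 + hsq hc0
    rw [hz]
    simp only [add_dotProduct, dotProduct_add, hw2, ax_dot, dot_ax, hwz a (Ne.symm hba) (Ne.symm hca),
      hwz (f 0) (hout 0).2.1 (hout 0).2.2.1, ax_self, ax_ne hal, ax_ne (Ne.symm hal)]
    linear_combination h3
  have hw' : eich (sq F n) x w ∈ G := by
    have h := G.mul_mem (G.mul_mem hrz hEa) (G.inv_mem hrz)
    rw [eich_conj (sq F n) _ hX0 (hp hxe), refl_apply_fix h2 hz0 hxz, refl_apply h2 hz0, ax_dot, hzz, div_one,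
      hz, Pi.add_apply, Pi.add_apply, hwz a (Ne.symm hba) (Ne.symm hca), ax_self, ax_ne hal, zero_add, add_zero,
      mul_one] at h
    have hs : ∀ {y : Fin n → F}, x ⬝ᵥ y = 0 → ∀ t : F, x ⬝ᵥ t • y = 0 := fun h t => by
      rw [dotProduct_smul, h, smul_zero]
    have h' := G.mul_mem (G.mul_mem h (eich_smul_mem C.prime hX0 (hp hxe) hEa (1 : F)))
      (eich_smul_mem C.prime hX0 (hp hxl) hEl (2 : F))
    rw [eich_mul _ hX0 ?_ (hp (hs hxe _)), eich_mul _ hX0 ?_ (hp (hs hxl _)),
      show ax a - (2 : F) • (w + ax a + ax (f 0)) + (1 : F) • ax a + (2 : F) • ax (f 0) = (-2 : F) • w by module,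
      show (-2 : F) = 1 by linear_combination -h3, one_smul] at h'
    · exact h'
    · apply hp
      rw [dotProduct_add, dotProduct_sub, dotProduct_smul, dotProduct_add, dotProduct_add, hxw, hxe, hxl, hs hxe]
      simp
    · apply hp
      rw [dotProduct_sub, dotProduct_smul, dotProduct_add, dotProduct_add, hxw, hxe, hxl]
      simp
  refine ⟨{b, c, d}, x, by simp [Finset.insert_subset_iff, hbS, hcS, hdS], Finset.card_le_three, fun h => hb0 ?_,
    hxT, hxx, fun y hy hxy => ?_, a, haS, by simp [Ne.symm hba, Ne.symm hca, Ne.symm hda], hEa⟩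
  · rw [← hxo b hba, h]; rfl
  have hperm : ({b, c, d} : Finset (Fin n)) = {d, b, c} := by ext i; simp; tauto
  rw [hperm] at hxT hy
  obtain ⟨s, t, rfl⟩ := eq_of_perp_triple (Ne.symm hbd) (Ne.symm hcd) hbc hxT hy hxx hxy
    (by rw [hxo d hda]; exact hd0)
  rw [← hw, add_comm (s • x), eich_add_self _ hX0 (hp (by rw [dotProduct_smul, hxw, smul_zero]))]
  exact eich_smul_mem C.prime hX0 (hp hxw) hw' t

/-- The group is monomial or has a seed. -/
theorem Ctx.mono_or_seed (C : Ctx G S) : (∀ g ∈ G, Mono g) ∨ Seed G S := by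
  by_cases hns : Seed G S
  · exact Or.inr hns
  refine Or.inl fun g hg i => ?_
  by_cases hi : i ∈ S
  swap
  · exact ⟨i, 1, by rw [C.fixed g hg i hi, one_smul]⟩
  have hR := (C.inR_ax hi).map hg
  obtain ⟨x, hx⟩ : ∃ x, x = g.1 (ax i) := ⟨_, rfl⟩
  rw [← hx] at hR
  have hxx : x ⬝ᵥ x = 1 := by rw [hx, iso_dot C.two, ax_dot, ax_self]
  suffices hone : (supp x).card ≤ 1 by
    obtain ⟨j, hj⟩ : (supp x).Nonempty := Finset.nonempty_iff_ne_empty.2 fun h => by
      rw [dot_eq_sum (T := ∅) h.le, Finset.sum_empty] at hxx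
      exact zero_ne_one hxx
    refine ⟨j, x j, hx ▸ funext fun l => ?_⟩
    by_cases hl : l = j
    · subst hl; simp [ax_self]
    · rw [Pi.smul_apply, ax_ne hl, smul_zero]
      by_contra h
      exact hl (Finset.card_le_one.1 hone l (mem_supp.2 h) j hj)
  have hle : (supp x).card ≤ 2 := by
    by_cases h3 : (3 : F) = 0
    · by_contra hgt
      obtain ⟨w, hw, hw4⟩ := C.exists_four h3 hR (by omega)
      exact hns (C.seed_three h3 hw hw4)
    · exact C.supp_le_two h3 hns hR
  by_contra hgt
  have hcard : (supp x).card = 2 := by omega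
  by_cases h3 : (3 : F) = 0
  · rw [dot_self_three C.prime h3, hcard] at hxx
    exact one_ne_zero (α := F) (by push_cast at hxx; linear_combination hxx)
  obtain ⟨a, b, hab, hs⟩ := Finset.card_eq_two.1 hcard
  have ha : x a ≠ 0 := mem_supp.1 (by simp [hs])
  have hb : x b ≠ 0 := mem_supp.1 (by simp [hs])
  have heq := C.inR_two h3 hns hR hcard ha hb
  have h2a : 2 * (x a * x a) = 1 := by
    rw [dot_eq_sum (T := {a, b}) hs.le, Finset.sum_pair hab] at hxx
    linear_combination hxx + heq
  have hS := C.supp_le hR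
  have haS : a ∈ S := hS (mem_supp.2 ha)
  have hbS : b ∈ S := hS (mem_supp.2 hb)
  obtain ⟨f, hf, hfS⟩ := C.exists_outside {a, b} (k := 2) (by
    have : ({a, b} : Finset (Fin n)).card ≤ 2 := Finset.card_le_two
    omega)
  have hout : ∀ k, f k ≠ a ∧ f k ≠ b := fun k => by
    have := (hfS k).2
    simp only [Finset.mem_insert, Finset.mem_singleton, not_or] at this
    exact this
  have hy₀ : InR G (ax a + ax b : Fin n → F) := by
    refine C.inR_signed (hR.smul (inv_ne_zero ha)) fun k => ?_
    rw [Pi.add_apply, Pi.smul_apply, smul_eq_mul]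
    by_cases hka : k = a
    · subst hka
      rw [ax_self, ax_ne hab, add_zero, inv_mul_cancel₀ ha]
      exact Or.inl rfl
    by_cases hkb : k = b
    · subst hkb
      rw [ax_self, ax_ne hka, zero_add]
      rcases mul_self_eq_mul_self_iff.1 heq with h | h
      · exact Or.inl (by rw [← h, inv_mul_cancel₀ ha])
      · exact Or.inr (by rw [h, neg_mul_eq_neg_mul] ; field_simp)
    rw [ax_ne hka, ax_ne hkb, notMem_supp.1 (show k ∉ supp x by simp [hs, hka, hkb])]
    simp
  have hbc : b ≠ f 0 := Ne.symm (hout 0).2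
  have h01 : f 0 ≠ f 1 := hf.ne (by decide)
  have hy := hy₀.map (C.cyc b (f 0) (f 1) hbc h01 (Ne.symm (hout 1).2) hbS (hfS 0).1 (hfS 1).1)
  rw [map_add, show (swp C.two hbc * swp C.two h01).1 (ax a : Fin n → F) = ax a by
      rw [qAut_mul_apply, swp_other _ _ (hout 0).1 (hout 1).1, swp_other _ _ (Ne.symm hab) (hout 0).1],
    show (swp C.two hbc * swp C.two h01).1 (ax b : Fin n → F) = ax (f 0) by
      rw [qAut_mul_apply, swp_other _ _ (hout 0).2 (hout 1).2, swp_left]] at hy
  have hu := hy.map (G.inv_mem hg)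
  obtain ⟨u, hu'⟩ : ∃ u, u = (g⁻¹).1 (ax a + ax (f 0) : Fin n → F) := ⟨_, rfl⟩
  rw [← hu'] at hu
  have huu : u ⬝ᵥ u = 2 := by
    rw [hu', iso_dot C.two]
    simp only [add_dotProduct, dotProduct_add, ax_dot, ax_self, ax_ne (hout 0).1, ax_ne (Ne.symm (hout 0).1)]
    norm_num
  have hui : u i = x a := by
    rw [← dot_ax i u, hu', ← iso_dot C.two g, qApply_inv_self, ← hx, add_dotProduct, ax_dot, ax_dot,
      notMem_supp.1 (show f 0 ∉ supp x by simp [hs, (hout 0).1, (hout 0).2]), add_zero]
  have hu1 : i ∈ supp u := by rw [mem_supp, hui]; exact ha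
  have hcu := C.supp_le_two h3 hns hu
  rw [dot_eq_sum (T := supp u) subset_rfl] at huu
  have hpos : 0 < (supp u).card := Finset.card_pos.2 ⟨i, hu1⟩
  rcases (show (supp u).card = 1 ∨ (supp u).card = 2 by omega) with h1 | h1
  · obtain ⟨j, hj⟩ := Finset.card_eq_one.1 h1
    rw [hj, Finset.mem_singleton] at hu1
    rw [hj, Finset.sum_singleton, ← hu1, hui] at huu
    exact h3 (by linear_combination h2a - 2 * huu)
  · rw [Finset.sum_congr rfl fun j hj => C.inR_two h3 hns hu h1 (mem_supp.1 hj) (mem_supp.1 hu1), Finset.sum_const,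
      h1, hui, nsmul_eq_mul] at huu
    push_cast at huu
    exact one_ne_zero (α := F) (by linear_combination h2a - huu)

end CfsgLib.Classical22.Frame
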