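/-
An overgroup of the even monomial isometries with a seed is everything.
-/
import Cfsg.Agent.Lib.Classical22.Frame.MonoOrSeed

set_option autoImplicit false

namespace CfsgLib.Classical22.Frame

open Cfsg CfsgLib.Classical
open scoped Matrix _root_.Classical

variable {F : Type*} [Field F] [Fintype F] {n : ℕ}

/-- A group containing the products of two axis reflections and the three-cycles of all coordinates. -/
structure Base (H : Subgroup (qAut (sq F n))) : Prop where
  two : (2 : F) ≠ 0
  prime : (Fintype.card F).Prime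
  dim : 5 ≤ n
  pair : ∀ i j : Fin n, i ≠ j → qRefl (sq F n) (sq_ax_ne i) * qRefl (sq F n) (sq_ax_ne j) ∈ H
  cyc : ∀ a b c : Fin n, ∀ (hab : a ≠ b) (hbc : b ≠ c), a ≠ c → swp two hab * swp two hbc ∈ H

/-- The sign change of a set of coordinates. -/
def sgn (F : Type*) [Field F] {n : ℕ} (D : Finset (Fin n)) : qAut (sq F n) :=
  ⟨LinearEquiv.ofInvolutive
    { toFun := fun x i => if i ∈ D then -x i else x i
      map_add' := fun x y => funext fun i => by
        simp only [Pi.add_apply]
        split_ifs <;> ring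
      map_smul' := fun c x => funext fun i => by
        simp only [Pi.smul_apply, smul_eq_mul, RingHom.id_apply]
        split_ifs <;> ring }
    (fun x => funext fun i => by
      change (if i ∈ D then -(if i ∈ D then -x i else x i) else (if i ∈ D then -x i else x i)) = x i
      split_ifs <;> simp),
   fun x => by
    rw [sq_apply, sq_apply]
    refine Finset.sum_congr rfl fun i _ => ?_
    change (if i ∈ D then -x i else x i) * (if i ∈ D then -x i else x i) = x i * x i
    split_ifs <;> ring⟩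

omit [Fintype F] in
theorem sgn_apply (D : Finset (Fin n)) (x : Fin n → F) (i : Fin n) :
    (sgn F D).1 x i = if i ∈ D then -x i else x i := rfl

omit [Fintype F] in
theorem sgn_ax (D : Finset (Fin n)) (i : Fin n) :
    (sgn F D).1 (ax i : Fin n → F) = if i ∈ D then -ax i else ax i := funext fun j => by
  rw [sgn_apply]
  by_cases h : j = i
  · subst h; split_ifs <;> simp [ax_self]
  · split_ifs <;> simp [ax_ne h]

omit [Fintype F] in
theorem sgn_mul_self (D : Finset (Fin n)) : sgn F D * sgn F D = 1 := qAut_ext fun x => funext fun i => by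
  rw [qAut_mul_apply, sgn_apply, sgn_apply]
  change _ = x i
  split_ifs <;> simp

omit [Fintype F] in
theorem sgn_empty : sgn F (∅ : Finset (Fin n)) = 1 := qAut_ext fun x => funext fun i => by
  rw [sgn_apply]
  simp

omit [Fintype F] in
theorem sgn_insert (h2 : (2 : F) ≠ 0) {D : Finset (Fin n)} {a : Fin n} (ha : a ∉ D) :
    sgn F (insert a D) = qRefl (sq F n) (sq_ax_ne a) * sgn F D := qAut_ext fun x => funext fun i => by
  rw [qAut_mul_apply, refl_ax_apply h2, sgn_apply, Pi.sub_apply, Pi.smul_apply, sgn_apply, sgn_apply]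
  by_cases hi : i = a
  · subst hi
    rw [if_pos (Finset.mem_insert_self _ _), if_neg ha, ax_self, smul_eq_mul]
    ring
  · rw [ax_ne hi, smul_zero, sub_zero]
    simp [hi]

omit [Fintype F] in
theorem sgn_insert' (h2 : (2 : F) ≠ 0) {D : Finset (Fin n)} {a : Fin n} (ha : a ∉ D) :
    sgn F (insert a D) = sgn F D * qRefl (sq F n) (sq_ax_ne a) := by
  rw [sgn_insert h2 ha]
  refine qAut_ext fun x => ?_
  rw [qAut_mul_apply, qAut_mul_apply, refl_ax_apply h2, refl_ax_apply h2, map_sub, map_smul, sgn_ax, if_neg ha,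
    sgn_apply, if_neg ha]

omit [Fintype F] in
theorem sgn_comm_fix (h2 : (2 : F) ≠ 0) {i0 : Fin n} {g : qAut (sq F n)} (hg : g.1 (ax i0) = ax i0) :
    g * sgn F (Finset.univ.erase i0) = sgn F (Finset.univ.erase i0) * g := by
  have e : ∀ y : Fin n → F, (sgn F (Finset.univ.erase i0)).1 y = -y + (2 * y i0) • ax i0 := fun y => funext fun i => by
    rw [sgn_apply, Pi.add_apply, Pi.smul_apply, Pi.neg_apply]
    by_cases hi : i = i0
    · subst hi
      rw [if_neg (by simp), ax_self, smul_eq_mul]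
      ring
    · rw [if_pos (by simp [hi]), ax_ne hi, smul_zero, add_zero]
  refine qAut_ext fun y => ?_
  have h0 : g.1 y i0 = y i0 := by rw [← dot_ax i0 (g.1 y), ← hg, iso_dot h2, dot_ax]
  rw [qAut_mul_apply, qAut_mul_apply, e, e, map_add, map_neg, map_smul, hg, h0]

omit [Fintype F] in
theorem sgn_univ_comm (g : qAut (sq F n)) : g * sgn F Finset.univ = sgn F Finset.univ * g := by
  have e : ∀ y : Fin n → F, (sgn F Finset.univ).1 y = -y := fun y => funext fun i => by
    rw [sgn_apply, if_pos (Finset.mem_univ _), Pi.neg_apply]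
  refine qAut_ext fun y => ?_
  rw [qAut_mul_apply, qAut_mul_apply, e, e, map_neg]

variable {H : Subgroup (qAut (sq F n))}

theorem Base.sgn_mem (B : Base H) : ∀ (D : Finset (Fin n)), Even D.card → sgn F D ∈ H := by
  intro D
  induction hk : D.card using Nat.strong_induction_on generalizing D with
  | _ k ih =>
    intro he
    rcases Nat.eq_zero_or_pos k with h0 | hpos
    · rw [Finset.card_eq_zero.1 (hk.trans h0), sgn_empty]
      exact H.one_mem
    obtain ⟨r, hr⟩ := he
    obtain ⟨a, ha, b, hb, hab⟩ := Finset.one_lt_card.1 (show 1 < D.card by omega)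
    have e1 : D = insert a (insert b ((D.erase a).erase b)) := by
      rw [Finset.insert_erase (Finset.mem_erase.2 ⟨Ne.symm hab, hb⟩), Finset.insert_erase ha]
    rw [e1, sgn_insert B.two (by simp [hab]), sgn_insert B.two (by simp), ← mul_assoc]
    have hc : ((D.erase a).erase b).card = k - 2 := by
      rw [Finset.card_erase_of_mem (Finset.mem_erase.2 ⟨Ne.symm hab, hb⟩), Finset.card_erase_of_mem ha, hk]
      omega
    exact H.mul_mem (B.pair a b hab) (ih _ (by omega) _ hc ⟨r - 1, by omega⟩)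

/-- A seed for the group gives everything. -/
theorem Base.full_of_seed (B : Base H) {T : Finset (Fin n)} {x : Fin n → F} (hT : T.card ≤ 3) (hx0 : x ≠ 0)
    (hxT : supp x ⊆ T) (hxx : x ⬝ᵥ x = 0) (hroot : RootAt H T x) {j₀ : Fin n} (hj₀ : j₀ ∉ T)
    (hj : eich (sq F n) x (ax j₀) ∈ H) : eichGroup (sq F n) ≤ H := by
  have h2 := B.two
  have hX0 : sq F n x = 0 := by rw [sq_apply, hxx]
  have hp : ∀ {u : Fin n → F}, x ⬝ᵥ u = 0 → QuadraticMap.polar (sq F n) x u = 0 := fun h => by
    rw [polar_sq, h, mul_zero]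
  have hz : ∀ i, i ∉ T → x i = 0 := fun i hi => eq_zero_of_supp hxT hi
  have hall : ∀ j, j ∉ T → eich (sq F n) x (ax j) ∈ H := by
    intro j hjT
    by_cases hjj : j₀ = j
    · exact hjj ▸ hj
    by_cases hex : ∃ l, l ≠ j₀ ∧ l ≠ j ∧ x l = 0
    swap
    · -- all three coordinates of `T` are non-zero
      push Not at hex
      have hsT : ∀ t, t ∈ T → x t ≠ 0 := fun t ht =>
        hex t (fun e => hj₀ (e ▸ ht)) (fun e => hjT (e ▸ ht))
      have hT3 : T.card = 3 := by
        have hsub : (Finset.univ.erase j₀).erase j ⊆ T := fun t ht => by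
          simp only [Finset.mem_erase, Finset.mem_univ, and_true] at ht
          exact hxT (mem_supp.2 (hex t ht.2 ht.1))
        have h1 := Finset.card_le_card hsub
        rw [Finset.card_erase_of_mem (Finset.mem_erase.2 ⟨Ne.symm hjj, Finset.mem_univ _⟩),
          Finset.card_erase_of_mem (Finset.mem_univ _), Finset.card_univ, Fintype.card_fin] at h1
        have := B.dim
        omega
      obtain ⟨b, c, e, hbc, hbe, hce, rfl⟩ := Finset.card_eq_three.1 hT3
      have hb : b ∈ ({b, c, e} : Finset (Fin n)) := by simp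
      have hc : c ∈ ({b, c, e} : Finset (Fin n)) := by simp
      have hb₀ : j₀ ≠ b := fun h => hj₀ (h ▸ hb)
      have hbj : j ≠ b := fun h => hjT (h ▸ hb)
      have hcj : j ≠ c := fun h => hjT (h ▸ hc)
      have hτ : swp B.two hjj * swp B.two hbc ∈ H := by
        have h := H.mul_mem (B.cyc j₀ j b hjj hbj hb₀) (B.cyc j b c hbj hbc hcj)
        rwa [mul_assoc, ← mul_assoc (swp B.two hbj) (swp B.two hbj),
          show swp B.two hbj * swp B.two hbj = 1 from qRefl_mul_self _ _, one_mul] at h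
      obtain ⟨z, hzdef⟩ : ∃ z, z = (swp B.two hbc).1 x := ⟨_, rfl⟩
      have hzT : supp z ⊆ {b, c, e} := by
        rw [hzdef, swp_apply]
        exact supp_sub hxT (supp_smul_le (supp_sub (supp_ax_le hb) (supp_ax_le hc)) _)
      have hzz : z ⬝ᵥ z = 0 := by rw [hzdef, iso_dot h2, hxx]
      have hzb : z b = x c := by
        rw [hzdef, swp_apply]
        simp [ax_self, ax_ne hbc]
      have hzx : ∀ t, z ⬝ᵥ (qRefl (sq F n) (sq_ax_ne t)).1 x = z ⬝ᵥ x - 2 * x t * z t := fun t => by
        rw [refl_ax_apply h2, dotProduct_sub, dotProduct_smul, dot_ax, smul_eq_mul]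
      obtain ⟨a, ha, hza⟩ : ∃ a ∈ ({b, c, e} : Finset (Fin n)),
          z ⬝ᵥ (qRefl (sq F n) (sq_ax_ne a)).1 x ≠ 0 := by
        by_contra hne
        push Not at hne
        have h1 := hne b hb
        have h2' := hne c hc
        have h3' := hne e (by simp)
        rw [hzx] at h1 h2' h3'
        have hS : x b * z b + x c * z c + x e * z e = z ⬝ᵥ x := by
          rw [dot_triple hbc hbe hce hzT x]; ring
        have h0 : z ⬝ᵥ x = 0 := by linear_combination h1 + h2' + h3' + 2 * hS
        rw [h0, hzb] at h1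
        exact mul_ne_zero (mul_ne_zero h2 (hsT b hb)) (hsT c hc) (by linear_combination -h1)
      obtain ⟨y, hy⟩ : ∃ y, y = (qRefl (sq F n) (sq_ax_ne a)).1 x := ⟨_, rfl⟩
      have hyg : (qRefl (sq F n) (sq_ax_ne a) * qRefl (sq F n) (sq_ax_ne j₀)).1 x = y := by
        rw [qAut_mul_apply, refl_ax_fix (hz _ hj₀), hy]
      have haj : a ≠ j₀ := fun h => hj₀ (h ▸ ha)
      have hyr : RootAt H {b, c, e} y := by
        rw [← hyg]
        refine RootAt.map h2 hroot hxx (B.pair a j₀ haj) fun w hw => ?_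
        rw [mul_inv_rev, qRefl_inv, qRefl_inv, qAut_mul_apply, refl_ax_fix (eq_zero_of_supp
          (flip_supp h2 ha hw) hj₀)]
        exact flip_supp h2 ha hw
      have hyT : supp y ⊆ {b, c, e} := hy ▸ flip_supp h2 ha hxT
      have hyy : y ⬝ᵥ y = 0 := by rw [hy, iso_dot h2, hxx]
      have hxy : x ⬝ᵥ y ≠ 0 := by
        rw [hy, dotProduct_comm, dot_flip h2 hxx]
        exact neg_ne_zero.2 (mul_ne_zero h2 (mul_ne_zero (hsT a ha) (hsT a ha)))
      rw [← hy] at hza
      obtain ⟨r, hr⟩ : ∃ r, r = (x ⬝ᵥ y) / (z ⬝ᵥ y) := ⟨_, rfl⟩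
      have hr0 : r ≠ 0 := hr ▸ div_ne_zero hxy hza
      obtain ⟨hperp, hmove⟩ := eich_shift h2 hyy hxy (z := r • z)
        (by rw [smul_dotProduct, smul_eq_mul, hr, div_mul_cancel₀ _ hza])
        (by rw [smul_dotProduct, dotProduct_smul, hzz, smul_zero, smul_zero, hxx])
      obtain ⟨w, hw⟩ : ∃ w, w = (2 * (x ⬝ᵥ y))⁻¹ • (r • z - x) := ⟨_, rfl⟩
      rw [← hw] at hperp hmove
      have hwT : supp w ⊆ {b, c, e} := hw ▸ supp_smul_le (supp_sub (supp_smul_le hzT r) hxT) _
      have hg := hyr w hwT hperp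
      have hgj : (eich (sq F n) y w).1 (ax j₀) = ax j₀ := by
        rw [eich_apply' h2 hyy hperp, ax_dot, ax_dot, eq_zero_of_supp hyT hj₀, eq_zero_of_supp hwT hj₀]
        simp
      have h := H.mul_mem (H.mul_mem hg hj) (H.inv_mem hg)
      have hxj : x ⬝ᵥ ax j₀ = 0 := by rw [dot_ax, hz _ hj₀]
      have hzj : z ⬝ᵥ ax j₀ = 0 := by rw [dot_ax, eq_zero_of_supp hzT hj₀]
      have hZ0 : sq F n z = 0 := by rw [sq_apply, hzz]
      have hpz : ∀ t : F, QuadraticMap.polar (sq F n) z (t • ax j₀) = 0 := fun t => by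
        rw [QuadraticMap.polar_smul_right, polar_sq, hzj, mul_zero, smul_zero]
      rw [eich_conj (sq F n) _ hX0 (hp hxj), hmove, hgj,
        eich_smul_left _ hZ0 (by rw [polar_sq, hzj, mul_zero])] at h
      have h' := eich_smul_mem B.prime hZ0 (hpz r) h r⁻¹
      rw [smul_smul, inv_mul_cancel₀ hr0, one_smul] at h'
      have h'' := H.mul_mem (H.mul_mem hτ h') (H.inv_mem hτ)
      rw [eich_conj (sq F n) _ hZ0 (by rw [polar_sq, hzj, mul_zero])] at h''
      have e1 : (swp B.two hjj * swp B.two hbc).1 z = x := by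
        rw [qAut_mul_apply, hzdef, show (swp B.two hbc).1 ((swp B.two hbc).1 x) = x by
          rw [← qAut_mul_apply, show swp B.two hbc * swp B.two hbc = 1 from qRefl_mul_self _ _]
          rfl]
        rw [swp_apply]
        simp [hz _ hj₀, hz _ hjT]
      have e2 : (swp B.two hjj * swp B.two hbc).1 (ax j₀) = ax j := by
        rw [qAut_mul_apply, swp_other _ _ (Ne.symm hb₀) (fun h => hj₀ (h ▸ hc)), swp_left]
      rwa [e1, e2] at h''
    obtain ⟨l, hlj₀, hlj, hl0⟩ := hex
    have hjl : j ≠ l := fun e => hlj e.symm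
    have hτ := B.cyc j₀ j l hjj hjl (fun e => hlj₀ e.symm)
    have h := H.mul_mem (H.mul_mem hτ hj) (H.inv_mem hτ)
    rw [eich_conj (sq F n) _ hX0 (hp (by rw [dot_ax, hz _ hj₀]))] at h
    have e1 : (swp B.two hjj * swp B.two hjl).1 x = x := by
      rw [qAut_mul_apply, swp_apply, swp_apply]
      simp [hz _ hj₀, hz _ hjT, hl0]
    have e2 : (swp B.two hjj * swp B.two hjl).1 (ax j₀) = ax j := by
      rw [qAut_mul_apply, swp_other _ _ (Ne.symm hjj) hlj₀, swp_left]
    rwa [e1, e2] at h
  have hfull : EFull (sq F n) H x := by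
    intro w hw
    have hxw : x ⬝ᵥ w = 0 := (mul_eq_zero.1 ((polar_sq x w).symm.trans hw)).resolve_left h2
    suffices ∀ D : Finset (Fin n), Disjoint D T →
        eich (sq F n) x (fun i => if i ∈ T ∪ D then w i else 0) ∈ H by
      have h := this Tᶜ disjoint_compl_left
      convert h using 2
      funext i
      simp
    intro D
    induction D using Finset.induction with
    | empty =>
      intro _
      refine hroot _ (supp_subset fun i hi => by simp [hi]) ?_
      rw [dot_eq_sum hxT] at hxw ⊢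
      rw [← hxw]
      exact Finset.sum_congr rfl fun i hi => by simp [hi]
    | @insert a D ha ih =>
      intro hd
      rw [Finset.disjoint_insert_left] at hd
      have hxu : x ⬝ᵥ (fun i => if i ∈ T ∪ D then w i else 0) = 0 := by
        rw [dot_eq_sum hxT] at hxw ⊢
        rw [← hxw]
        exact Finset.sum_congr rfl fun i hi => by simp [hi]
      have hxa : x ⬝ᵥ ax a = 0 := by rw [dot_ax, hz a hd.1]
      have h := H.mul_mem (ih hd.2) (eich_smul_mem B.prime hX0 (hp hxa) (hall a hd.1) (w a))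
      rw [eich_mul _ hX0 (hp hxu) (hp (by rw [dotProduct_smul, hxa, smul_zero]))] at h
      convert h using 2
      funext i
      by_cases hi : i = a
      · subst hi
        simp [ha, hd.1, ax_self]
      · simp [hi, ax_ne hi]
  obtain ⟨a, ha⟩ : ∃ a, x a ≠ 0 := Function.ne_iff.1 hx0
  have haj : a ≠ j₀ := fun e => ha (e ▸ hz _ hj₀)
  have hg := B.pair a j₀ haj
  have hfull' := efull_conj (sq F n) hg hX0 hfull
  refine eichGroup_le_of_full (sq F n) (polarNondeg_sq h2) (by rw [Module.finrank_fin_fun]; have := B.dim; omega)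
    hX0 (by rw [qAut_map, hX0]) ?_ hfull hfull'
  rw [polar_sq, qAut_mul_apply, refl_ax_fix (hz _ hj₀), refl_ax_apply h2, dotProduct_sub, hxx, dotProduct_smul,
    dot_ax, smul_eq_mul, zero_sub]
  exact mul_ne_zero h2 (neg_ne_zero.2 (mul_ne_zero (mul_ne_zero h2 ha) ha))

/-- Extending by an involution commuting with everything that matters gives the dichotomy. -/
theorem Base.dichotomy (B : Base H) {S : Finset (Fin n)} (hS : 5 ≤ S.card) (ε : qAut (sq F n))
    (hε2 : ε * ε = 1) (hεfix : ∀ i, i ∉ S → ε.1 (ax i) = ax i)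
    (hεc : ∀ g : qAut (sq F n), (∀ i, i ∉ S → g.1 (ax i) = ax i) → g * ε = ε * g)
    (hεr : ∀ i ∈ S, ε * qRefl (sq F n) (sq_ax_ne i) ∈ H) :
    (∀ g ∈ H, (∀ i, i ∉ S → g.1 (ax i) = ax i) → Mono g) ∨ eichGroup (sq F n) ≤ H := by
  obtain ⟨G, hG⟩ : ∃ G : Subgroup (qAut (sq F n)), ∀ g, g ∈ G ↔
      (∀ i, i ∉ S → g.1 (ax i) = ax i) ∧ (g ∈ H ∨ ε * g ∈ H) := by
    refine ⟨{ carrier := {g | (∀ i, i ∉ S → g.1 (ax i) = ax i) ∧ (g ∈ H ∨ ε * g ∈ H)}
              one_mem' := ⟨fun i _ => rfl, Or.inl H.one_mem⟩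
              mul_mem' := ?_
              inv_mem' := ?_ }, fun g => Iff.rfl⟩
    · rintro g h ⟨hg1, hg2⟩ ⟨hh1, hh2⟩
      refine ⟨fun i hi => by rw [qAut_mul_apply, hh1 i hi, hg1 i hi], ?_⟩
      rcases hg2 with hg2 | hg2 <;> rcases hh2 with hh2 | hh2
      · exact Or.inl (H.mul_mem hg2 hh2)
      · refine Or.inr ?_
        rw [← mul_assoc, ← hεc g hg1, mul_assoc]
        exact H.mul_mem hg2 hh2
      · refine Or.inr ?_
        rw [← mul_assoc]
        exact H.mul_mem hg2 hh2
      · refine Or.inl ?_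
        have := H.mul_mem hg2 hh2
        rwa [← mul_assoc, mul_assoc ε g ε, hεc g hg1, ← mul_assoc, hε2, one_mul] at this
    · rintro g ⟨hg1, hg2⟩
      have hi : ∀ i, i ∉ S → (g⁻¹).1 (ax i) = ax i := fun i hi => by
        conv_lhs => rw [← hg1 i hi, qInv_apply_self]
      refine ⟨hi, hg2.imp H.inv_mem fun h => ?_⟩
      have := H.inv_mem h
      rwa [mul_inv_rev, inv_eq_of_mul_eq_one_right hε2, hεc _ hi] at this
  have C : Ctx G S := by
    refine ⟨B.two, B.prime, hS, fun i hi => (hG _).2 ⟨fun j hj => refl_ax_fix (ax_ne ?_), Or.inr (hεr i hi)⟩,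
      fun a b c hab hbc hac ha hb hc => (hG _).2 ⟨fun j hj => ?_, Or.inl (B.cyc a b c hab hbc hac)⟩,
      fun g hg => ((hG g).1 hg).1⟩
    · exact fun e => hj (e ▸ hi)
    · have hne : ∀ k ∈ S, k ≠ j := fun k hk e => hj (e ▸ hk)
      rw [qAut_mul_apply, swp_other _ _ (hne b hb) (hne c hc), swp_other _ _ (hne a ha) (hne b hb)]
  rcases C.mono_or_seed with hall | ⟨T, x, hTS, hT, hx0, hxT, hxx, hroot, j, hjS, hjT, hj⟩
  · exact Or.inl fun g hg hfix => hall g ((hG g).2 ⟨hfix, Or.inl hg⟩)
  refine Or.inr ?_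
  have hX0 : sq F n x = 0 := by rw [sq_apply, hxx]
  have htwice : ∀ w, x ⬝ᵥ w = 0 → eich (sq F n) x w ∈ G → eich (sq F n) x w ∈ H := by
    intro w hw h
    have hp : QuadraticMap.polar (sq F n) x w = 0 := by rw [polar_sq, hw, mul_zero]
    have h' := eich_smul_mem B.prime hX0 hp h (1 / 2 : F)
    have hp' : QuadraticMap.polar (sq F n) x ((1 / 2 : F) • w) = 0 := by
      rw [QuadraticMap.polar_smul_right, hp, smul_zero]
    have e : eich (sq F n) x ((1 / 2 : F) • w) * eich (sq F n) x ((1 / 2 : F) • w) = eich (sq F n) x w := by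
      rw [eich_mul _ hX0 hp' hp', ← add_smul, show (1 / 2 : F) + 1 / 2 = 1 by field_simp [B.two]; ring, one_smul]
    rw [← e]
    obtain ⟨hfix, h1 | h1⟩ := (hG _).1 h'
    · exact H.mul_mem h1 h1
    · have := H.mul_mem h1 h1
      rwa [← mul_assoc, mul_assoc ε _ ε, hεc _ hfix, ← mul_assoc, hε2, one_mul] at this
  exact B.full_of_seed hT hx0 hxT hxx (fun y hy hxy => htwice y hxy (hroot y hy hxy)) hjT
    (htwice _ (by rw [dot_ax, eq_zero_of_supp hxT hjT]) hj)

/-- In odd dimension the group is monomial or everything. -/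
theorem Base.odd_dichotomy (B : Base H) (hn : Odd n) : (∀ g ∈ H, Mono g) ∨ eichGroup (sq F n) ≤ H := by
  refine (B.dichotomy (S := Finset.univ) (by simpa using B.dim) (sgn F Finset.univ) (sgn_mul_self _)
    (fun i hi => absurd (Finset.mem_univ i) hi) (fun g _ => sgn_univ_comm g) (fun i _ => ?_)).imp_left
    fun h g hg => h g hg fun i hi => absurd (Finset.mem_univ i) hi
  have e : sgn F Finset.univ = sgn F (Finset.univ.erase i) * qRefl (sq F n) (sq_ax_ne i) := by
    conv_lhs => rw [← Finset.insert_erase (Finset.mem_univ i)]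
    rw [sgn_insert' B.two (by simp)]
  rw [e, mul_assoc, qRefl_mul_self, mul_one]
  refine B.sgn_mem _ ?_
  rw [Finset.card_erase_of_mem (Finset.mem_univ i), Finset.card_univ, Fintype.card_fin]
  exact Nat.Odd.sub_odd hn odd_one

/-- In even dimension the stabiliser of each axis is monomial, or the group is everything. -/
theorem Base.even_dichotomy (B : Base H) (hn : Even n) :
    (∀ g ∈ H, ∀ i, g.1 (ax i) = ax i → Mono g) ∨ eichGroup (sq F n) ≤ H := by
  by_cases hfull : eichGroup (sq F n) ≤ H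
  · exact Or.inr hfull
  refine Or.inl fun g hg i0 hi0 => ?_
  have hmem : ∀ i, i ∉ Finset.univ.erase i0 → i = i0 := fun i hi => by simpa using hi
  have hc : (Finset.univ.erase i0).card = n - 1 := by
    rw [Finset.card_erase_of_mem (Finset.mem_univ i0), Finset.card_univ, Fintype.card_fin]
  rcases B.dichotomy (S := Finset.univ.erase i0) (by obtain ⟨k, hk⟩ := hn; have := B.dim; omega)
    (sgn F (Finset.univ.erase i0)) (sgn_mul_self _)
    (fun i hi => by rw [sgn_ax, if_neg hi]) (fun h hh => sgn_comm_fix B.two (hh i0 (by simp)))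
    (fun i hi => by
      have e : sgn F (Finset.univ.erase i0) =
          sgn F ((Finset.univ.erase i0).erase i) * qRefl (sq F n) (sq_ax_ne i) := by
        conv_lhs => rw [← Finset.insert_erase hi]
        rw [sgn_insert' B.two (by simp)]
      rw [e, mul_assoc, qRefl_mul_self, mul_one]
      refine B.sgn_mem _ ?_
      rw [Finset.card_erase_of_mem hi, hc]
      obtain ⟨k, hk⟩ := hn
      exact ⟨k - 1, by omega⟩) with h | h
  · exact h g hg fun i hi => by rw [hmem i hi, hi0]
  · exact absurd h hfull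

end CfsgLib.Classical22.Frame
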