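/-
From a frame of a quadratic space to the monomial group of the sum of squares.
-/
import Cfsg.Agent.Lib.Classical22.Frame.Full
import Cfsg.Agent.Lib.Classical22.OrthDecompMax

set_option autoImplicit false

namespace CfsgLib.Classical22.Frame

open Cfsg CfsgLib.Classical CfsgLib.Classical22.OrthDecomp
open scoped Matrix MatrixGroups _root_.Classical

variable {F : Type*} [Field F] [Fintype F]

/-- The even monomial isometries supply the base data. -/
theorem base_of_mono_le {n : ℕ} (h2 : (2 : F) ≠ 0) (hp : (Fintype.card F).Prime) (hn : 7 ≤ n)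
    {H : Subgroup (qAut (sq F n))} (hM : monoGroup F n ⊓ eichGroup (sq F n) ≤ H) : Base H := by
  have hfr : 5 ≤ Module.finrank F (Fin n → F) := by rw [Module.finrank_fin_fun]; omega
  have hrm : ∀ i : Fin n, qRefl (sq F n) (sq_ax_ne i) ∈ monoGroup F n := fun i j => by
    by_cases hj : j = i
    · subst hj; exact ⟨j, -1, by rw [refl_ax_self, neg_one_smul]⟩
    · exact ⟨j, 1, by rw [refl_ax_fix (ax_ne (Ne.symm hj)), one_smul]⟩
  have hsm : ∀ {a b : Fin n} (h : a ≠ b), swp h2 h ∈ monoGroup F n := fun {a b} h j => by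
    by_cases ha : j = a
    · subst ha; exact ⟨b, 1, by rw [swp_left, one_smul]⟩
    by_cases hb : j = b
    · subst hb; exact ⟨a, 1, by rw [swp_right, one_smul]⟩
    exact ⟨j, 1, by rw [swp_other _ _ (Ne.symm ha) (Ne.symm hb), one_smul]⟩
  refine ⟨h2, hp, by omega, fun i j _ => hM ⟨Subgroup.mul_mem _ (hrm i) (hrm j), ?_⟩,
    fun a b c hab hbc _ => hM ⟨Subgroup.mul_mem _ (hsm hab) (hsm hbc), ?_⟩⟩
  · exact qRefl_mul_mem (polarNondeg_sq h2) hfr _ _ (by rw [sq_ax, sq_ax])
  · exact qRefl_mul_mem (polarNondeg_sq h2) hfr _ _ (by rw [sq_sub_ax hbc, sq_sub_ax hab])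

/-- Some Eichler transformation is not monomial. -/
theorem not_eichGroup_le_monoGroup {n : ℕ} (h2 : (2 : F) ≠ 0) (hn : 4 ≤ n) :
    ¬ eichGroup (sq F n) ≤ monoGroup F n := by
  obtain ⟨e, he⟩ : ∃ e : Fin 4 → Fin n, Function.Injective e := ⟨Fin.castLE hn, Fin.castLE_injective hn⟩
  obtain ⟨a, b, hab⟩ := exists_diag_value h2 (one_ne_zero (α := F)) one_ne_zero (-1 : F)
  obtain ⟨x, hx⟩ : ∃ x : Fin n → F, x = a • ax (e 0) + b • ax (e 1) + ax (e 2) := ⟨_, rfl⟩
  have h : ∀ i j : Fin 4, i ≠ j → (ax (e j) : Fin n → F) (e i) = 0 := fun i j h => ax_ne (he.ne h)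
  have hxx : x ⬝ᵥ x = 0 := by
    rw [hx]
    simp only [add_dotProduct, dotProduct_add, smul_dotProduct, dotProduct_smul, ax_dot, ax_self, h 0 1 (by decide),
      h 0 2 (by decide), h 1 0 (by decide), h 1 2 (by decide), h 2 0 (by decide), h 2 1 (by decide), smul_eq_mul]
    linear_combination hab
  have hx2 : x (e 2) = 1 := by
    rw [hx]
    simp [ax_self, h 2 0 (by decide), h 2 1 (by decide)]
  have hx3 : x (e 3) = 0 := by
    rw [hx]
    simp [h 3 0 (by decide), h 3 1 (by decide), h 3 2 (by decide)]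
  have hxw : x ⬝ᵥ ax (e 3) = 0 := by rw [dot_ax, hx3]
  intro hle
  have hm := hle (eich_mem (sq F n) (u := x) (w := ax (e 3)) (by rw [sq_apply, hxx])
    (by rw [polar_sq, hxw, mul_zero]))
  refine he.ne (show (2 : Fin 4) ≠ 3 by decide) (mono_col hm (i := e 2) ?_ ?_) <;>
    rw [eich_apply' h2 hxx hxw] <;>
    simp [ax_self, ax_dot, hx2, hx3, h 2 3 (by decide), h 3 2 (by decide)]
  · intro e1
    exact h2 (by linear_combination -2 * e1)
  · exact h2

variable {ι : Type} [Fintype ι] [DecidableEq ι]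

/-- Maximality of a frame stabiliser follows from the monomial dichotomy. -/
theorem isMaximalIn_frame (h2 : (2 : F) ≠ 0) (q : QuadraticForm F (ι → F)) (hQ : PolarNondeg q) {t : ℕ}
    (ht : 7 ≤ t) {D : Fin t → Submodule F (ι → F)} (hD : Cfsg.Geo.IsOrthogonalMDecomposition ⇑q 1 D)
    (hmain : ∀ H : Subgroup (qAut (sq F t)), monoGroup F t ⊓ eichGroup (sq F t) ≤ H → H ≤ eichGroup (sq F t) →
      (∀ g ∈ H, Mono g) ∨ eichGroup (sq F t) ≤ H) :
    Cfsg.Geo.IsMaximalIn (Cfsg.Geo.omegaGL ⇑q)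
      (Cfsg.Geo.decompositionStabilizer D ⊓ Cfsg.Geo.omegaGL ⇑q) := by
  have hd := data_of_decomp q hD
  have hcard := card_eq_mul hD.decomp.decomp
  rw [mul_one] at hcard
  obtain ⟨i₀⟩ : Nonempty (Fin t) := ⟨⟨0, by omega⟩⟩
  obtain ⟨b₀, hb₀, hspan₀⟩ := finrank_eq_one_iff'.1 (hd.dim i₀)
  obtain ⟨c, hc⟩ : ∃ c, c = q (b₀ : ι → F) := ⟨_, rfl⟩
  choose φ hφ using fun i => hd.isom i₀ i
  obtain ⟨b, hb⟩ : ∃ b : Fin t → ι → F, ∀ i, b i = (φ i b₀ : ι → F) := ⟨_, fun i => rfl⟩
  have hbD : ∀ i, b i ∈ D i := fun i => hb i ▸ (φ i b₀).2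
  have hqb : ∀ i, q (b i) = c := fun i => by rw [hb, hφ, hc]
  have hb0 : ∀ i, b i ≠ 0 := fun i h => hb₀ ((φ i).injective (Subtype.ext (by
    rw [← hb, h, map_zero, Submodule.coe_zero])))
  have hspan : ∀ i, ∀ x ∈ D i, ∃ s : F, s • b i = x := fun i x hx => by
    obtain ⟨s, hs⟩ := hspan₀ ((φ i).symm ⟨x, hx⟩)
    refine ⟨s, ?_⟩
    have h := congrArg (fun z => (φ i z : ι → F)) hs
    simp only [map_smul, LinearEquiv.apply_symm_apply, Submodule.coe_smul] at h
    rw [hb, h]
  have hc0 : c ≠ 0 := fun h0 => hb0 i₀ ((hd.nd i₀) (b i₀) (hbD i₀) fun y hy => by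
    obtain ⟨s, rfl⟩ := hspan i₀ y hy
    rw [QuadraticMap.polar_smul_right, quad_polar_self, hqb, h0, mul_zero, smul_zero])
  have hbb : ∀ i j, QuadraticMap.polar q (b i) (b j) = if i = j then 2 * c else 0 := fun i j => by
    split_ifs with h
    · subst h; rw [quad_polar_self, hqb]
    · exact hd.orth i j h _ (hbD i) _ (hbD j)
  obtain ⟨L, hL⟩ : ∃ L : (Fin t → F) →ₗ[F] (ι → F), ∀ x, L x = ∑ i, x i • b i :=
    ⟨{ toFun := fun x => ∑ i, x i • b i
       map_add' := fun x y => by simp [add_smul, Finset.sum_add_distrib]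
       map_smul' := fun s x => by simp [smul_smul, Finset.smul_sum] }, fun x => rfl⟩
  have hLax : ∀ i, L (ax i) = b i := fun i => by
    rw [hL, Finset.sum_eq_single i (fun j _ hj => by rw [ax_ne hj, zero_smul])
      (fun h => absurd (Finset.mem_univ i) h), ax_self, one_smul]
  have hpol : ∀ x y, QuadraticMap.polar q (L x) (L y) = c * QuadraticMap.polar (sq F t) x y := fun x y => by
    rw [polar_sq, hL, hL, ← QuadraticMap.polarBilin_apply_apply]
    simp only [map_sum, map_smul, LinearMap.coe_sum, Finset.sum_apply, LinearMap.smul_apply,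
      QuadraticMap.polarBilin_apply_apply, hbb, smul_eq_mul, mul_ite, mul_zero, Finset.sum_ite_eq,
      Finset.mem_univ, if_true, dotProduct, Finset.mul_sum]
    refine Finset.sum_congr rfl fun i _ => ?_
    simp [mul_comm, mul_assoc, mul_left_comm]
  have hq : ∀ x, q (L x) = c * sq F t x := fun x => mul_left_cancel₀ h2 (by
    rw [← quad_polar_self, hpol, quad_polar_self]; ring)
  have hinj : Function.Injective L := by
    rw [← LinearMap.ker_eq_bot, LinearMap.ker_eq_bot']
    intro x hx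
    refine polarNondeg_sq h2 x fun y => ?_
    have h := hpol x y
    rw [hx, QuadraticMap.polar_zero_left, eq_comm, mul_eq_zero] at h
    exact h.resolve_left hc0
  have hfr : Module.finrank F (Fin t → F) = Module.finrank F (ι → F) := by
    rw [Module.finrank_fin_fun, Module.finrank_pi, hcard]
  obtain ⟨e, he⟩ : ∃ e : (Fin t → F) ≃ₗ[F] (ι → F), ∀ x, e x = L x :=
    ⟨LinearEquiv.ofBijective L ⟨hinj, (LinearMap.injective_iff_surjective_of_finrank_eq_finrank hfr).1 hinj⟩,
      fun x => rfl⟩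
  have heq : ∀ x, q (e x) = c * sq F t x := fun x => by rw [he, hq]
  obtain ⟨Φ, hΦ⟩ : ∃ Φ : qAut (sq F t) ≃* qAut q, ∀ g x, (Φ g).1 (e x) = e (g.1 x) := by
    refine ⟨{ toFun := fun g => ⟨e.symm.trans (g.1.trans e), fun y => ?_⟩
              invFun := fun g => ⟨e.trans (g.1.trans e.symm), fun x => ?_⟩
              left_inv := fun g => qAut_ext fun x => ?_
              right_inv := fun g => qAut_ext fun x => ?_
              map_mul' := fun g h => qAut_ext fun x => ?_ }, fun g x => ?_⟩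
    · change q (e (g.1 (e.symm y))) = q y
      rw [heq, qAut_map, ← heq, e.apply_symm_apply]
    · change sq F t (e.symm (g.1 (e x))) = sq F t x
      refine mul_left_cancel₀ hc0 ?_
      rw [← heq, ← heq, e.apply_symm_apply, qAut_map]
    · change e.symm (e (g.1 (e.symm (e x)))) = g.1 x
      simp
    · change e (e.symm (g.1 (e (e.symm x)))) = g.1 x
      simp
    · change e (g.1 (h.1 (e.symm x))) = e (g.1 (e.symm (e (h.1 (e.symm x)))))
      simp
    · change e (g.1 (e.symm (e x))) = e (g.1 x)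
      simp
  have hΦe : ∀ u w : Fin t → F, sq F t u = 0 → QuadraticMap.polar (sq F t) u w = 0 →
      Φ (eich (sq F t) u w) = eich q (e u) (c⁻¹ • e w) ∧ q (e u) = 0 ∧
        QuadraticMap.polar q (e u) (c⁻¹ • e w) = 0 := fun u w hu huw => by
    have h1 : q (e u) = 0 := by rw [heq, hu, mul_zero]
    have h2' : QuadraticMap.polar q (e u) (c⁻¹ • e w) = 0 := by
      rw [QuadraticMap.polar_smul_right, he, he, hpol, huw, mul_zero, smul_zero]
    refine ⟨qAut_ext fun y => ?_, h1, h2'⟩
    obtain ⟨x, rfl⟩ := e.surjective y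
    rw [hΦ, eich_apply _ hu huw, eich_apply _ h1 h2', quad_smul, heq, QuadraticMap.polar_smul_right]
    simp only [he, hpol, map_sub, map_add, map_smul, smul_eq_mul, smul_smul]
    congr 2
    · congr 1
      field_simp
    · field_simp
  have hmapE : (eichGroup (sq F t)).map Φ.toMonoidHom = eichGroup q := by
    refine le_antisymm ?_ ?_
    · rw [eichGroup, MonoidHom.map_closure, Subgroup.closure_le]
      rintro _ ⟨_, ⟨u, w, hu, huw, rfl⟩, rfl⟩
      obtain ⟨h1, h2', h3⟩ := hΦe u w hu huw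
      rw [MulEquiv.coe_toMonoidHom, h1]
      exact eich_mem q h2' h3
    · rw [eichGroup, Subgroup.closure_le]
      rintro _ ⟨u', w', hu', huw', rfl⟩
      obtain ⟨u, rfl⟩ := e.surjective u'
      obtain ⟨w, hw⟩ : ∃ w, w = c • e.symm w' := ⟨_, rfl⟩
      have hw' : c⁻¹ • e w = w' := by
        rw [hw, map_smul, e.apply_symm_apply, smul_smul, inv_mul_cancel₀ hc0, one_smul]
      have hu : sq F t u = 0 := (mul_eq_zero.1 ((heq u).symm.trans hu')).resolve_left hc0
      have huw : QuadraticMap.polar (sq F t) u w = 0 := by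
        rw [← hw', QuadraticMap.polar_smul_right, smul_eq_mul, mul_eq_zero, he, he, hpol, mul_eq_zero] at huw'
        exact (huw'.resolve_left (inv_ne_zero hc0)).resolve_left hc0
      exact ⟨_, eich_mem (sq F t) hu huw, by rw [MulEquiv.coe_toMonoidHom, (hΦe u w hu huw).1, hw']⟩
  have hmono : ∀ g, Φ g ∈ dStab q D ↔ Mono g := fun g => by
    constructor
    · rintro ⟨σ, hσ⟩ i
      have hm : (Φ g).1 (b i) ∈ D (σ i) := hσ i ▸ Submodule.mem_map_of_mem (f := (Φ g).1.toLinearMap) (hbD i)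
      obtain ⟨s, hs⟩ := hspan _ _ hm
      refine ⟨σ i, s, e.injective ?_⟩
      rw [← hΦ, he, hLax, ← hs, map_smul, he, hLax]
    · intro hg
      choose π s hπ using hg
      have hπi : Function.Injective π := fun i j hij => by
        by_contra hne
        have h1 := mono_inv_apply (hπ i)
        have h2' := mono_inv_apply (hπ j)
        rw [hij, h2'] at h1
        have h3 := congrFun h1 i
        simp only [Pi.smul_apply, ax_self, ax_ne hne, smul_eq_mul, mul_zero, mul_one] at h3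
        exact mono_coeff_ne (hπ i) h3.symm
      refine mem_dStab_of_maps (Equiv.ofBijective π ⟨hπi, Finite.injective_iff_surjective.1 hπi⟩)
        (fun i j => by rw [hd.dim, hd.dim]) fun i x hx => ?_
      obtain ⟨r, rfl⟩ := hspan i x hx
      rw [map_smul, ← hLax, ← he, hΦ, hπ, map_smul, he, hLax]
      exact (D _).smul_mem _ ((D _).smul_mem _ (hbD _))
  refine isMaximalIn_omegaGL q hQ (by omega) (comap_decompositionStabilizer q D) (fun hle => ?_)
    fun M hM hME hne => ?_
  · exact not_eichGroup_le_monoGroup h2 (by omega) fun g hg =>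
      (hmono g).1 (hle (hmapE ▸ ⟨g, hg, rfl⟩))
  rcases hmain (M.comap Φ.toMonoidHom)
    (fun g hg => hM ⟨(hmono g).2 hg.1, hmapE ▸ ⟨g, hg.2, rfl⟩⟩)
    (fun g hg => by
      obtain ⟨g', hg', he'⟩ := hmapE.symm ▸ hME hg
      rwa [← Φ.injective he']) with h | h
  · refine absurd (fun g' hg' => ?_) hne
    obtain ⟨g, rfl⟩ := Φ.surjective g'
    exact (hmono g).2 (h g hg')
  · intro g' hg'
    obtain ⟨g, hg, rfl⟩ := hmapE.symm ▸ hg'
    exact h hg

end CfsgLib.Classical22.Frame
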