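/-
In even dimension: an element of the group with a column having several zeros is monomial.
-/
import Cfsg.Agent.Lib.Classical22.Frame.Full

set_option autoImplicit false

namespace CfsgLib.Classical22.Frame

open Cfsg CfsgLib.Classical
open scoped Matrix _root_.Classical

variable {F : Type*} [Field F] [Fintype F] {n : ℕ}

/-- An overgroup of the even monomial isometries in even dimension whose axis stabilisers are monomial. -/
structure EvenCtx (H : Subgroup (qAut (sq F n))) : Prop where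
  base : Base H
  dim : 10 ≤ n
  det : ∀ g ∈ H, dt g = 1
  stab : ∀ g ∈ H, ∀ i, g.1 (ax i) = ax i → Mono g

/-- Eichler transformations have determinant one. -/
theorem dt_of_mem_eichGroup (h2 : (2 : F) ≠ 0) {g : qAut (sq F n)} (hg : g ∈ eichGroup (sq F n)) : dt g = 1 := by
  induction hg using Subgroup.closure_induction with
  | mem x hx =>
    obtain ⟨u, w, hu, huw, rfl⟩ := hx
    have hp : QuadraticMap.polar (sq F n) u ((1 / 2 : F) • w) = 0 := by
      rw [QuadraticMap.polar_smul_right, huw, smul_zero]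
    have e : eich (sq F n) u ((1 / 2 : F) • w) * eich (sq F n) u ((1 / 2 : F) • w) = eich (sq F n) u w := by
      rw [eich_mul _ hu hp hp, ← add_smul, show (1 / 2 : F) + 1 / 2 = 1 by field_simp [h2]; ring, one_smul]
    rw [← e, dt_mul, dt_mul_self h2]
  | one => exact dt_one
  | mul x y _ _ hx hy => rw [dt_mul, hx, hy, one_mul]
  | inv x _ hx =>
    have h := dt_mul x⁻¹ x
    rw [inv_mul_cancel, dt_one, hx, mul_one] at h
    exact h.symm

omit [Fintype F] in
/-- The products of two axis reflections on a vector. -/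
theorem refl_pair_apply (h2 : (2 : F) ≠ 0) {c d : Fin n} (hcd : c ≠ d) (x : Fin n → F) :
    (qRefl (sq F n) (sq_ax_ne c) * qRefl (sq F n) (sq_ax_ne d)).1 x =
      x - (2 * x c) • ax c - (2 * x d) • ax d := by
  rw [qAut_mul_apply, refl_ax_apply h2, refl_ax_apply h2, Pi.sub_apply, Pi.smul_apply, ax_ne hcd, smul_zero,
    sub_zero]
  abel

omit [Fintype F] in
theorem conj_pair_apply (h2 : (2 : F) ≠ 0) (g : qAut (sq F n)) {c d : Fin n} (hcd : c ≠ d) (x : Fin n → F) :
    (g⁻¹ * (qRefl (sq F n) (sq_ax_ne c) * qRefl (sq F n) (sq_ax_ne d)) * g).1 x =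
      x - (2 * (x ⬝ᵥ (g⁻¹).1 (ax c))) • (g⁻¹).1 (ax c) - (2 * (x ⬝ᵥ (g⁻¹).1 (ax d))) • (g⁻¹).1 (ax d) := by
  rw [qAut_mul_apply, qAut_mul_apply, refl_pair_apply h2 hcd, map_sub, map_sub, map_smul, map_smul, qInv_apply_self,
    ← dot_ax c (g.1 x), ← dot_ax d (g.1 x), dot_inv h2, dot_inv h2]

/-- Every row of the combined projection has at most one entry off the diagonal. -/
def RowOne (r r' : Fin n → F) : Prop :=
  ∀ l m k, m ≠ l → k ≠ l → r l * r m + r' l * r' m ≠ 0 → r l * r k + r' l * r' k ≠ 0 → m = k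

omit [Fintype F] in
theorem rowOne_of_mono (h2 : (2 : F) ≠ 0) {g : qAut (sq F n)} {c d : Fin n} (hcd : c ≠ d)
    (hm : Mono (g⁻¹ * (qRefl (sq F n) (sq_ax_ne c) * qRefl (sq F n) (sq_ax_ne d)) * g)) :
    RowOne ((g⁻¹).1 (ax c)) ((g⁻¹).1 (ax d)) := by
  intro l m k hml hkl hm0 hk0
  refine mono_col hm (i := l) ?_ ?_ <;>
    rw [conj_pair_apply h2 g hcd, ax_dot, ax_dot] <;>
    simp only [Pi.sub_apply, Pi.smul_apply, smul_eq_mul, ax_ne hml, ax_ne hkl]
  · intro e
    exact mul_ne_zero h2 hm0 (by linear_combination -e)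
  · intro e
    exact mul_ne_zero h2 hk0 (by linear_combination -e)

omit [Fintype F] in
theorem RowOne.symm {r r' : Fin n → F} (h : RowOne r r') : RowOne r' r := fun l m k h1 h2 h3 h4 =>
  h l m k h1 h2 (by rwa [add_comm]) (by rwa [add_comm])

omit [Fintype F] in
theorem RowOne.card_two {r r' : Fin n → F} (h : RowOne r r') {l : Fin n} (hl : l ∈ supp r) (hl' : l ∉ supp r') :
    (supp r).card ≤ 2 := by
  have h1 : ((supp r).erase l).card ≤ 1 := Finset.card_le_one.2 fun m hm k hk => by
    obtain ⟨hml, hm⟩ := Finset.mem_erase.1 hm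
    obtain ⟨hkl, hk⟩ := Finset.mem_erase.1 hk
    refine h l m k hml hkl ?_ ?_ <;> rw [notMem_supp.1 hl', zero_mul, add_zero]
    · exact mul_ne_zero (mem_supp.1 hl) (mem_supp.1 hm)
    · exact mul_ne_zero (mem_supp.1 hl) (mem_supp.1 hk)
  rw [Finset.card_erase_of_mem hl] at h1
  omega

omit [Fintype F] in
/-- Two orthogonal unit vectors with this property have short supports. -/
theorem RowOne.card_four {r r' : Fin n → F} (h : RowOne r r') (h1 : r ⬝ᵥ r = 1) (h1' : r' ⬝ᵥ r' = 1)
    (h0 : r ⬝ᵥ r' = 0) : (supp r).card ≤ 4 := by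
  by_cases hsub : supp r ⊆ supp r'
  swap
  · obtain ⟨l, hl, hl'⟩ := Finset.not_subset.1 hsub
    exact (h.card_two hl hl').trans (by norm_num)
  by_cases hsub' : supp r' ⊆ supp r
  swap
  · obtain ⟨l, hl, hl'⟩ := Finset.not_subset.1 hsub'
    exact (Finset.card_le_card hsub).trans ((h.symm.card_two hl hl').trans (by norm_num))
  by_contra hc
  obtain ⟨l, hl⟩ := Finset.card_pos.1 (show 0 < (supp r).card by omega)
  have hrl := mem_supp.1 hl
  -- all but one row entry vanish
  obtain ⟨x, hxl, hx⟩ : ∃ x, x ≠ l ∧ ∀ m ∈ supp r, m ≠ l → m ≠ x → r l * r m + r' l * r' m = 0 := by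
    by_cases hex : ∃ x, x ≠ l ∧ r l * r x + r' l * r' x ≠ 0
    · obtain ⟨x, hxl, hx⟩ := hex
      refine ⟨x, hxl, fun m _ hml hmx => ?_⟩
      by_contra hne
      exact hmx (h l m x hml hxl hne hx)
    · push Not at hex
      obtain ⟨x, hx, hxl⟩ := Finset.exists_mem_ne (show 1 < (supp r).card by omega) l
      exact ⟨x, hxl, fun m _ hml _ => hex m hml⟩
  obtain ⟨σ, hσ⟩ : ∃ σ, σ = -(r' l) / r l := ⟨_, rfl⟩
  have hrat : ∀ m ∈ supp r, m ≠ l → m ≠ x → r m = σ * r' m := fun m hm hml hmx => by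
    rw [hσ, div_mul_eq_mul_div, eq_div_iff hrl]
    linear_combination hx m hm hml hmx
  have hcard : 3 ≤ (((supp r).erase l).erase x).card := by
    have a1 := Finset.pred_card_le_card_erase (a := x) (s := (supp r).erase l)
    have a2 := Finset.card_erase_of_mem hl
    omega
  obtain ⟨m, hm, k, hk, j, hj, hmk, hmj, hkj⟩ := Finset.two_lt_card.1 hcard
  simp only [Finset.mem_erase] at hm hk hj
  have hσ2 : σ * σ = -1 := by
    by_contra hne
    have hv : ∀ i, i ≠ x → i ≠ l → i ∈ supp r → r m * r i + r' m * r' i ≠ 0 := fun i hix hil hi => by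
      rw [hrat m hm.2.2 hm.2.1 hm.1, hrat i hi hil hix,
        show σ * r' m * (σ * r' i) + r' m * r' i = (σ * σ + 1) * (r' m * r' i) by ring]
      exact mul_ne_zero (fun e => hne (eq_neg_of_add_eq_zero_left e))
        (mul_ne_zero (mem_supp.1 (hsub hm.2.2)) (mem_supp.1 (hsub hi)))
    exact hkj (h m k j (Ne.symm hmk) (Ne.symm hmj) (hv k hk.1 hk.2.1 hk.2.2) (hv j hj.1 hj.2.1 hj.2.2))
  have hall : ∀ i, i ≠ x → r i = σ * r' i := fun i hix => by
    by_cases hi : i ∈ supp r
    · by_cases hil : i = l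
      · subst hil
        have e : σ * r i = -r' i := by rw [hσ, div_mul_cancel₀ _ hrl]
        linear_combination (-σ) * e + (r i) * hσ2
      · exact hrat i hi hil hix
    · rw [notMem_supp.1 hi, notMem_supp.1 (fun h' => hi (hsub' h')), mul_zero]
  obtain ⟨A, hA⟩ : ∃ A, A = ∑ i ∈ Finset.univ.erase x, r' i * r' i := ⟨_, rfl⟩
  have split : ∀ u v : Fin n → F, u ⬝ᵥ v = u x * v x + ∑ i ∈ Finset.univ.erase x, u i * v i := fun u v =>
    (Finset.add_sum_erase Finset.univ (fun i => u i * v i) (Finset.mem_univ x)).symm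
  have e1 : r x * r x + -A = 1 := by
    rw [← h1, split r r, hA, ← Finset.sum_neg_distrib]
    congr 1
    exact Finset.sum_congr rfl fun i hi => by
      rw [hall i (Finset.mem_erase.1 hi).1]; linear_combination (-(r' i * r' i)) * hσ2
  have e2 : r' x * r' x + A = 1 := by rw [← h1', split r' r', hA]
  have e0 : r x * r' x + σ * A = 0 := by
    rw [← h0, split r r', hA, Finset.mul_sum]
    congr 1
    exact Finset.sum_congr rfl fun i hi => by rw [hall i (Finset.mem_erase.1 hi).1]; ring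
  exact one_ne_zero (α := F) (by
    linear_combination (-(r' x * r' x)) * e1 - (1 + A) * e2 + (r x * r' x - σ * A) * e0 + A * A * hσ2)

variable {H : Subgroup (qAut (sq F n))}

omit [Fintype F] in
theorem col_unit (h2 : (2 : F) ≠ 0) (g : qAut (sq F n)) (c : Fin n) : g.1 (ax c) ⬝ᵥ g.1 (ax c) = 1 := by
  rw [iso_dot h2, ax_dot, ax_self]

omit [Fintype F] in
theorem col_orth (h2 : (2 : F) ≠ 0) (g : qAut (sq F n)) {c d : Fin n} (h : c ≠ d) :
    g.1 (ax c) ⬝ᵥ g.1 (ax d) = 0 := by
  rw [iso_dot h2, ax_dot, ax_ne h]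

theorem EvenCtx.pair_mem (E : EvenCtx H) {c d : Fin n} (h : c ≠ d) :
    qRefl (sq F n) (sq_ax_ne c) * qRefl (sq F n) (sq_ax_ne d) ∈ H := E.base.pair c d h

theorem EvenCtx.exists_other (_E : EvenCtx H) (A : Finset (Fin n)) (hA : A.card < 10) (hn : 10 ≤ n) : ∃ l, l ∉ A := by
  obtain ⟨l, -, hl⟩ := Finset.exists_mem_notMem_of_card_lt_card (s := A) (t := Finset.univ) (by
    rw [Finset.card_univ, Fintype.card_fin]; omega)
  exact ⟨l, hl⟩

/-- A column supported on one coordinate makes the element monomial. -/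
theorem EvenCtx.mono_of_col (E : EvenCtx H) {g : qAut (sq F n)} (hg : g ∈ H) {i j : Fin n} {s : F}
    (h : g.1 (ax i) = s • ax j) : Mono g := by
  have h2 := E.base.two
  have hs : s * s = 1 := mono_coeff h
  have hmono : ∀ {a : Fin n}, qRefl (sq F n) (sq_ax_ne a) ∈ monoGroup F n := fun {a} l => by
    by_cases hl : l = a
    · subst hl; exact ⟨l, -1, by rw [refl_ax_self, neg_one_smul]⟩
    · exact ⟨l, 1, by rw [refl_ax_fix (ax_ne (Ne.symm hl)), one_smul]⟩
  -- move `j` back to `i`
  obtain ⟨p, hp, hpm, hpj⟩ : ∃ p ∈ H, p ∈ monoGroup F n ∧ p.1 (ax j : Fin n → F) = ax i := by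
    by_cases hji : j = i
    · exact ⟨1, H.one_mem, Subgroup.one_mem _, by rw [hji]; rfl⟩
    obtain ⟨l, hl⟩ := E.exists_other {i, j} (lt_of_le_of_lt Finset.card_le_two (by norm_num)) E.dim
    simp only [Finset.mem_insert, Finset.mem_singleton, not_or] at hl
    have hil : i ≠ l := Ne.symm hl.1
    refine ⟨swp E.base.two hji * swp E.base.two hil, E.base.cyc j i l hji hil (Ne.symm hl.2), fun a => ?_, ?_⟩
    · by_cases haj : a = j
      · subst haj
        exact ⟨i, 1, by rw [qAut_mul_apply, swp_other _ _ (Ne.symm hji) hl.2, swp_left, one_smul]⟩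
      by_cases hai : a = i
      · subst hai
        exact ⟨l, 1, by rw [qAut_mul_apply, swp_left, swp_other _ _ (Ne.symm hl.2) (Ne.symm hl.1), one_smul]⟩
      by_cases hal : a = l
      · subst hal
        exact ⟨j, 1, by rw [qAut_mul_apply, swp_right, swp_right, one_smul]⟩
      exact ⟨a, 1, by rw [qAut_mul_apply, swp_other _ _ (Ne.symm hai) (Ne.symm hal),
        swp_other _ _ (Ne.symm haj) (Ne.symm hai), one_smul]⟩
    · rw [qAut_mul_apply, swp_other _ _ (Ne.symm hji) hl.2, swp_left]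
  obtain ⟨q, hq, hqm, hqi⟩ : ∃ q ∈ H, q ∈ monoGroup F n ∧ q.1 (s • ax i : Fin n → F) = ax i := by
    rcases mul_self_eq_one_iff.1 hs with rfl | rfl
    · exact ⟨1, H.one_mem, Subgroup.one_mem _, by rw [one_smul]; rfl⟩
    obtain ⟨l, hl⟩ := E.exists_other {i} (by simp) E.dim
    rw [Finset.mem_singleton] at hl
    refine ⟨_, E.pair_mem (Ne.symm hl), Subgroup.mul_mem _ hmono hmono, ?_⟩
    rw [map_smul, qAut_mul_apply, refl_ax_fix (ax_ne hl), refl_ax_self, neg_one_smul, neg_neg]
  have hfix : (q * p * g).1 (ax i) = ax i := by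
    rw [qAut_mul_apply, qAut_mul_apply, h, map_smul, hpj, hqi]
  have hm := E.stab _ (H.mul_mem (H.mul_mem hq hp) hg) i hfix
  have := Subgroup.mul_mem _ (Subgroup.inv_mem _ (Subgroup.mul_mem _ hqm hpm)) (mem_monoGroup.2 hm)
  rwa [inv_mul_cancel_left] at this

/-- The conjugate of an axis pair fixing an axis is monomial, and so has short rows. -/
theorem EvenCtx.rowOne (E : EvenCtx H) {g : qAut (sq F n)} (hg : g ∈ H) {i c d : Fin n} (hcd : c ≠ d)
    (hc : g.1 (ax i) c = 0) (hd : g.1 (ax i) d = 0) : RowOne ((g⁻¹).1 (ax c)) ((g⁻¹).1 (ax d)) := by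
  refine rowOne_of_mono E.base.two hcd (E.stab _ (H.mul_mem (H.mul_mem (H.inv_mem hg) (E.pair_mem hcd)) hg) i ?_)
  rw [conj_pair_apply E.base.two g hcd, ax_dot, ax_dot, ← apply_ax_eq E.base.two, ← apply_ax_eq E.base.two, hc, hd]
  simp

/-- Many zeros in a column. -/
theorem EvenCtx.mono_of_zeros (E : EvenCtx H) {g : qAut (sq F n)} (hg : g ∈ H) {i : Fin n} {Z : Finset (Fin n)}
    (hZc : 5 ≤ Z.card) (hZ : ∀ c ∈ Z, g.1 (ax i) c = 0) : Mono g := by
  have h2 := E.base.two
  by_contra hnm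
  obtain ⟨r, hr⟩ : ∃ r : Fin n → Fin n → F, ∀ c, r c = (g⁻¹).1 (ax c) := ⟨_, fun c => rfl⟩
  have hu : ∀ c, r c ⬝ᵥ r c = 1 := fun c => by rw [hr]; exact col_unit h2 _ c
  have ho : ∀ c d, c ≠ d → r c ⬝ᵥ r d = 0 := fun c d h => by rw [hr, hr]; exact col_orth h2 _ h
  have hrow : ∀ c ∈ Z, ∀ d ∈ Z, c ≠ d → RowOne (r c) (r d) := fun c hc d hd h => by
    rw [hr, hr]; exact E.rowOne hg h (hZ c hc) (hZ d hd)
  have h2le : ∀ c ∈ Z, 2 ≤ (supp (r c)).card := fun c _ => by
    by_contra hlt
    obtain ⟨l, hl⟩ : (supp (r c)).Nonempty := Finset.nonempty_iff_ne_empty.2 fun e => by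
      have := hu c
      rw [dot_eq_sum (T := ∅) e.le, Finset.sum_empty] at this
      exact zero_ne_one this
    have hrc : (g⁻¹).1 (ax c) = r c l • ax l := by
      rw [← hr]
      refine funext fun m => ?_
      by_cases hm : m = l
      · subst hm; simp [ax_self]
      · rw [Pi.smul_apply, ax_ne hm, smul_zero]
        by_contra h
        exact hm (Finset.card_le_one.1 (by omega) m (mem_supp.2 h) l hl)
    exact hnm (inv_inv g ▸ (monoGroup F n).inv_mem (mem_monoGroup.2 (E.mono_of_col (H.inv_mem hg) hrc)))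
  have htwo : ∀ c ∈ Z, (supp (r c)).card = 2 := fun c hc => by
    refine le_antisymm ?_ (h2le c hc)
    by_contra hgt
    have hsub : ∀ d ∈ Z, d ≠ c → supp (r c) ⊆ supp (r d) := fun d hd hdc l hl => by
      by_contra hl'
      exact hgt ((hrow c hc d hd (Ne.symm hdc)).card_two hl hl')
    have hsub' : ∀ d ∈ Z, supp (r d) ⊆ supp (r c) := fun d hd l hl => by
      by_cases hdc : d = c
      · exact hdc ▸ hl
      by_contra hl'
      have := (hrow d hd c hc hdc).card_two hl hl'
      have := Finset.card_le_card (hsub d hd hdc)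
      omega
    obtain ⟨d, hd, hdc⟩ := Finset.exists_mem_ne (show 1 < Z.card by omega) c
    have h4 := (hrow c hc d hd (Ne.symm hdc)).card_four (hu c) (hu d) (ho c d (Ne.symm hdc))
    -- too many orthogonal vectors on a short support
    obtain ⟨T, hT⟩ : ∃ T, T = supp (r c) := ⟨_, rfl⟩
    have hres : ∀ a ∈ Z, ∀ b : Fin n, (fun k : T => r a k) ⬝ᵥ (fun k : T => r b k) = r a ⬝ᵥ r b := fun a ha b => by
      rw [dot_eq_sum (T := T) (hT ▸ hsub' a ha)]
      exact Finset.sum_coe_sort T fun k => r a k * r b k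
    obtain ⟨f, hf⟩ : ∃ f : Fin 5 → Fin n, Function.Injective f ∧ ∀ k, f k ∈ Z := by
      obtain ⟨W, hW, hWc⟩ := Finset.exists_subset_card_eq hZc
      exact ⟨fun k => ((Finset.equivFinOfCardEq hWc).symm k).1,
        fun a b e => (Finset.equivFinOfCardEq hWc).symm.injective (Subtype.ext e),
        fun k => hW ((Finset.equivFinOfCardEq hWc).symm k).2⟩
    have hli : LinearIndependent F fun k : Fin 5 => (fun l : T => r (f k) l) := by
      rw [Fintype.linearIndependent_iff]
      intro w hw a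
      have h := congrArg (fun x => (fun l : T => r (f a) l) ⬝ᵥ x) hw
      simp only [dotProduct_sum, dotProduct_smul, smul_eq_mul, dotProduct_zero] at h
      rw [Finset.sum_eq_single a (fun b _ hb => by rw [hres _ (hf.2 a), ho _ _ (hf.1.ne (Ne.symm hb)), mul_zero])
        (fun h' => absurd (Finset.mem_univ a) h'), hres _ (hf.2 a), hu, mul_one] at h
      exact h
    have hle := hli.fintype_card_le_finrank
    rw [Module.finrank_pi, Fintype.card_coe, Fintype.card_fin, hT] at hle
    omega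
  -- three coordinates cycled
  have hdis : ∀ c ∈ Z, ∀ d ∈ Z, c ≠ d → supp (r c) ≠ supp (r d) → ∀ l ∈ supp (r c), r d l = 0 := by
    intro c hc d hd hcd hne l hl
    by_contra hdl
    have hint : supp (r c) ∩ supp (r d) = {l} := by
      refine Finset.Subset.antisymm (fun m hm => ?_)
        (Finset.singleton_subset_iff.2 (Finset.mem_inter.2 ⟨hl, mem_supp.2 hdl⟩))
      rw [Finset.mem_inter] at hm
      rw [Finset.mem_singleton]
      by_contra hml
      refine hne ?_
      have e1 : ({m, l} : Finset (Fin n)) = supp (r c) := Finset.eq_of_subset_of_card_le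
        (by simp [Finset.insert_subset_iff, hm.1, hl]) (by rw [htwo c hc, Finset.card_pair hml])
      have e2 : ({m, l} : Finset (Fin n)) = supp (r d) := Finset.eq_of_subset_of_card_le
        (by simp [Finset.insert_subset_iff, hm.2, mem_supp.2 hdl]) (by rw [htwo d hd, Finset.card_pair hml])
      rw [← e1, e2]
    have h := ho c d hcd
    rw [dot_eq_sum (T := supp (r c)) subset_rfl, Finset.sum_eq_single l (fun m hm hml => by
      rw [notMem_supp.1 (fun h' => hml (Finset.mem_singleton.1 (hint ▸ Finset.mem_inter.2 ⟨hm, h'⟩))), mul_zero])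
      (fun h' => absurd hl h')] at h
    exact mul_ne_zero (mem_supp.1 hl) hdl h
  obtain ⟨c, hc⟩ := Finset.card_pos.1 (show 0 < Z.card by omega)
  obtain ⟨d, hd, e, he, hde⟩ : ∃ d ∈ Z.filter (fun d => supp (r d) ≠ supp (r c)),
      ∃ e ∈ Z.filter (fun d => supp (r d) ≠ supp (r c)), d ≠ e := by
    refine Finset.one_lt_card.1 ?_
    by_contra hle
    have hsplit := Finset.card_filter_add_card_filter_not (s := Z) (fun d => supp (r d) = supp (r c))
    simp only [ne_eq] at hle
    obtain ⟨a, ha, b, hb, k, hk, hab, hak, hbk⟩ := Finset.two_lt_card.1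
      (show 2 < (Z.filter fun d => supp (r d) = supp (r c)).card by omega)
    simp only [Finset.mem_filter] at ha hb hk
    obtain ⟨T, hT⟩ : ∃ T, T = supp (r c) := ⟨_, rfl⟩
    obtain ⟨x, y, hxy, hxyT⟩ := Finset.card_eq_two.1 (hT ▸ htwo c hc : T.card = 2)
    have hs : ∀ m, supp (r m) = supp (r c) → ∀ v, r m ⬝ᵥ v = r m x * v x + r m y * v y := fun m hm v => by
      rw [dot_eq_sum (T := T) (hT ▸ hm.le), hxyT, Finset.sum_pair hxy]
    have eab := ho a b hab
    have eak := ho a k hak
    have ebk := ho b k hbk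
    have ea := hu a
    have eb := hu b
    have ek := hu k
    rw [hs a ha.2] at eab eak ea
    rw [hs b hb.2] at ebk eb
    rw [hs k hk.2] at ek
    obtain ⟨D, hD⟩ : ∃ D, D = r a x * r b y - r a y * r b x := ⟨_, rfl⟩
    have hD0 : D ≠ 0 := fun h0 => one_ne_zero (α := F) (by
      linear_combination (r a x * r b y - r a y * r b x) * (hD.symm.trans h0) +
        (r a x * r b x + r a y * r b y) * eab - (r b x * r b x + r b y * r b y) * ea - eb)
    have k1 : r k x * D = 0 := by rw [hD]; linear_combination r b y * eak - r a y * ebk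
    have k2 : r k y * D = 0 := by rw [hD]; linear_combination r a x * ebk - r b x * eak
    have kx := (mul_eq_zero.1 k1).resolve_right hD0
    have ky := (mul_eq_zero.1 k2).resolve_right hD0
    rw [kx, ky] at ek
    simp at ek
  simp only [Finset.mem_filter] at hd he
  have hcd : c ≠ d := fun h => hd.2 (by rw [h])
  have hce : c ≠ e := fun h => he.2 (by rw [h])
  have hσ := E.base.cyc c d e hcd hde hce
  have hσv : ∀ v : Fin n → F, v d = 0 → v e = 0 →
      (swp E.base.two hcd * swp E.base.two hde).1 v = v - v c • (ax c - ax d) := fun v h1 h1' => by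
    rw [qAut_mul_apply, swp_apply, swp_apply]
    simp [h1, h1']
  have hm : Mono (g⁻¹ * (swp E.base.two hcd * swp E.base.two hde) * g) :=
    E.stab _ (H.mul_mem (H.mul_mem (H.inv_mem hg) hσ) hg) i (by
      rw [qAut_mul_apply, qAut_mul_apply, hσv _ (hZ d hd.1) (hZ e he.1), hZ c hc, zero_smul, sub_zero,
        qInv_apply_self])
  obtain ⟨l, hl⟩ := Finset.card_pos.1 (show 0 < (supp (r c)).card by have := htwo c hc; omega)
  obtain ⟨m, k, hmk, hsd⟩ := Finset.card_eq_two.1 (htwo d hd.1)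
  have hval : ∀ v, v ∈ supp (r d) → (g⁻¹ * (swp E.base.two hcd * swp E.base.two hde) * g).1 (ax l) v ≠ 0 := by
    intro v hv
    have hcol : ∀ a, g.1 (ax l) a = r a l := fun a => by rw [hr, apply_ax_eq h2]
    have hd0 := hdis c hc d hd.1 hcd (Ne.symm hd.2) l hl
    have he0 := hdis c hc e he.1 hce (Ne.symm he.2) l hl
    have hcv : r c v = 0 := hdis d hd.1 c hc (Ne.symm hcd) hd.2 v hv
    rw [qAut_mul_apply, qAut_mul_apply, hσv _ (by rw [hcol, hd0]) (by rw [hcol, he0]), map_sub, map_smul, map_sub,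
      qInv_apply_self, ← hr, ← hr, hcol, Pi.sub_apply, Pi.smul_apply, Pi.sub_apply, hcv,
      ax_ne (fun e' : v = l => mem_supp.1 hv (e' ▸ hd0)), smul_eq_mul, zero_sub, zero_sub, neg_ne_zero]
    exact mul_ne_zero (mem_supp.1 hl) (neg_ne_zero.2 (mem_supp.1 hv))
  exact hmk (mono_col hm (hval m (by simp [hsd])) (hval k (by simp [hsd])))

/-- A non-monomial element has at most one zero in each column. -/
theorem EvenCtx.col_zero_unique (E : EvenCtx H) {g : qAut (sq F n)} (hg : g ∈ H) (hnm : ¬ Mono g) {i c d : Fin n}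
    (hc : g.1 (ax i) c = 0) (hd : g.1 (ax i) d = 0) : c = d := by
  by_contra hcd
  have h4 := (E.rowOne hg hcd hc hd).card_four (col_unit E.base.two _ c) (col_unit E.base.two _ d)
    (col_orth E.base.two _ hcd)
  refine hnm (inv_inv g ▸ (monoGroup F n).inv_mem (mem_monoGroup.2
    (E.mono_of_zeros (H.inv_mem hg) (i := c) (Z := (supp ((g⁻¹).1 (ax c)))ᶜ) ?_ fun l hl => ?_)))
  · rw [Finset.card_compl, Fintype.card_fin]
    have := E.dim
    omega
  · exact notMem_supp.1 (Finset.mem_compl.1 hl)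

end CfsgLib.Classical22.Frame
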