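/-
In even dimension: a non-monomial element of the group maps one of `eᵢ ± eⱼ` to a root vector.
-/
import Cfsg.Agent.Lib.Classical22.Frame.EvenCols
import Cfsg.Agent.Lib.Classical22.Frame.Zlem

set_option autoImplicit false

namespace CfsgLib.Classical22.Frame

open Cfsg CfsgLib.Classical
open scoped Matrix _root_.Classical

variable {F : Type*} [Field F] [Fintype F] {n : ℕ}

/-- Combinations of two axes and two further vectors. -/
def Mem4 (a b : Fin n) (v w x : Fin n → F) : Prop :=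
  ∃ α β γ δ : F, x = α • ax a + β • ax b + γ • v + δ • w

omit [Fintype F] in
theorem Mem4.add {a b : Fin n} {v w x y : Fin n → F} (hx : Mem4 a b v w x) (hy : Mem4 a b v w y) :
    Mem4 a b v w (x + y) := by
  obtain ⟨α, β, γ, δ, rfl⟩ := hx
  obtain ⟨α', β', γ', δ', rfl⟩ := hy
  exact ⟨α + α', β + β', γ + γ', δ + δ', by module⟩

/-- A vector with two non-zero coordinates, both equal to one up to sign. -/
def IsRoot (y : Fin n → F) : Prop :=
  ∃ (p q : Fin n) (σ τ : F), p ≠ q ∧ σ * σ = 1 ∧ τ * τ = 1 ∧ y = σ • ax p + τ • ax q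

variable {H : Subgroup (qAut (sq F n))}

theorem EvenCtx.mono_of_short (E : EvenCtx H) {g : qAut (sq F n)} (hg : g ∈ H) {i : Fin n} {A : Finset (Fin n)}
    (hA : A.card + 2 ≤ n) (h : supp (g.1 (ax i)) ⊆ A) : Mono g := by
  by_contra hnm
  obtain ⟨c, hc, d, hd, hcd⟩ := Finset.one_lt_card.1 (show 1 < Aᶜ.card by
    rw [Finset.card_compl, Fintype.card_fin]; have := E.dim; omega)
  exact hcd (E.col_zero_unique hg hnm (eq_zero_of_supp h (Finset.mem_compl.1 hc))
    (eq_zero_of_supp h (Finset.mem_compl.1 hd)))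

/-- Short combinations of two columns are proportional. -/
theorem EvenCtx.small_dep (E : EvenCtx H) {g : qAut (sq F n)} (hg : g ∈ H) (hnm : ¬ Mono g) {i j : Fin n}
    {A : Finset (Fin n)} (hA : A.card + 2 ≤ n) {α β γ δ : F}
    (h1 : ∀ l, l ∉ A → α * g.1 (ax i) l + β * g.1 (ax j) l = 0)
    (h2 : ∀ l, l ∉ A → γ * g.1 (ax i) l + δ * g.1 (ax j) l = 0) : α * δ - β * γ = 0 := by
  by_contra hD
  refine hnm (E.mono_of_short hg hA (supp_subset fun l hl => ?_) (i := i))
  refine (mul_eq_zero.1 (show (α * δ - β * γ) * g.1 (ax i) l = 0 from ?_)).resolve_left hD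
  linear_combination δ * h1 l hl - β * h2 l hl

/-- An element commuting with an axis pair is monomial. -/
theorem EvenCtx.mono_of_comm (E : EvenCtx H) {h : qAut (sq F n)} (hh : h ∈ H) {a b : Fin n} (hab : a ≠ b)
    (hc : qRefl (sq F n) (sq_ax_ne a) * qRefl (sq F n) (sq_ax_ne b) * h =
      h * (qRefl (sq F n) (sq_ax_ne a) * qRefl (sq F n) (sq_ax_ne b))) :
    Mono h ∧ supp (h.1 (ax a)) ⊆ {a, b} ∧ supp (h.1 (ax b)) ⊆ {a, b} := by
  have h2 := E.base.two
  have key : ∀ e, e = a ∨ e = b → supp (h.1 (ax e)) ⊆ {a, b} := fun e he => supp_subset fun l hl => by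
    simp only [Finset.mem_insert, Finset.mem_singleton, not_or] at hl
    have h0 : (qRefl (sq F n) (sq_ax_ne a) * qRefl (sq F n) (sq_ax_ne b)).1 (h.1 (ax e)) l =
        h.1 ((qRefl (sq F n) (sq_ax_ne a) * qRefl (sq F n) (sq_ax_ne b)).1 (ax e)) l :=
      congrArg (fun f : qAut (sq F n) => f.1 (ax e) l) hc
    rw [refl_pair_apply h2 hab, refl_pair_apply h2 hab, map_sub, map_sub, map_smul, map_smul] at h0
    simp only [Pi.sub_apply, Pi.smul_apply, ax_ne hl.1, ax_ne hl.2, smul_zero, sub_zero, smul_eq_mul] at h0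
    rcases he with rfl | rfl
    · rw [ax_self, ax_ne (Ne.symm hab)] at h0
      exact (mul_eq_zero.1 (show (2 : F) * h.1 (ax e) l = 0 by linear_combination h0)).resolve_left h2
    · rw [ax_self, ax_ne hab] at h0
      exact (mul_eq_zero.1 (show (2 : F) * h.1 (ax e) l = 0 by linear_combination h0)).resolve_left h2
  exact ⟨E.mono_of_short hh (i := a) (A := {a, b})
    (by have := Finset.card_le_two (a := a) (b := b); have := E.dim; omega) (key a (Or.inl rfl)),
    key a (Or.inl rfl), key b (Or.inr rfl)⟩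

/-- A monomial involution with small image moves at most two coordinates outside the pair. -/
theorem EvenCtx.moved_small (E : EvenCtx H) {g : qAut (sq F n)} (hg : g ∈ H) (hnm : ¬ Mono g) {a b i j : Fin n}
    {z : qAut (sq F n)} (hz : Mono z) (hza : ∀ l, l ≠ a → l ≠ b → z.1 (ax l) a = 0 ∧ z.1 (ax l) b = 0)
    (hU : ∀ x, Mem4 a b (g.1 (ax i)) (g.1 (ax j)) (z.1 x - x)) :
    ∃ p q, ∀ l, l ≠ a → l ≠ b → l ≠ p → l ≠ q → z.1 (ax l) = ax l := by
  by_cases hall : ∀ l, l ≠ a → l ≠ b → z.1 (ax l) = ax l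
  · exact ⟨a, b, fun l h1 h2 _ _ => hall l h1 h2⟩
  push Not at hall
  obtain ⟨p, hpa, hpb, hp⟩ := hall
  obtain ⟨q, s, hq⟩ := hz p
  refine ⟨p, q, fun l hla hlb hlp hlq => ?_⟩
  by_contra hl
  obtain ⟨r, t, hr⟩ := hz l
  obtain ⟨α₁, β₁, γ₁, δ₁, e₁⟩ := hU (ax p)
  obtain ⟨α₂, β₂, γ₂, δ₂, e₂⟩ := hU (ax l)
  have c₁ : ∀ m, m ≠ a → m ≠ b → γ₁ * g.1 (ax i) m + δ₁ * g.1 (ax j) m = (z.1 (ax p) - ax p : Fin n → F) m :=
    fun m h1 h2 => by rw [e₁]; simp [ax_ne h1, ax_ne h2]
  have c₂ : ∀ m, m ≠ a → m ≠ b → γ₂ * g.1 (ax i) m + δ₂ * g.1 (ax j) m = (z.1 (ax l) - ax l : Fin n → F) m :=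
    fun m h1 h2 => by rw [e₂]; simp [ax_ne h1, ax_ne h2]
  have hdep : γ₁ * δ₂ - δ₁ * γ₂ = 0 := by
    refine E.small_dep hg hnm (i := i) (j := j) (A := {a, b, p, q, l, r})
      (by have := Finset.card_le_six (a := a) (b := b) (c := p) (d := q) (e := l) (f := r); have := E.dim; omega)
      (fun m hm => ?_) (fun m hm => ?_) <;>
      simp only [Finset.mem_insert, Finset.mem_singleton, not_or] at hm <;>
      obtain ⟨m1, m2, m3, m4, m5, m6⟩ := hm
    · rw [c₁ m m1 m2, hq]; simp [ax_ne m3, ax_ne m4]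
    · rw [c₂ m m1 m2, hr]; simp [ax_ne m5, ax_ne m6]
  have hl2 : (z.1 (ax l) - ax l : Fin n → F) l ≠ 0 := fun e => hl (by
    rw [hr, Pi.sub_apply, Pi.smul_apply, ax_self, sub_eq_zero] at e
    by_cases hrl : l = r
    · subst hrl
      rw [ax_self, smul_eq_mul, mul_one] at e
      rw [hr, e, one_smul]
    · rw [ax_ne hrl, smul_zero] at e
      exact absurd e zero_ne_one)
  have e1l : (z.1 (ax p) - ax p : Fin n → F) l = 0 := by rw [hq]; simp [ax_ne hlp, ax_ne hlq]
  rw [← c₂ l hla hlb] at hl2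
  rw [← c₁ l hla hlb] at e1l
  -- both coefficients of the first difference vanish at `l`
  have k1 : γ₁ * (γ₂ * g.1 (ax i) l + δ₂ * g.1 (ax j) l) = 0 := by
    linear_combination γ₂ * e1l + g.1 (ax j) l * hdep
  have k2 : δ₁ * (γ₂ * g.1 (ax i) l + δ₂ * g.1 (ax j) l) = 0 := by
    linear_combination δ₂ * e1l - g.1 (ax i) l * hdep
  have g0 := (mul_eq_zero.1 k1).resolve_right hl2
  have d0 := (mul_eq_zero.1 k2).resolve_right hl2
  refine hp (funext fun m => sub_eq_zero.1 ?_)
  rw [← Pi.sub_apply]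
  by_cases hma : m = a
  · subst hma; simp [(hza p hpa hpb).1, ax_ne (Ne.symm hpa)]
  by_cases hmb : m = b
  · subst hmb; simp [(hza p hpa hpb).2, ax_ne (Ne.symm hpb)]
  rw [← c₁ m hma hmb, g0, d0]
  ring

/-- A negated coordinate is impossible. -/
theorem EvenCtx.no_neg (E : EvenCtx H) {g : qAut (sq F n)} (hg : g ∈ H) (hnm : ¬ Mono g) {z z' : qAut (sq F n)}
    (hzz : ∀ x, z.1 (g.1 x) = g.1 (z'.1 x)) {A : Finset (Fin n)} (hA : A.card + 2 ≤ n)
    (hfix : ∀ q, q ∉ A → z'.1 (ax q) = ax q) (l : Fin n) : z.1 (ax l) ≠ -ax l := by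
  intro hl
  have hnm' : ¬ Mono g⁻¹ := fun h => hnm (inv_inv g ▸ (monoGroup F n).inv_mem (mem_monoGroup.2 h))
  have h0 : ∀ q, q ∉ A → (g⁻¹).1 (ax l) q = 0 := fun q hq => by
    rw [← apply_ax_eq E.base.two]
    have e : z.1 (g.1 (ax q)) = g.1 (ax q) := by rw [hzz, hfix q hq]
    have h := iso_dot E.base.two z (g.1 (ax q)) (ax l)
    rw [e, hl, dotProduct_neg, dot_ax] at h
    exact (mul_eq_zero.1 (show (2 : F) * g.1 (ax q) l = 0 by linear_combination -h)).resolve_left E.base.two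
  obtain ⟨q, hq, r, hr, hqr⟩ := Finset.one_lt_card.1 (show 1 < Aᶜ.card by
    rw [Finset.card_compl, Fintype.card_fin]; have := E.dim; omega)
  exact hqr (E.col_zero_unique (H.inv_mem hg) hnm' (h0 q (Finset.mem_compl.1 hq)) (h0 r (Finset.mem_compl.1 hr)))

/-- The two possibilities for a source pair and a target pair. -/
theorem EvenCtx.pair_cases (E : EvenCtx H) {g : qAut (sq F n)} (hg : g ∈ H) (hnm : ¬ Mono g) {i j a b : Fin n}
    (hij : i ≠ j) (hab : a ≠ b) :
    (∃ ε : F, ε * ε = 1 ∧ (supp (g.1 (ax i + ε • ax j))).card ≤ 4 ∧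
      (g.1 (ax i + ε • ax j) b = 0 → IsRoot (g.1 (ax i + ε • ax j)))) ∨
    ∃ f ∈ H, Mono f ∧ supp (f.1 (ax i)) ⊆ {a, b} ∧ supp (f.1 (ax j)) ⊆ {a, b} ∧
      ∀ t, Mem4 a b (g.1 (ax i)) (g.1 (ax j)) (g.1 (ax t) - f.1 (ax t)) := by
  have h2 := E.base.two
  obtain ⟨d, hd⟩ : ∃ d, d = qRefl (sq F n) (sq_ax_ne a) * qRefl (sq F n) (sq_ax_ne b) := ⟨_, rfl⟩
  obtain ⟨d₀, hd₀⟩ : ∃ d₀, d₀ = qRefl (sq F n) (sq_ax_ne i) * qRefl (sq F n) (sq_ax_ne j) := ⟨_, rfl⟩
  obtain ⟨d', hd'⟩ : ∃ d', d' = g * d₀ * g⁻¹ := ⟨_, rfl⟩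
  have hdH : d ∈ H := hd ▸ E.pair_mem hab
  have hd₀H : d₀ ∈ H := hd₀ ▸ E.pair_mem hij
  have hd'H : d' ∈ H := hd' ▸ H.mul_mem (H.mul_mem hg hd₀H) (H.inv_mem hg)
  have hinvol : ∀ {c e : Fin n}, c ≠ e →
      (qRefl (sq F n) (sq_ax_ne (F := F) c) * qRefl (sq F n) (sq_ax_ne e)) *
        (qRefl (sq F n) (sq_ax_ne c) * qRefl (sq F n) (sq_ax_ne e)) = 1 := fun {c e} h => qAut_ext fun x => by
    rw [qAut_mul_apply, refl_pair_apply h2 h, refl_pair_apply h2 h]
    simp only [Pi.sub_apply, Pi.smul_apply, ax_self, ax_ne h, ax_ne (Ne.symm h), smul_eq_mul, mul_zero, mul_one,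
      sub_zero]
    change _ = x
    module
  have hdd : d * d = 1 := hd ▸ hinvol hab
  have hd'd' : d' * d' = 1 := by
    rw [hd', show g * d₀ * g⁻¹ * (g * d₀ * g⁻¹) = g * (d₀ * d₀) * g⁻¹ by group, hd₀, hinvol hij, mul_one,
      mul_inv_cancel]
  obtain ⟨ρ, hρ⟩ : ∃ ρ, ρ = d' * d := ⟨_, rfl⟩
  have hdi : d⁻¹ = d := inv_eq_of_mul_eq_one_right hdd
  have hd'i : d'⁻¹ = d' := inv_eq_of_mul_eq_one_right hd'd'
  have hρd : d * ρ * d⁻¹ = ρ⁻¹ := by
    rw [hρ, mul_inv_rev, hd'i, hdi, ← mul_assoc, mul_assoc (d * d'), hdd, mul_one]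
  have hρd' : d' * ρ * d'⁻¹ = ρ⁻¹ := by
    rw [hρ, mul_inv_rev, hd'i, hdi, ← mul_assoc, hd'd', one_mul]
  -- everything differs from the identity inside a four-space
  have hU : ∀ (m : ℕ) x, Mem4 a b (g.1 (ax i)) (g.1 (ax j)) ((ρ ^ m).1 x - x) := by
    have hstep : ∀ x, Mem4 a b (g.1 (ax i)) (g.1 (ax j)) (ρ.1 x - x) := fun x => by
      obtain ⟨y, hy⟩ : ∃ y, y = d.1 x := ⟨_, rfl⟩
      have e1 : y = x - (2 * x a) • ax a - (2 * x b) • ax b := by rw [hy, hd, refl_pair_apply h2 hab]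
      have e2 := conj_pair_apply h2 g⁻¹ hij y
      rw [inv_inv, ← hd₀, ← hd'] at e2
      refine ⟨-(2 * x a), -(2 * x b), -(2 * (y ⬝ᵥ g.1 (ax i))), -(2 * (y ⬝ᵥ g.1 (ax j))), ?_⟩
      rw [hρ, qAut_mul_apply, ← hy, e2]
      nth_rw 1 [e1]
      module
    intro m
    induction m with
    | zero =>
      intro x
      refine ⟨0, 0, 0, 0, ?_⟩
      rw [pow_zero]
      change x - x = _
      simp
    | succ m ih =>
      intro x
      have h := (ih (ρ.1 x)).add (hstep x)
      rwa [sub_add_sub_cancel, ← qAut_mul_apply, ← pow_succ] at h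
  have hρH : ρ ∈ H := hρ ▸ H.mul_mem hd'H hdH
  haveI := finite_qAut (sq F n)
  have hpos : 0 < orderOf ρ := orderOf_pos ρ
  rcases Nat.even_or_odd (orderOf ρ) with ⟨r, hr⟩ | ⟨r, hr⟩
  · refine Or.inl ?_
    obtain ⟨z, hz⟩ : ∃ z, z = ρ ^ r := ⟨_, rfl⟩
    have hz2 : z * z = 1 := by rw [hz, ← pow_add, ← hr, pow_orderOf_eq_one]
    have hz1 : z ≠ 1 := hz ▸ pow_ne_one_of_lt_orderOf (by omega) (by omega)
    have hzi : z⁻¹ = z := inv_eq_of_mul_eq_one_right hz2
    have hzH : z ∈ H := hz ▸ H.pow_mem hρH r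
    have hzc : ∀ e, e * ρ * e⁻¹ = ρ⁻¹ → e * z = z * e := fun e he => by
      have h' : e * z * e⁻¹ = z := by rw [hz, ← conj_pow, he, inv_pow, ← hz, hzi]
      rwa [mul_inv_eq_iff_eq_mul] at h'
    have hzd := hzc d hρd
    have hzd' := hzc d' hρd'
    obtain ⟨hzm, hza, hzb⟩ := E.mono_of_comm hzH hab (hd ▸ hzd)
    obtain ⟨z', hz'⟩ : ∃ z', z' = g⁻¹ * z * g := ⟨_, rfl⟩
    have hz'H : z' ∈ H := hz' ▸ H.mul_mem (H.mul_mem (H.inv_mem hg) hzH) hg
    have hz'd : d₀ * z' = z' * d₀ := by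
      have e : d₀ = g⁻¹ * d' * g := by rw [hd']; group
      rw [e, hz', show g⁻¹ * d' * g * (g⁻¹ * z * g) = g⁻¹ * (d' * z) * g by group, hzd']
      group
    obtain ⟨hz'm, hz'a, hz'b⟩ := E.mono_of_comm hz'H hij (hd₀ ▸ hz'd)
    have hz'2 : z' * z' = 1 := by
      rw [hz', show g⁻¹ * z * g * (g⁻¹ * z * g) = g⁻¹ * (z * z) * g by group, hz2, mul_one, inv_mul_cancel]
    have hz'i : z'⁻¹ = z' := inv_eq_of_mul_eq_one_right hz'2
    have hzz : ∀ x, z.1 (g.1 x) = g.1 (z'.1 x) := fun x => by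
      rw [hz', qAut_mul_apply, qAut_mul_apply, qApply_inv_self]
    have hperp : ∀ (y : qAut (sq F n)) (c e : Fin n), y⁻¹ = y → supp (y.1 (ax c)) ⊆ {c, e} →
        supp (y.1 (ax e)) ⊆ {c, e} → ∀ l, l ≠ c → l ≠ e → y.1 (ax l) c = 0 ∧ y.1 (ax l) e = 0 := by
      intro y c e hy hc he l hlc hle
      rw [apply_ax_eq h2, apply_ax_eq h2 y l e, hy]
      exact ⟨eq_zero_of_supp hc (by simp [hlc, hle]), eq_zero_of_supp he (by simp [hlc, hle])⟩
    have hUz : ∀ x, Mem4 a b (g.1 (ax i)) (g.1 (ax j)) (z.1 x - x) := hz ▸ hU r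
    have hUz' : ∀ x, Mem4 i j ((g⁻¹).1 (ax a)) ((g⁻¹).1 (ax b)) (z'.1 x - x) := fun x => by
      obtain ⟨α, β, γ, δ, e⟩ := hUz (g.1 x)
      have e' := congrArg (fun y => (g⁻¹).1 y) e
      simp only [map_sub, map_add, map_smul, qInv_apply_self] at e'
      refine ⟨γ, δ, α, β, ?_⟩
      rw [hz', qAut_mul_apply, qAut_mul_apply, e']
      abel
    have hnm' : ¬ Mono g⁻¹ := fun h => hnm (inv_inv g ▸ (monoGroup F n).inv_mem (mem_monoGroup.2 h))
    obtain ⟨p, q, hpq⟩ := E.moved_small hg hnm hzm (hperp z a b hzi hza hzb) hUz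
    obtain ⟨p', q', hpq'⟩ := E.moved_small (H.inv_mem hg) hnm' hz'm (hperp z' i j hz'i hz'a hz'b) hUz'
    have hfix : ∀ l, l ∉ ({a, b, p, q} : Finset (Fin n)) → z.1 (ax l) = ax l := fun l hl => by
      simp only [Finset.mem_insert, Finset.mem_singleton, not_or] at hl
      exact hpq l hl.1 hl.2.1 hl.2.2.1 hl.2.2.2
    have hfix' : ∀ l, l ∉ ({i, j, p', q'} : Finset (Fin n)) → z'.1 (ax l) = ax l := fun l hl => by
      simp only [Finset.mem_insert, Finset.mem_singleton, not_or] at hl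
      exact hpq' l hl.1 hl.2.1 hl.2.2.1 hl.2.2.2
    have hneg : ∀ l, z.1 (ax l) ≠ -ax l :=
      E.no_neg hg hnm hzz (A := {i, j, p', q'})
        (by have := Finset.card_le_four (a := i) (b := j) (c := p') (d := q'); have := E.dim; omega) hfix'
    have hneg' : ∀ l, z'.1 (ax l) ≠ -ax l := by
      refine E.no_neg (H.inv_mem hg) hnm' (z := z') (z' := z) (fun x => ?_) (A := {a, b, p, q})
        (by have := Finset.card_le_four (a := a) (b := b) (c := p) (d := q); have := E.dim; omega) hfix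
      rw [hz', qAut_mul_apply, qAut_mul_apply, qApply_inv_self]
    -- the pair `i j` is interchanged
    obtain ⟨k, s, hk⟩ := hz'm i
    have hss := mono_coeff hk
    have hs0 := mono_coeff_ne hk
    have hkj : k = j := by
      by_contra hkj
      have hki : k = i := by
        by_contra hki
        have := eq_zero_of_supp hz'a (show k ∉ ({i, j} : Finset (Fin n)) by simp [hki, hkj])
        rw [hk, Pi.smul_apply, ax_self, smul_eq_mul, mul_one] at this
        exact hs0 this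
      subst hki
      have hi1 : z'.1 (ax k) = ax k := by
        rcases mul_self_eq_one_iff.1 hss with rfl | rfl
        · rw [hk, one_smul]
        · exact absurd (by rw [hk, neg_one_smul]) (hneg' k)
      obtain ⟨l, t, hl⟩ := hz'm j
      have hlj : l = j := by
        by_contra hlj
        by_cases hlk : l = k
        · subst hlk
          have h := mono_inv_apply hl
          rw [hz'i, hi1] at h
          have h' := congrFun h l
          rw [Pi.smul_apply, ax_self, ax_ne hij, smul_zero] at h'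
          exact one_ne_zero h'
        · have := eq_zero_of_supp hz'b (show l ∉ ({k, j} : Finset (Fin n)) by simp [hlk, hlj])
          rw [hl, Pi.smul_apply, ax_self, smul_eq_mul, mul_one] at this
          exact mono_coeff_ne hl this
      subst hlj
      have hj1 : z'.1 (ax l) = ax l := by
        rcases mul_self_eq_one_iff.1 (mono_coeff hl) with rfl | rfl
        · rw [hl, one_smul]
        · exact absurd (by rw [hl, neg_one_smul]) (hneg' l)
      have hout : ∀ m, m ≠ a → m ≠ b → z.1 (ax m) = ax m := by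
        intro m hma hmb
        by_contra hm
        obtain ⟨α, β, γ, δ, e⟩ := hUz (ax m)
        obtain ⟨m', t', hm'⟩ := hzm m
        have hmm : m ≠ m' := by
          rintro rfl
          rcases mul_self_eq_one_iff.1 (mono_coeff hm') with rfl | rfl
          · exact hm (by rw [hm', one_smul])
          · exact hneg m (by rw [hm', neg_one_smul])
        obtain ⟨h0a, h0b⟩ := hperp z a b hzi hza hzb m hma hmb
        have hv : ∀ c, z'.1 (ax c) = ax c → (z.1 (ax m) - ax m) ⬝ᵥ g.1 (ax c) = 0 := fun c hc => by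
          have e' : z.1 (g.1 (ax c)) = g.1 (ax c) := by rw [hzz, hc]
          rw [sub_dotProduct]
          conv_lhs => arg 1; rw [← e', iso_dot h2]
          exact sub_self _
        have hsq : (z.1 (ax m) - ax m) ⬝ᵥ (z.1 (ax m) - ax m) = 0 := by
          conv_lhs => arg 2; rw [e]
          rw [dotProduct_add, dotProduct_add, dotProduct_add, dotProduct_smul, dotProduct_smul, dotProduct_smul,
            dotProduct_smul, hv k hi1, hv l hj1, dot_ax, dot_ax, Pi.sub_apply, Pi.sub_apply, h0a, h0b,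
            ax_ne (Ne.symm hma), ax_ne (Ne.symm hmb)]
          simp
        rw [hm'] at hsq
        simp only [sub_dotProduct, dotProduct_sub, smul_dotProduct, dotProduct_smul, ax_dot, ax_self, ax_ne hmm,
          ax_ne (Ne.symm hmm), smul_eq_mul] at hsq
        exact h2 (by linear_combination hsq - mono_coeff hm')
      obtain ⟨a', u, ha'⟩ := hzm a
      have huu := mono_coeff ha'
      have hu0 := mono_coeff_ne ha'
      by_cases haa : a' = a
      · subst haa
        have h1 : z.1 (ax a') = ax a' := by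
          rcases mul_self_eq_one_iff.1 huu with rfl | rfl
          · rw [ha', one_smul]
          · exact absurd (by rw [ha', neg_one_smul]) (hneg a')
        refine hz1 (qAut_ext_ax fun m => ?_)
        by_cases hma : m = a'
        · subst hma; rw [h1]; rfl
        by_cases hmb : m = b
        · subst hmb
          obtain ⟨b', w, hb'⟩ := hzm m
          have hbb : b' = m := by
            by_contra hne
            by_cases hb'a : b' = a'
            · subst hb'a
              have h := mono_inv_apply hb'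
              rw [hzi, h1] at h
              have h' := congrFun h b'
              rw [Pi.smul_apply, ax_self, ax_ne hab, smul_zero] at h'
              exact one_ne_zero h'
            · have := eq_zero_of_supp hzb (show b' ∉ ({a', m} : Finset (Fin n)) by simp [hb'a, hne])
              rw [hb', Pi.smul_apply, ax_self, smul_eq_mul, mul_one] at this
              exact mono_coeff_ne hb' this
          subst hbb
          rcases mul_self_eq_one_iff.1 (mono_coeff hb') with rfl | rfl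
          · rw [hb', one_smul]; rfl
          · exact absurd (by rw [hb', neg_one_smul]) (hneg b')
        rw [hout m hma hmb]
        rfl
      have ha'b : a' = b := by
        by_contra hne
        have := eq_zero_of_supp hza (show a' ∉ ({a, b} : Finset (Fin n)) by simp [haa, hne])
        rw [ha', Pi.smul_apply, ax_self, smul_eq_mul, mul_one] at this
        exact hu0 this
      subst ha'b
      have hb1 := mono_inv_apply ha'
      rw [hzi] at hb1
      have hnd : sq F n (ax a - u • ax a') ≠ 0 := by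
        rw [sq_apply]
        simp only [sub_dotProduct, dotProduct_sub, smul_dotProduct, dotProduct_smul, ax_dot, ax_self, ax_ne hab,
          ax_ne (Ne.symm hab), smul_eq_mul]
        intro e
        exact h2 (by linear_combination e - huu)
      have hzr : z = qRefl (sq F n) hnd := qAut_ext_ax fun m => by
        rw [refl_apply h2]
        simp only [sub_dotProduct, dotProduct_sub, smul_dotProduct, dotProduct_smul, ax_dot, ax_self, ax_ne hab,
          ax_ne (Ne.symm hab), smul_eq_mul]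
        by_cases hma : m = a
        · subst hma
          rw [ha']
          simp only [ax_self, ax_ne hab, ax_ne (Ne.symm hab), huu, mul_zero, sub_zero, mul_one, zero_sub]
          rw [mul_neg, huu, show (1 : F) - -1 = 2 by ring, div_self h2, one_smul, sub_sub_cancel]
        by_cases hmb : m = a'
        · subst hmb
          rw [hb1]
          simp only [ax_self, ax_ne hab, ax_ne (Ne.symm hab), huu, mul_zero, sub_zero, mul_one, zero_sub]
          rw [mul_neg, mul_neg, huu, show (1 : F) - -1 = 2 by ring, neg_div, mul_div_cancel_left₀ _ h2, smul_sub,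
            smul_smul, neg_mul, huu, neg_one_smul]
          module
        rw [hout m hma hmb]
        simp [ax_ne hma, ax_ne hmb, ax_ne (Ne.symm hma), ax_ne (Ne.symm hmb)]
      have h1 := E.det z hzH
      rw [hzr, dt_refl] at h1
      exact neg_one_ne_one h2 h1
    subst hkj
    obtain ⟨y, hy⟩ : ∃ y, y = g.1 (ax i + (-s) • ax k) := ⟨_, rfl⟩
    refine ⟨-s, by rw [neg_mul_neg, hss], ?_⟩
    rw [← hy]
    have hzy : z.1 y = -y := by
      have hkk := mono_inv_apply hk
      rw [hz'i] at hkk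
      rw [hy, hzz, map_add, map_smul, hk, hkk, smul_smul, neg_mul, hss, ← map_neg]
      congr 1
      module
    have hrel : ∀ m, y m = -(z.1 (ax m) ⬝ᵥ y) := fun m => by
      have h := iso_dot h2 z (ax m) y
      rw [hzy, dotProduct_neg, ax_dot] at h
      exact h.symm
    have hsupp : supp y ⊆ {a, b, p, q} := supp_subset fun m hm => by
      have h := hrel m
      rw [hfix m hm, ax_dot] at h
      exact (mul_eq_zero.1 (show (2 : F) * y m = 0 by linear_combination h)).resolve_left h2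
    refine ⟨(Finset.card_le_card hsupp).trans Finset.card_le_four, fun hyb => ?_⟩
    have hya : y a = 0 := by
      obtain ⟨a', u, hu⟩ := hzm a
      have h := hrel a
      rw [hu, smul_dotProduct, ax_dot, smul_eq_mul] at h
      by_cases ha' : a' = a
      · subst ha'
        rcases mul_self_eq_one_iff.1 (mono_coeff hu) with rfl | rfl
        · exact (mul_eq_zero.1 (show (2 : F) * y a' = 0 by linear_combination h)).resolve_left h2
        · exact absurd (by rw [hu, neg_one_smul]) (hneg a')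
      · by_cases hab' : a' = b
        · rw [hab', hyb, mul_zero, neg_zero] at h
          exact h
        · have := eq_zero_of_supp hza (show a' ∉ ({a, b} : Finset (Fin n)) by simp [ha', hab'])
          rw [hu, Pi.smul_apply, ax_self, smul_eq_mul, mul_one] at this
          exact absurd this (mono_coeff_ne hu)
    have hyy : y ⬝ᵥ y = 2 := by
      rw [hy, iso_dot h2]
      simp only [add_dotProduct, dotProduct_add, smul_dotProduct, dotProduct_smul, ax_dot, ax_self, ax_ne hij,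
        ax_ne (Ne.symm hij), smul_eq_mul]
      linear_combination hss
    obtain ⟨m, hm⟩ : (supp y).Nonempty := Finset.nonempty_iff_ne_empty.2 fun e => by
      rw [dot_eq_sum (T := ∅) e.le, Finset.sum_empty] at hyy
      exact h2 hyy.symm
    obtain ⟨m', t, ht⟩ := hzm m
    have hm0 := mem_supp.1 hm
    have hr := hrel m
    rw [ht, smul_dotProduct, ax_dot, smul_eq_mul] at hr
    have hmm : m ≠ m' := by
      intro e
      subst e
      rcases mul_self_eq_one_iff.1 (mono_coeff ht) with rfl | rfl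
      · exact hm0 ((mul_eq_zero.1 (show (2 : F) * y m = 0 by linear_combination hr)).resolve_left h2)
      · exact hneg m (by rw [ht, neg_one_smul])
    have hm' : y m' ≠ 0 := fun e => hm0 (by rw [hr, e, mul_zero, neg_zero])
    have hin : ∀ l, y l ≠ 0 → l = p ∨ l = q := fun l hl => by
      have := hsupp (mem_supp.2 hl)
      simp only [Finset.mem_insert, Finset.mem_singleton] at this
      rcases this with rfl | rfl | h | h
      · exact absurd hya hl
      · exact absurd hyb hl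
      · exact Or.inl h
      · exact Or.inr h
    have hs2 : supp y ⊆ {m, m'} := fun l hl => by
      have h1 := hin l (mem_supp.1 hl)
      have h3 := hin m hm0
      have h4 := hin m' hm'
      simp only [Finset.mem_insert, Finset.mem_singleton]
      by_cases hl1 : l = m
      · exact Or.inl hl1
      refine Or.inr ?_
      rcases h1 with rfl | rfl <;> rcases h3 with rfl | rfl <;> rcases h4 with h4 | h4 <;>
        first | exact h4.symm | exact absurd rfl hl1 | exact absurd h4.symm hmm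
    have he : y m * y m = y m' * y m' := by
      rw [hr]; linear_combination (y m' * y m') * mono_coeff ht
    rw [dot_eq_sum hs2, Finset.sum_pair hmm] at hyy
    have hone : y m * y m = 1 := mul_left_cancel₀ h2 (by linear_combination hyy + he)
    refine ⟨m, m', y m, y m', hmm, hone, he ▸ hone, funext fun l => ?_⟩
    by_cases hl : l = m
    · subst hl; simp [ax_self, ax_ne hmm]
    by_cases hl' : l = m'
    · subst hl'; simp [ax_self, ax_ne hl]
    simp [ax_ne hl, ax_ne hl', eq_zero_of_supp hs2 (show l ∉ ({m, m'} : Finset (Fin n)) by simp [hl, hl'])]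
  · refine Or.inr ?_
    obtain ⟨k, hk⟩ : ∃ k, k = ρ ^ (r + 1) := ⟨_, rfl⟩
    have hk2 : k * d * k⁻¹ = d' := by
      have h : d * k⁻¹ * d⁻¹ = k := by rw [hk, ← inv_pow, ← conj_pow]; rw [show d * ρ⁻¹ * d⁻¹ = ρ by
        rw [show d * ρ⁻¹ * d⁻¹ = (d * ρ * d⁻¹)⁻¹ by group, hρd, inv_inv]]
      rw [show k * d * k⁻¹ = k * (d * k⁻¹ * d⁻¹) * d by group, h, hk, ← pow_add,
        show r + 1 + (r + 1) = orderOf ρ + 1 by omega, pow_succ, pow_orderOf_eq_one, one_mul, hρ, mul_assoc, hdd,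
        mul_one]
    obtain ⟨f, hf⟩ : ∃ f, f = k⁻¹ * g := ⟨_, rfl⟩
    have hfH : f ∈ H := hf ▸ H.mul_mem (H.inv_mem (hk ▸ H.pow_mem hρH _)) hg
    have hfd : d * f = f * d₀ := by
      rw [hf, show d = k⁻¹ * d' * k by rw [← hk2]; group, hd']
      group
    have key : ∀ e, d₀.1 (ax e) = -ax e → supp (f.1 (ax e)) ⊆ {a, b} := fun e he => supp_subset fun l hl => by
      simp only [Finset.mem_insert, Finset.mem_singleton, not_or] at hl
      have h := congrArg (fun x : qAut (sq F n) => x.1 (ax e) l) hfd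
      simp only [qAut_mul_apply, he, map_neg, Pi.neg_apply] at h
      rw [hd, refl_pair_apply h2 hab] at h
      simp only [Pi.sub_apply, Pi.smul_apply, ax_ne hl.1, ax_ne hl.2, smul_zero, sub_zero] at h
      exact (mul_eq_zero.1 (show (2 : F) * f.1 (ax e) l = 0 by linear_combination h)).resolve_left h2
    have hfi : supp (f.1 (ax i)) ⊆ {a, b} := key i (by
      rw [hd₀, qAut_mul_apply, refl_ax_fix (ax_ne (Ne.symm hij)), refl_ax_self])
    have hfj : supp (f.1 (ax j)) ⊆ {a, b} := key j (by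
      rw [hd₀, qAut_mul_apply, refl_ax_self, map_neg, refl_ax_fix (ax_ne hij)])
    refine ⟨f, hfH, E.mono_of_short hfH
      (by have := Finset.card_le_two (a := a) (b := b); have := E.dim; omega) hfi, hfi, hfj, fun t => ?_⟩
    have h := hk ▸ hU (r + 1) (f.1 (ax t))
    rwa [hf, qAut_mul_apply, qApply_inv_self, ← qAut_mul_apply, ← hf] at h

/-- Two independent combinations of two columns have no common zero. -/
theorem EvenCtx.zero_dep (E : EvenCtx H) {g : qAut (sq F n)} (hg : g ∈ H) (hnm : ¬ Mono g) {i j : Fin n} (hij : i ≠ j)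
    {γ δ γ' δ' : F} {l : Fin n} (h1 : (γ • g.1 (ax i) + δ • g.1 (ax j)) l = 0)
    (h2 : (γ' • g.1 (ax i) + δ' • g.1 (ax j)) l = 0) : γ * δ' - δ * γ' = 0 := by
  by_contra hD
  simp only [Pi.add_apply, Pi.smul_apply, smul_eq_mul] at h1 h2
  have hi : g.1 (ax i) l = 0 :=
    (mul_eq_zero.1 (show (γ * δ' - δ * γ') * g.1 (ax i) l = 0 by linear_combination δ' * h1 - δ * h2)).resolve_left hD
  have hj : g.1 (ax j) l = 0 :=
    (mul_eq_zero.1 (show (γ * δ' - δ * γ') * g.1 (ax j) l = 0 by linear_combination γ * h2 - γ' * h1)).resolve_left hD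
  rw [apply_ax_eq E.base.two] at hi hj
  exact hij (E.col_zero_unique (H.inv_mem hg) (fun h => hnm (inv_inv g ▸ (monoGroup F n).inv_mem (mem_monoGroup.2 h)))
    hi hj)

/-- Dependent non-trivial combinations have the same support. -/
theorem supp_eq_of_dep {γ δ γ' δ' : F} {v w : Fin n → F} (h : γ * δ' - δ * γ' = 0) (h1 : γ ≠ 0 ∨ δ ≠ 0)
    (h2 : γ' ≠ 0 ∨ δ' ≠ 0) : supp (γ' • v + δ' • w) = supp (γ • v + δ • w) := by
  have hfwd : ∀ {γ δ γ' δ' : F}, γ * δ' - δ * γ' = 0 → (γ ≠ 0 ∨ δ ≠ 0) →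
      supp (γ' • v + δ' • w) ⊆ supp (γ • v + δ • w) := fun {γ δ γ' δ'} h h1 => supp_subset fun l hl => by
    have h0 := notMem_supp.1 hl
    simp only [Pi.add_apply, Pi.smul_apply, smul_eq_mul] at h0 ⊢
    rcases h1 with hne | hne
    · refine (mul_eq_zero.1 (show γ * (γ' * v l + δ' * w l) = 0 from ?_)).resolve_left hne
      linear_combination γ' * h0 + w l * h
    · refine (mul_eq_zero.1 (show δ * (γ' * v l + δ' * w l) = 0 from ?_)).resolve_left hne
      linear_combination δ' * h0 - v l * h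
  exact Finset.Subset.antisymm (hfwd h h1) (hfwd (by linear_combination -h) h2)

/-- One of `eᵢ ± eⱼ` goes to a root vector. -/
theorem EvenCtx.root_pair (E : EvenCtx H) {g : qAut (sq F n)} (hg : g ∈ H) (hnm : ¬ Mono g) {i j : Fin n}
    (hij : i ≠ j) : ∃ ε : F, ε * ε = 1 ∧ IsRoot (g.1 (ax i + ε • ax j)) := by
  by_contra hcon
  push Not at hcon
  have h2 := E.base.two
  have hn := E.dim
  obtain ⟨x, hx⟩ : ∃ x : F → F → Fin n → F, ∀ γ δ, x γ δ = γ • g.1 (ax i) + δ • g.1 (ax j) := ⟨_, fun γ δ => rfl⟩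
  have hnm' : ¬ Mono g⁻¹ := fun h => hnm (inv_inv g ▸ (monoGroup F n).inv_mem (mem_monoGroup.2 h))
  -- a non-trivial combination has two non-zero coordinates
  have htwo : ∀ γ δ, γ ≠ 0 ∨ δ ≠ 0 → 1 < (supp (x γ δ)).card := by
    intro γ δ hne
    have hpre : (g⁻¹).1 (x γ δ) = γ • ax i + δ • ax j := by
      rw [hx, map_add, map_smul, map_smul, qInv_apply_self, qInv_apply_self]
    by_contra hle
    rcases (show (supp (x γ δ)).card = 0 ∨ (supp (x γ δ)).card = 1 by omega) with h | h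
    · have h0 : x γ δ = 0 := funext fun l => notMem_supp.1 (by rw [Finset.card_eq_zero.1 h]; simp)
      rw [h0, map_zero] at hpre
      have hi := congrFun hpre i
      have hj := congrFun hpre j
      simp [ax_self, ax_ne hij, ax_ne (Ne.symm hij)] at hi hj
      rcases hne with hne | hne
      · exact hne hi.symm
      · exact hne hj.symm
    · obtain ⟨l, hl⟩ := Finset.card_eq_one.1 h
      have hxl : x γ δ = x γ δ l • ax l := funext fun m => by
        by_cases hm : m = l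
        · subst hm; simp [ax_self]
        · rw [Pi.smul_apply, ax_ne hm, smul_zero]
          exact notMem_supp.1 (by rw [hl]; simpa using hm)
      have hl0 : x γ δ l ≠ 0 := mem_supp.1 (by rw [hl]; simp)
      refine hnm' (E.mono_of_short (H.inv_mem hg) (i := l) (A := {i, j})
        (by have := Finset.card_le_two (a := i) (b := j); omega) (supp_subset fun m hm => ?_))
      simp only [Finset.mem_insert, Finset.mem_singleton, not_or] at hm
      have h' := congrFun hpre m
      rw [hxl, map_smul] at h'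
      simp [ax_ne hm.1, ax_ne hm.2, hl0] at h'
      exact h'
  -- short combinations: a set meeting each of their supports twice
  have hzero : ∀ {γ δ γ' δ' : F}, γ * δ' - δ * γ' ≠ 0 →
      Disjoint (supp (x γ δ))ᶜ (supp (x γ' δ'))ᶜ := fun {γ δ γ' δ'} hD => by
    rw [Finset.disjoint_left]
    intro l h1 h1'
    refine hD (E.zero_dep hg hnm hij (l := l) ?_ ?_)
    · rw [← hx]; exact notMem_supp.1 (Finset.mem_compl.1 h1)
    · rw [← hx]; exact notMem_supp.1 (Finset.mem_compl.1 h1')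
  obtain ⟨R, hRc, hR⟩ : ∃ R : Finset (Fin n), R.card ≤ 4 ∧ ∀ γ δ : F, γ ≠ 0 ∨ δ ≠ 0 →
      (supp (x γ δ)).card ≤ 6 → 2 ≤ (R ∩ supp (x γ δ)).card := by
    by_cases hex : ∃ γ δ : F, (γ ≠ 0 ∨ δ ≠ 0) ∧ (supp (x γ δ)).card ≤ 6
    swap
    · exact ⟨∅, by simp, fun γ δ h h' => absurd ⟨γ, δ, h, h'⟩ hex⟩
    obtain ⟨γ₁, δ₁, hne₁, hc₁⟩ := hex
    obtain ⟨R₁, hR₁, hR₁c⟩ := Finset.exists_subset_card_eq (show 2 ≤ (supp (x γ₁ δ₁)).card from htwo _ _ hne₁)
    have hdep₁ : ∀ γ δ : F, γ ≠ 0 ∨ δ ≠ 0 → γ₁ * δ - δ₁ * γ = 0 → supp (x γ δ) = supp (x γ₁ δ₁) :=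
      fun γ δ hne hd => by rw [hx, hx]; exact supp_eq_of_dep hd hne₁ hne
    by_cases hex2 : ∃ γ δ : F, (γ ≠ 0 ∨ δ ≠ 0) ∧ (supp (x γ δ)).card ≤ 6 ∧ γ₁ * δ - δ₁ * γ ≠ 0
    swap
    · refine ⟨R₁, by omega, fun γ δ hne hc => ?_⟩
      rw [hdep₁ γ δ hne (by_contra fun h => hex2 ⟨γ, δ, hne, hc, h⟩), Finset.inter_eq_left.2 hR₁, hR₁c]
    obtain ⟨γ₂, δ₂, hne₂, hc₂, h12⟩ := hex2
    obtain ⟨R₂, hR₂, hR₂c⟩ := Finset.exists_subset_card_eq (show 2 ≤ (supp (x γ₂ δ₂)).card from htwo _ _ hne₂)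
    refine ⟨R₁ ∪ R₂, (Finset.card_union_le _ _).trans (by omega), fun γ δ hne hc => ?_⟩
    by_cases h1 : γ₁ * δ - δ₁ * γ = 0
    · rw [hdep₁ γ δ hne h1, ← hR₁c]
      exact Finset.card_le_card fun l hl => Finset.mem_inter.2 ⟨Finset.mem_union_left _ hl, hR₁ hl⟩
    by_cases h2' : γ₂ * δ - δ₂ * γ = 0
    · rw [hx γ δ, supp_eq_of_dep h2' hne₂ hne, ← hx, ← hR₂c]
      exact Finset.card_le_card fun l hl => Finset.mem_inter.2 ⟨Finset.mem_union_right _ hl, hR₂ hl⟩
    exfalso
    have hle : ((supp (x γ₁ δ₁))ᶜ ∪ (supp (x γ₂ δ₂))ᶜ ∪ (supp (x γ δ))ᶜ).card ≤ n :=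
      (Finset.card_le_univ _).trans (le_of_eq (Fintype.card_fin n))
    rw [Finset.card_union_of_disjoint (Finset.disjoint_union_left.2 ⟨hzero h1, hzero h2'⟩),
      Finset.card_union_of_disjoint (hzero h12), Finset.card_compl, Finset.card_compl, Finset.card_compl,
      Fintype.card_fin] at hle
    omega
  obtain ⟨W, hW, hWc⟩ := Finset.exists_subset_card_eq (show 6 ≤ Rᶜ.card by
    rw [Finset.card_compl, Fintype.card_fin]; omega)
  -- the very short combinations meet six free coordinates in at most two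
  obtain ⟨T, hTW, hTc, hT⟩ : ∃ T, T ⊆ W ∧ T.card = 2 ∧ ∀ γ δ : F, γ ≠ 0 ∨ δ ≠ 0 → (supp (x γ δ)).card ≤ 4 →
      W ∩ supp (x γ δ) ⊆ T := by
    by_cases hex : ∃ γ δ : F, (γ ≠ 0 ∨ δ ≠ 0) ∧ (supp (x γ δ)).card ≤ 4
    swap
    · obtain ⟨T, hT, hTc⟩ := Finset.exists_subset_card_eq (show 2 ≤ W.card by omega)
      exact ⟨T, hT, hTc, fun γ δ h h' => absurd ⟨γ, δ, h, h'⟩ hex⟩
    obtain ⟨γ₁, δ₁, hne₁, hc₁⟩ := hex
    have hWs : (W ∩ supp (x γ₁ δ₁)).card ≤ 2 := by
      have h1 := hR γ₁ δ₁ hne₁ (by omega)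
      have h3 := Finset.card_union_of_disjoint (s := W ∩ supp (x γ₁ δ₁)) (t := R ∩ supp (x γ₁ δ₁))
        (Finset.disjoint_left.2 fun l hl hl' =>
          Finset.mem_compl.1 (hW (Finset.mem_inter.1 hl).1) (Finset.mem_inter.1 hl').1)
      have h4 := Finset.card_le_card (show W ∩ supp (x γ₁ δ₁) ∪ R ∩ supp (x γ₁ δ₁) ⊆ supp (x γ₁ δ₁) from
        Finset.union_subset Finset.inter_subset_right Finset.inter_subset_right)
      omega
    obtain ⟨T, hsT, hT, hTc⟩ := Finset.exists_subsuperset_card_eq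
      (Finset.inter_subset_left (s₁ := W) (s₂ := supp (x γ₁ δ₁))) hWs (by omega)
    refine ⟨T, hT, hTc, fun γ δ hne hc => ?_⟩
    by_cases hd : γ₁ * δ - δ₁ * γ = 0
    · rwa [hx γ δ, supp_eq_of_dep hd hne₁ hne, ← hx]
    exfalso
    have hle : ((supp (x γ₁ δ₁))ᶜ ∪ (supp (x γ δ))ᶜ).card ≤ n :=
      (Finset.card_le_univ _).trans (le_of_eq (Fintype.card_fin n))
    rw [Finset.card_union_of_disjoint (hzero hd), Finset.card_compl, Finset.card_compl, Fintype.card_fin] at hle
    omega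
  obtain ⟨t₀, t₁, ht01, hTeq⟩ := Finset.card_eq_two.1 hTc
  obtain ⟨r, hr, hrW⟩ : ∃ r : Fin 4 → Fin n, Function.Injective r ∧ ∀ k, r k ∈ W \ T := by
    have h4 : (W \ T).card = 4 := by rw [Finset.card_sdiff_of_subset hTW]; omega
    exact ⟨fun k => ((Finset.equivFinOfCardEq h4).symm k).1,
      fun a b e => (Finset.equivFinOfCardEq h4).symm.injective (Subtype.ext e),
      fun k => ((Finset.equivFinOfCardEq h4).symm k).2⟩
  obtain ⟨c, hcv⟩ : ∃ c : Fin 6 → Fin n, c = ![t₀, r 0, t₁, r 1, r 2, r 3] := ⟨_, rfl⟩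
  have hrT : ∀ k, r k ≠ t₀ ∧ r k ≠ t₁ := fun k => by
    have := (Finset.mem_sdiff.1 (hrW k)).2
    rw [hTeq] at this
    simpa using this
  have hc : Function.Injective c := by
    intro a b e
    rw [hcv] at e
    fin_cases a <;> fin_cases b <;>
      simp [ht01, Ne.symm ht01, (hrT _).1, (hrT _).2, Ne.symm (hrT _).1, Ne.symm (hrT _).2, hr.eq_iff] at e ⊢
  have hcW : ∀ k, c k ∈ W := fun k => by
    rw [hcv]
    fin_cases k <;>
      first
        | exact (Finset.mem_sdiff.1 (hrW _)).1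
        | exact hTW (hTeq.symm ▸ Finset.mem_insert_self _ _)
        | exact hTW (hTeq.symm ▸ Finset.mem_insert_of_mem (Finset.mem_singleton_self _))
  have hcb : ∀ k : Fin 6, k = 1 ∨ k = 3 ∨ k = 5 → c k ∉ T := fun k hk => by
    rw [hcv]
    rcases hk with rfl | rfl | rfl <;> exact (Finset.mem_sdiff.1 (hrW _)).2
  -- combinations supported on the chosen coordinates and one more vanish
  have hvanish : ∀ γ δ : F, ∀ l : Fin n, ∀ A : Finset (Fin n), A.card ≤ 5 → A ⊆ W →
      supp (x γ δ) ⊆ insert l A → γ = 0 ∧ δ = 0 := by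
    intro γ δ l A hA hAW hsub
    by_contra h
    have hne := not_and_or.1 h
    have h1 := hR γ δ hne ((Finset.card_le_card hsub).trans ((Finset.card_insert_le _ _).trans (by omega)))
    have h3 : R ∩ supp (x γ δ) ⊆ {l} := fun m hm => by
      obtain ⟨hmR, hm⟩ := Finset.mem_inter.1 hm
      rcases Finset.mem_insert.1 (hsub hm) with rfl | hmA
      · simp
      · exact absurd hmR (Finset.mem_compl.1 (hW (hAW hmA)))
    have := Finset.card_le_card h3
    rw [Finset.card_singleton] at this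
    omega
  have hodd : ∀ a b : Fin 6, a ≠ b → (b = 1 ∨ b = 3 ∨ b = 5) →
      ∃ f ∈ H, Mono f ∧ supp (f.1 (ax i)) ⊆ {c a, c b} ∧ supp (f.1 (ax j)) ⊆ {c a, c b} ∧
      ∀ t, Mem4 (c a) (c b) (g.1 (ax i)) (g.1 (ax j)) (g.1 (ax t) - f.1 (ax t)) := fun a b hab hb => by
    refine (E.pair_cases hg hnm hij (hc.ne hab)).resolve_left ?_
    rintro ⟨ε, hε, hcard, hroot⟩
    have e : g.1 (ax i + ε • ax j) = x 1 ε := by rw [hx, map_add, map_smul, one_smul]
    rw [e] at hcard hroot
    refine hcon ε hε (e ▸ hroot (notMem_supp.1 fun h => hcb b hb ?_))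
    exact hT 1 ε (Or.inl one_ne_zero) hcard (Finset.mem_inter.2 ⟨hcW b, h⟩)
  obtain ⟨f₁, hf₁, hf₁m, hf₁i, hf₁j, hf₁U⟩ := hodd 0 1 (by decide) (Or.inl rfl)
  obtain ⟨f₂, hf₂, hf₂m, hf₂i, hf₂j, hf₂U⟩ := hodd 2 3 (by decide) (Or.inr (Or.inl rfl))
  obtain ⟨f₃, hf₃, hf₃m, hf₃i, hf₃j, hf₃U⟩ := hodd 4 5 (by decide) (Or.inr (Or.inr rfl))
  obtain ⟨t, u, ht⟩ := (monoGroup F n).inv_mem (mem_monoGroup.2 hf₁m) (c 4)
  have ht' : f₁.1 (ax t) = u • ax (c 4) := by
    have := mono_inv_apply ht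
    rwa [inv_inv] at this
  have hu0 : u ≠ 0 := mono_coeff_ne ht'
  have hne : ∀ a b : Fin 6, a ≠ b → c a ≠ c b := fun a b h => hc.ne h
  have htij : t ≠ i ∧ t ≠ j := by
    constructor <;> rintro rfl
    · have := eq_zero_of_supp hf₁i (show c 4 ∉ ({c 0, c 1} : Finset (Fin n)) by simp [hc.eq_iff])
      rw [ht', Pi.smul_apply, ax_self, smul_eq_mul, mul_one] at this
      exact hu0 this
    · have := eq_zero_of_supp hf₁j (show c 4 ∉ ({c 0, c 1} : Finset (Fin n)) by simp [hc.eq_iff])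
      rw [ht', Pi.smul_apply, ax_self, smul_eq_mul, mul_one] at this
      exact hu0 this
  -- no monomial image of `t` lies in the target pair
  have himg : ∀ (f : qAut (sq F n)), Mono f → ∀ a b : Fin n, a ≠ b → supp (f.1 (ax i)) ⊆ {a, b} →
      supp (f.1 (ax j)) ⊆ {a, b} → ∀ (l : Fin n) (s : F), f.1 (ax t) = s • ax l → l ∉ ({a, b} : Finset (Fin n)) := by
    intro f hfm a b hab hi hj l s hl hlab
    obtain ⟨a₁, s₁, hs₁⟩ := hfm i
    obtain ⟨b₁, s₂, hs₂⟩ := hfm j
    have hs0 := mono_coeff_ne hl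
    have h1 : a₁ ∈ ({a, b} : Finset (Fin n)) := hi (mem_supp.2 (by
      rw [hs₁, Pi.smul_apply, ax_self, smul_eq_mul, mul_one]; exact mono_coeff_ne hs₁))
    have h3 : b₁ ∈ ({a, b} : Finset (Fin n)) := hj (mem_supp.2 (by
      rw [hs₂, Pi.smul_apply, ax_self, smul_eq_mul, mul_one]; exact mono_coeff_ne hs₂))
    have hne' : ∀ {m m' : Fin n} {x y : F} {p q : Fin n}, p ≠ q → f.1 (ax p) = x • ax m → f.1 (ax q) = y • ax m' →
        m ≠ m' := fun {m m' x y p q} hpq hx hy e => by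
      subst e
      have h := iso_dot h2 f (ax p) (ax q)
      rw [hx, hy, smul_dotProduct, dotProduct_smul, ax_dot, ax_dot, ax_self, ax_ne hpq, smul_eq_mul,
        smul_eq_mul, mul_one] at h
      exact mul_ne_zero (mono_coeff_ne hx) (mono_coeff_ne hy) h
    have d1 := hne' htij.1 hl hs₁
    have d2 := hne' htij.2 hl hs₂
    have d3 := hne' hij hs₁ hs₂
    simp only [Finset.mem_insert, Finset.mem_singleton] at h1 h3 hlab
    rcases h1 with rfl | rfl <;> rcases h3 with rfl | rfl <;> rcases hlab with rfl | rfl <;>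
      first | exact d1 rfl | exact d2 rfl | exact d3 rfl
  -- comparing two expansions of the image of `t`
  have hdiff : ∀ (f : qAut (sq F n)) (l' : Fin n) (s' : F), f.1 (ax t) = s' • ax l' → ∀ (f' : qAut (sq F n))
      (l : Fin n) (s : F), f'.1 (ax t) = s • ax l → ∀ a b a' b' : Fin n,
      Mem4 a b (g.1 (ax i)) (g.1 (ax j)) (g.1 (ax t) - f'.1 (ax t)) →
      Mem4 a' b' (g.1 (ax i)) (g.1 (ax j)) (g.1 (ax t) - f.1 (ax t)) →
      l' ≠ l → l' ≠ a → l' ≠ b → l' ≠ a' → l' ≠ b' → l ∈ W → a ∈ W → b ∈ W → a' ∈ W → b' ∈ W → False := by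
    intro f l' s' hl' f' l s hl a b a' b' ⟨α, β, γ, δ, e⟩ ⟨α', β', γ', δ', e'⟩ n0 n1 n2 n3 n4 hlW haW hbW ha'W hb'W
    rw [hl] at e
    rw [hl'] at e'
    have hX : x (γ - γ') (δ - δ') =
        s' • ax l' - s • ax l + α' • ax a' + β' • ax b' - α • ax a - β • ax b := by
      rw [hx]
      linear_combination (norm := module) e' - e
    obtain ⟨h0, h0'⟩ := hvanish (γ - γ') (δ - δ') l' {l, a, b, a', b'} Finset.card_le_five
      (by simp [Finset.insert_subset_iff, hlW, haW, hbW, ha'W, hb'W]) (supp_subset fun m hm => by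
        simp only [Finset.mem_insert, Finset.mem_singleton, not_or] at hm
        obtain ⟨m1, m2, m3, m4, m5, m6⟩ := hm
        rw [hX]
        simp [ax_ne m1, ax_ne m2, ax_ne m3, ax_ne m4, ax_ne m5, ax_ne m6])
    have h := congrFun hX l'
    rw [h0, h0', hx] at h
    simp [ax_self, ax_ne n0, ax_ne n1, ax_ne n2, ax_ne n3, ax_ne n4] at h
    exact mono_coeff_ne hl' h.symm
  obtain ⟨l₂, s₂, hl₂⟩ := hf₂m t
  obtain ⟨l₃, s₃, hl₃⟩ := hf₃m t
  have hl₂o := himg f₂ hf₂m _ _ (hne 2 3 (by decide)) hf₂i hf₂j l₂ s₂ hl₂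
  have hl₃o := himg f₃ hf₃m _ _ (hne 4 5 (by decide)) hf₃i hf₃j l₃ s₃ hl₃
  simp only [Finset.mem_insert, Finset.mem_singleton, not_or] at hl₂o hl₃o
  -- the third expansion sends `t` into the first pair
  have h13 : l₃ = c 0 ∨ l₃ = c 1 := by
    by_contra h
    push Not at h
    exact hdiff f₃ l₃ s₃ hl₃ f₁ (c 4) u ht' _ _ _ _ (hf₁U t) (hf₃U t) hl₃o.1 h.1 h.2 hl₃o.1 hl₃o.2
      (hcW 4) (hcW 0) (hcW 1) (hcW 4) (hcW 5)
  by_cases h24 : l₂ = c 4
  · -- the third expansion also sends `t` into the second pair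
    subst h24
    have h23 : l₃ = c 2 ∨ l₃ = c 3 := by
      by_contra h
      push Not at h
      exact hdiff f₃ l₃ s₃ hl₃ f₂ (c 4) s₂ hl₂ _ _ _ _ (hf₂U t) (hf₃U t) hl₃o.1 h.1 h.2 hl₃o.1 hl₃o.2
        (hcW 4) (hcW 2) (hcW 3) (hcW 4) (hcW 5)
    rcases h13 with rfl | rfl <;> rcases h23 with h | h <;> exact absurd (hc h) (by decide)
  -- otherwise the second expansion puts `t` into the first pair, where it cannot cancel
  obtain ⟨α, β, γ, δ, e⟩ := hf₁U t
  obtain ⟨α', β', γ', δ', e'⟩ := hf₂U t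
  rw [ht'] at e
  rw [hl₂] at e'
  have hX : x (γ - γ') (δ - δ') =
      s₂ • ax l₂ - u • ax (c 4) + α' • ax (c 2) + β' • ax (c 3) - α • ax (c 0) - β • ax (c 1) := by
    rw [hx]
    linear_combination (norm := module) e' - e
  obtain ⟨h0, h0'⟩ := hvanish (γ - γ') (δ - δ') l₂ {c 4, c 2, c 3, c 0, c 1} Finset.card_le_five
    (by simp [Finset.insert_subset_iff, hcW]) (supp_subset fun m hm => by
      simp only [Finset.mem_insert, Finset.mem_singleton, not_or] at hm
      obtain ⟨m1, m2, m3, m4, m5, m6⟩ := hm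
      rw [hX]
      simp [ax_ne m1, ax_ne m2, ax_ne m3, ax_ne m4, ax_ne m5, ax_ne m6])
  have h4 := congrFun hX (c 4)
  rw [h0, h0', hx] at h4
  simp [ax_self, ax_ne (Ne.symm h24), ax_ne (hne 4 2 (by decide)), ax_ne (hne 4 3 (by decide)),
    ax_ne (hne 4 0 (by decide)), ax_ne (hne 4 1 (by decide))] at h4
  exact hu0 h4

end CfsgLib.Classical22.Frame
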