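/-
In even dimension an overgroup of the even monomial isometries with monomial axis stabilisers is monomial.
-/
import Cfsg.Agent.Lib.Classical22.Frame.EvenPair

set_option autoImplicit false

namespace CfsgLib.Classical22.Frame

open Cfsg CfsgLib.Classical
open scoped Matrix _root_.Classical

variable {F : Type*} [Field F] [Fintype F] {n : ℕ} {H : Subgroup (qAut (sq F n))}

omit [Fintype F] in
/-- The support of a root vector. -/
theorem IsRoot.supp_eq {y : Fin n → F} (h : IsRoot y) :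
    ∃ p q, p ≠ q ∧ supp y = {p, q} ∧ y p * y p = 1 ∧ y q * y q = 1 := by
  obtain ⟨p, q, σ, τ, hpq, hσ, hτ, rfl⟩ := h
  have hp : (σ • ax p + τ • ax q : Fin n → F) p = σ := by simp [ax_self, ax_ne hpq]
  have hq : (σ • ax p + τ • ax q : Fin n → F) q = τ := by simp [ax_self, ax_ne (Ne.symm hpq)]
  refine ⟨p, q, hpq, Finset.Subset.antisymm (supp_subset fun i hi => ?_) ?_, by rw [hp, hσ], by rw [hq, hτ]⟩
  · simp only [Finset.mem_insert, Finset.mem_singleton, not_or] at hi
    simp [ax_ne hi.1, ax_ne hi.2]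
  · have h1 : σ ≠ 0 := fun e => by simp [e] at hσ
    have h3 : τ ≠ 0 := fun e => by simp [e] at hτ
    intro i hi
    rw [mem_supp]
    rcases Finset.mem_insert.1 hi with rfl | hi
    · rwa [hp]
    · rw [Finset.mem_singleton.1 hi, hq]; exact h3

omit [Fintype F] in
theorem IsRoot.card_supp {y : Fin n → F} (h : IsRoot y) : (supp y).card = 2 := by
  obtain ⟨p, q, hpq, hs, -, -⟩ := h.supp_eq
  rw [hs, Finset.card_pair hpq]

omit [Fintype F] in
theorem IsRoot.sq_one {y : Fin n → F} (h : IsRoot y) {i : Fin n} (hi : i ∈ supp y) : y i * y i = 1 := by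
  obtain ⟨p, q, -, hs, hp, hq⟩ := h.supp_eq
  rw [hs, Finset.mem_insert, Finset.mem_singleton] at hi
  rcases hi with rfl | rfl
  · exact hp
  · exact hq

omit [Fintype F] in
/-- Pairwise meeting two-sets form a star or are at most three. -/
theorem exists_centre {ι : Type*} [Fintype ι] {α : Type*} [DecidableEq α] (s : ι → Finset α) (h4 : 4 ≤ Fintype.card ι)
    (h2 : ∀ i, (s i).card = 2) (hinj : Function.Injective s) (hmeet : ∀ i j, i ≠ j → (s i ∩ s j).Nonempty) :
    ∃ c, ∀ i, c ∈ s i := by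
  by_contra hc
  push Not at hc
  obtain ⟨i, k, hik⟩ := Fintype.exists_pair_of_one_lt_card (show 1 < Fintype.card ι by omega)
  obtain ⟨c, hci⟩ := hmeet i k hik
  rw [Finset.mem_inter] at hci
  obtain ⟨j, hj⟩ := hc c
  have hji : j ≠ i := fun e => hj (e ▸ hci.1)
  have hjk : j ≠ k := fun e => hj (e ▸ hci.2)
  obtain ⟨d, hd⟩ := hmeet i j (Ne.symm hji)
  obtain ⟨x, hx⟩ := hmeet k j (Ne.symm hjk)
  rw [Finset.mem_inter] at hd hx
  have hcd : c ≠ d := fun e => hj (e ▸ hd.2)
  have hcx : c ≠ x := fun e => hj (e ▸ hx.2)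
  have ei : ({c, d} : Finset α) = s i := Finset.eq_of_subset_of_card_le
    (by simp [Finset.insert_subset_iff, hci.1, hd.1]) (by rw [h2, Finset.card_pair hcd])
  have ek : ({c, x} : Finset α) = s k := Finset.eq_of_subset_of_card_le
    (by simp [Finset.insert_subset_iff, hci.2, hx.1]) (by rw [h2, Finset.card_pair hcx])
  have hdx : d ≠ x := fun e => hik (hinj (by rw [← ei, ← ek, e]))
  have ej : ({d, x} : Finset α) = s j := Finset.eq_of_subset_of_card_le
    (by simp [Finset.insert_subset_iff, hd.2, hx.2]) (by rw [h2, Finset.card_pair hdx])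
  obtain ⟨m, -, hm⟩ := Finset.exists_mem_notMem_of_card_lt_card (s := ({i, k, j} : Finset ι)) (t := Finset.univ) (by
    rw [Finset.card_univ]
    have : ({i, k, j} : Finset ι).card ≤ 3 := Finset.card_le_three
    omega)
  simp only [Finset.mem_insert, Finset.mem_singleton, not_or] at hm
  obtain ⟨m1, m2, m3⟩ := hm
  have pick : ∀ {a b : α} {l : ι}, a ≠ b → ({a, b} : Finset α) = s l → a ∈ s m → b ∈ s m → m = l :=
    fun {a b l} hab hl ha hb => hinj (hl ▸ (Finset.eq_of_subset_of_card_le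
      (by simp [Finset.insert_subset_iff, ha, hb]) (by rw [h2, Finset.card_pair hab])).symm)
  obtain ⟨p, hp⟩ := hmeet m i m1
  obtain ⟨q, hq⟩ := hmeet m k m2
  obtain ⟨r, hr⟩ := hmeet m j m3
  rw [Finset.mem_inter] at hp hq hr
  rw [← ei, Finset.mem_insert, Finset.mem_singleton] at hp
  rw [← ek, Finset.mem_insert, Finset.mem_singleton] at hq
  rw [← ej, Finset.mem_insert, Finset.mem_singleton] at hr
  rcases hp.2 with rfl | rfl
  · rcases hr.2 with rfl | rfl
    · exact m1 (pick hcd ei hp.1 hr.1)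
    · exact m2 (pick hcx ek hp.1 hr.1)
  · rcases hq.2 with rfl | rfl
    · exact m1 (pick hcd ei hq.1 hp.1)
    · exact m3 (pick hdx ej hp.1 hq.1)

/-- A non-monomial element is a reflection times a monomial one, and so are conjugates of axis pairs. -/
theorem EvenCtx.exists_reflect (E : EvenCtx H) {g : qAut (sq F n)} (hg : g ∈ H) (hnm : ¬ Mono g) :
    ∃ (μ : Fin n → F) (hμ : sq F n μ ≠ 0), (∀ l, μ l * μ l = 1) ∧ ∀ c d, c ≠ d →
      qRefl (sq F n) hμ * (qRefl (sq F n) (sq_ax_ne c) * qRefl (sq F n) (sq_ax_ne d)) * qRefl (sq F n) hμ ∈ H := by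
  have h2 := E.base.two
  obtain ⟨i₀, -⟩ := E.exists_other ∅ (by simp) E.dim
  choose ε hε hroot using fun j : {j : Fin n // j ≠ i₀} => E.root_pair hg hnm (Ne.symm j.2)
  obtain ⟨y, hy⟩ : ∃ y : {j : Fin n // j ≠ i₀} → Fin n → F, ∀ j, y j = g.1 (ax i₀ + ε j • ax j.1) :=
    ⟨_, fun j => rfl⟩
  simp only [← hy] at hroot
  have hdot : ∀ j k, j ≠ k → y j ⬝ᵥ y k = 1 := fun j k hjk => by
    have e : j.1 ≠ k.1 := fun e => hjk (Subtype.ext e)
    rw [hy, hy, iso_dot h2]
    simp only [add_dotProduct, dotProduct_add, smul_dotProduct, dotProduct_smul, ax_dot, ax_self, ax_ne j.2,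
      ax_ne (Ne.symm k.2), ax_ne e, smul_eq_mul]
    ring
  have hdot0 : ∀ j, y j ⬝ᵥ g.1 (ax i₀) = 1 := fun j => by
    rw [hy, iso_dot h2, add_dotProduct, smul_dotProduct, ax_dot, ax_dot, ax_self, ax_ne j.2, smul_zero, add_zero]
  have hmeet : ∀ j k, j ≠ k → (supp (y j) ∩ supp (y k)).Nonempty := fun j k hjk => by
    by_contra hne
    rw [Finset.not_nonempty_iff_eq_empty] at hne
    have h := hdot j k hjk
    rw [dot_eq_zero_of_disjoint fun l => ?_] at h
    · exact zero_ne_one h
    · by_contra hl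
      push Not at hl
      have : l ∈ supp (y j) ∩ supp (y k) := Finset.mem_inter.2 ⟨mem_supp.2 hl.1, mem_supp.2 hl.2⟩
      rw [hne] at this
      simp at this
  have hinj : Function.Injective fun j => supp (y j) := fun j k e => by
    by_contra hjk
    obtain ⟨p, q, hpq, hs, hp, hq⟩ := (hroot j).supp_eq
    have hs' : supp (y k) = {p, q} := (show supp (y j) = supp (y k) from e) ▸ hs
    have hp' := (hroot k).sq_one (hs' ▸ Finset.mem_insert_self _ _)
    have hq' := (hroot k).sq_one (hs' ▸ Finset.mem_insert_of_mem (Finset.mem_singleton_self _))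
    have h := hdot j k hjk
    rw [dot_eq_sum hs.le, Finset.sum_pair hpq] at h
    have hcase : ∀ {a b : F}, a * a = 1 → b * b = 1 → b = a ∨ b = -a := fun ha hb =>
      mul_self_eq_mul_self_iff.1 (hb.trans ha.symm)
    rcases hcase hp hp' with e1 | e1 <;> rcases hcase hq hq' with e2 | e2 <;> rw [e1, e2] at h
    · exact one_ne_zero (α := F) (by linear_combination h - hp - hq)
    · exact one_ne_zero (α := F) (by linear_combination -h + hp - hq)
    · exact one_ne_zero (α := F) (by linear_combination -h - hp + hq)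
    · have heq : y k = -y j := funext fun l => by
        by_cases hlp : l = p
        · subst hlp; rw [Pi.neg_apply, e1]
        by_cases hlq : l = q
        · subst hlq; rw [Pi.neg_apply, e2]
        rw [Pi.neg_apply, eq_zero_of_supp hs.le (by simp [hlp, hlq]), eq_zero_of_supp hs'.le (by simp [hlp, hlq]),
          neg_zero]
      rw [hy, hy, ← map_neg] at heq
      have h' := congrFun (g.1.injective heq) i₀
      simp only [Pi.add_apply, Pi.smul_apply, Pi.neg_apply, ax_self, ax_ne (Ne.symm j.2), ax_ne (Ne.symm k.2),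
        smul_zero, add_zero] at h'
      exact h2 (by linear_combination h')
  have hcard : Fintype.card {j : Fin n // j ≠ i₀} = n - 1 := by simp
  obtain ⟨c, hc⟩ := exists_centre (fun j => supp (y j)) (by rw [hcard]; have := E.dim; omega)
    (fun j => (hroot j).card_supp) hinj hmeet
  have hψex : ∀ j, ∃ m, m ≠ c ∧ supp (y j) = {c, m} := fun j => by
    obtain ⟨m, hm, hmc⟩ := Finset.exists_mem_ne (show 1 < (supp (y j)).card by rw [(hroot j).card_supp]; norm_num) c
    exact ⟨m, hmc, (Finset.eq_of_subset_of_card_le (by simp [Finset.insert_subset_iff, hc j, hm])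
      (by rw [(hroot j).card_supp, Finset.card_pair (Ne.symm hmc)])).symm⟩
  choose ψ hψc hψ using hψex
  have hψinj : Function.Injective ψ := fun j k e => hinj (by
    change supp (y j) = supp (y k)
    rw [hψ, hψ, e])
  obtain ⟨j₁, j₂, hj12⟩ := Fintype.exists_pair_of_one_lt_card (show 1 < Fintype.card {j : Fin n // j ≠ i₀} by
    rw [hcard]; have := E.dim; omega)
  obtain ⟨σ, hσ⟩ : ∃ σ, σ = y j₁ c := ⟨_, rfl⟩
  have hσσ : σ * σ = 1 := hσ ▸ (hroot j₁).sq_one (hc j₁)
  have hyc : ∀ j, y j c = σ := fun j => by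
    by_cases hj : j = j₁
    · rw [hj, hσ]
    have h := hdot j j₁ hj
    rw [dot_eq_sum (hψ j).le, Finset.sum_pair (Ne.symm (hψc j)), ← hσ,
      eq_zero_of_supp (hψ j₁).le (show ψ j ∉ ({c, ψ j₁} : Finset (Fin n)) by
        simp [hψc j, hψinj.ne hj]), mul_zero, add_zero] at h
    calc y j c = y j c * σ * σ := by rw [mul_assoc, hσσ, mul_one]
      _ = σ := by rw [h, one_mul]
  have hyψ : ∀ j, y j (ψ j) * y j (ψ j) = 1 := fun j => (hroot j).sq_one (by rw [hψ]; simp)
  have hyeq : ∀ j, y j = σ • ax c + y j (ψ j) • ax (ψ j) := fun j => funext fun l => by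
    by_cases hlc : l = c
    · subst hlc; simp [ax_self, ax_ne (Ne.symm (hψc j)), hyc]
    by_cases hlψ : l = ψ j
    · subst hlψ; simp [ax_self, ax_ne hlc]
    simp [ax_ne hlc, ax_ne hlψ, eq_zero_of_supp (hψ j).le (show l ∉ ({c, ψ j} : Finset (Fin n)) by simp [hlc, hlψ])]
  have hsurj : ∀ l, l ≠ c → ∃ j, ψ j = l := fun l hl => by
    have himg : Finset.univ.image ψ = Finset.univ.erase c := Finset.eq_of_subset_of_card_le
      (fun m hm => by
        obtain ⟨j, -, rfl⟩ := Finset.mem_image.1 hm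
        simp [hψc j])
      (by rw [Finset.card_image_of_injective _ hψinj, Finset.card_univ, hcard,
        Finset.card_erase_of_mem (Finset.mem_univ c), Finset.card_univ, Fintype.card_fin])
    obtain ⟨j, -, hj⟩ := Finset.mem_image.1 (himg.symm ▸ Finset.mem_erase.2 ⟨hl, Finset.mem_univ l⟩)
    exact ⟨j, hj⟩
  have hμex : ∀ l, ∃ m : F, (l = c → m = σ) ∧ ∀ j, ψ j = l → m = -y j l := fun l => by
    by_cases hl : l = c
    · exact ⟨σ, fun _ => rfl, fun j hj => absurd (hj.trans hl) (hψc j)⟩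
    · obtain ⟨j, rfl⟩ := hsurj l hl
      exact ⟨_, fun h => absurd h hl, fun k hk => by rw [hψinj hk]⟩
  choose μ hμc hμψ using hμex
  have hμc' : μ c = σ := hμc c rfl
  have hμj : ∀ j, μ (ψ j) = -y j (ψ j) := fun j => hμψ _ j rfl
  have hμ1 : ∀ l, μ l * μ l = 1 := fun l => by
    by_cases hl : l = c
    · subst hl; rw [hμc', hσσ]
    · obtain ⟨j, rfl⟩ := hsurj l hl
      rw [hμj, neg_mul_neg, hyψ]
  have hμn : μ ⬝ᵥ μ = (n : F) := by
    rw [dotProduct, Finset.sum_congr rfl fun l _ => hμ1 l, Finset.sum_const, nsmul_one, Finset.card_univ,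
      Fintype.card_fin]
  -- the image of the common axis
  obtain ⟨v, hv⟩ : ∃ v, v = g.1 (ax i₀) := ⟨_, rfl⟩
  obtain ⟨k, hk⟩ : ∃ k, k = σ * (v c - σ) := ⟨_, rfl⟩
  have hvc : v c = σ + k * σ := by rw [hk]; linear_combination (-(v c - σ)) * hσσ
  have hvψ : ∀ j, v (ψ j) = k * μ (ψ j) := fun j => by
    have h := hdot0 j
    rw [← hv, hyeq j, add_dotProduct, smul_dotProduct, smul_dotProduct, ax_dot, ax_dot, smul_eq_mul, smul_eq_mul,
      hvc] at h
    rw [hμj]
    linear_combination (y j (ψ j)) * h - (v (ψ j)) * hyψ j - (y j (ψ j) * (1 + k)) * hσσ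
  have hv' : v = σ • ax c + k • μ := funext fun l => by
    by_cases hl : l = c
    · subst hl; simp [ax_self, hvc, hμc']
    · obtain ⟨j, rfl⟩ := hsurj l hl
      simp [ax_ne hl, hvψ]
  have hcμ : ax c ⬝ᵥ μ = σ := by rw [ax_dot, hμc']
  have hvv : v ⬝ᵥ v = 1 := by rw [hv, col_unit h2]
  rw [hv'] at hvv
  simp only [add_dotProduct, dotProduct_add, smul_dotProduct, dotProduct_smul, ax_dot, ax_self, dotProduct_comm μ,
    hcμ, hμc', hμn, smul_eq_mul] at hvv
  have hk0 : k ≠ 0 := fun e => hnm (E.mono_of_col hg (i := i₀) (j := c) (s := σ) (by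
    rw [← hv, hv', e, zero_smul, add_zero]))
  have hkN : 2 + k * (n : F) = 0 :=
    (mul_eq_zero.1 (show k * (2 + k * (n : F)) = 0 by linear_combination hvv - (1 + 2 * k) * hσσ)).resolve_left hk0
  have hN : (n : F) ≠ 0 := fun e => h2 (by rw [e, mul_zero, add_zero] at hkN; exact hkN)
  have hμ0 : sq F n μ ≠ 0 := by rwa [sq_apply, hμn]
  refine ⟨μ, hμ0, hμ1, ?_⟩
  -- the monomial part
  obtain ⟨π, hπ⟩ : ∃ π, π = qRefl (sq F n) hμ0 * g := ⟨_, rfl⟩
  have hπm : Mono π := fun l => by
    by_cases hl : l = i₀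
    · subst hl
      refine ⟨c, σ, ?_⟩
      rw [hπ, qAut_mul_apply, ← hv, hv', refl_apply h2, hμn, add_dotProduct, smul_dotProduct, smul_dotProduct, hμn,
        hcμ, smul_eq_mul, smul_eq_mul, hσσ]
      match_scalars
      · ring
      · field_simp
        linear_combination -hkN
    · obtain ⟨j, hj⟩ : ∃ j : {j : Fin n // j ≠ i₀}, j.1 = l := ⟨⟨l, hl⟩, rfl⟩
      subst hj
      refine ⟨ψ j, ε j * y j (ψ j), ?_⟩
      have e : g.1 (ax j.1) = ε j • (y j - v) := by
        rw [hy, hv, map_add, map_smul, add_sub_cancel_left, smul_smul, hε, one_smul]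
      have hτμ : ax (ψ j) ⬝ᵥ μ = -y j (ψ j) := by rw [ax_dot, hμj]
      obtain ⟨τ, hτ⟩ : ∃ τ, τ = y j (ψ j) := ⟨_, rfl⟩
      rw [← hτ] at hτμ ⊢
      have hττ : τ * τ = 1 := hτ ▸ hyψ j
      rw [hπ, qAut_mul_apply, e, hyeq j, ← hτ, hv', map_smul, refl_apply h2, hμn]
      simp only [sub_dotProduct, add_dotProduct, smul_dotProduct, hμn, hcμ, hτμ, smul_eq_mul]
      match_scalars
      · ring
      · ring
      · field_simp
        linear_combination (ε j) * hkN + 2 * (ε j) * hττ
  intro c' d' hcd'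
  choose back s hback using (monoGroup F n).inv_mem (mem_monoGroup.2 hπm)
  have hπe : ∀ l, π.1 (ax (back l)) = s l • ax l := fun l => by
    have := mono_inv_apply (hback l)
    rwa [inv_inv] at this
  have hij : back c' ≠ back d' := fun e => by
    have h1 := hπe c'
    rw [e, hπe d'] at h1
    have h' := congrFun h1 d'
    simp only [Pi.smul_apply, ax_self, ax_ne (Ne.symm hcd'), smul_zero, smul_eq_mul, mul_one] at h'
    exact mono_coeff_ne (hπe d') (h'.trans (mul_zero _))
  have hconj : ∀ l, π * qRefl (sq F n) (sq_ax_ne (back l)) * π⁻¹ = qRefl (sq F n) (sq_ax_ne l) := fun l => by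
    have h0 : sq F n (π.1 (ax (back l))) ≠ 0 := by rw [qAut_map]; exact sq_ax_ne _
    rw [qRefl_conj (sq F n) π (sq_ax_ne (back l)) h0]
    have h1 : sq F n (s l • ax l) ≠ 0 := hπe l ▸ h0
    rw [← qRefl_smul (sq F n) (sq_ax_ne l) h1]
    congr 1
    exact hπe l
  have hmem := H.mul_mem (H.mul_mem hg (E.pair_mem hij)) (H.inv_mem hg)
  have hgπ : g = qRefl (sq F n) hμ0 * π := by rw [hπ, ← mul_assoc, qRefl_mul_self, one_mul]
  have e : g * (qRefl (sq F n) (sq_ax_ne (back c')) * qRefl (sq F n) (sq_ax_ne (back d'))) * g⁻¹ =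
      qRefl (sq F n) hμ0 * (qRefl (sq F n) (sq_ax_ne c') * qRefl (sq F n) (sq_ax_ne d')) * qRefl (sq F n) hμ0 := by
    rw [← hconj c', ← hconj d', hgπ, mul_inv_rev, qRefl_inv]
    group
  rwa [e] at hmem

/-- An overgroup with monomial axis stabilisers is monomial. -/
theorem EvenCtx.all_mono (E : EvenCtx H) : ∀ g ∈ H, Mono g := by
  intro g hg
  by_contra hnm
  have h2 := E.base.two
  obtain ⟨μ, hμ0, hμ1, hmem⟩ := E.exists_reflect hg hnm
  have hμN : μ ⬝ᵥ μ = (n : F) := by
    rw [dotProduct, Finset.sum_congr rfl fun l _ => hμ1 l, Finset.sum_const, nsmul_one, Finset.card_univ,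
      Fintype.card_fin]
  have hN : (n : F) ≠ 0 := by rwa [← hμN, ← sq_apply]
  have hμne : ∀ l, μ l ≠ 0 := fun l e => by simpa [e] using hμ1 l
  obtain ⟨e, he⟩ : ∃ e : Fin 5 → Fin n, Function.Injective e :=
    ⟨Fin.castLE (by have := E.dim; omega), Fin.castLE_injective _⟩
  have hne : ∀ a b : Fin 5, a ≠ b → e a ≠ e b := fun a b h => he.ne h
  have hcd := hne 0 1 (by decide)
  have hab := hne 2 3 (by decide)
  obtain ⟨D, hD⟩ : ∃ D, D = qRefl (sq F n) (sq_ax_ne (e 0)) * qRefl (sq F n) (sq_ax_ne (e 1)) := ⟨_, rfl⟩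
  obtain ⟨D', hD'⟩ : ∃ D', D' = qRefl (sq F n) (sq_ax_ne (e 2)) * qRefl (sq F n) (sq_ax_ne (e 3)) := ⟨_, rfl⟩
  obtain ⟨p, hp⟩ : ∃ p, p = D.1 μ := ⟨_, rfl⟩
  obtain ⟨p', hp'⟩ : ∃ p', p' = D'.1 μ := ⟨_, rfl⟩
  have hp0 : sq F n p ≠ 0 := by rwa [hp, qAut_map]
  have hp'0 : sq F n p' ≠ 0 := by rwa [hp', qAut_map]
  have hpv : p = μ - (2 * μ (e 0)) • ax (e 0) - (2 * μ (e 1)) • ax (e 1) := by rw [hp, hD, refl_pair_apply h2 hcd]
  have hp'v : p' = μ - (2 * μ (e 2)) • ax (e 2) - (2 * μ (e 3)) • ax (e 3) := by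
    rw [hp', hD', refl_pair_apply h2 hab]
  -- the product of the two flipped reflections lies in the group
  have hh : ∀ (D : qAut (sq F n)) (q : Fin n → F) (hq : sq F n q ≠ 0), D ∈ H →
      qRefl (sq F n) hμ0 * D * qRefl (sq F n) hμ0 ∈ H → q = D.1 μ → D⁻¹ = D →
      qRefl (sq F n) hμ0 * qRefl (sq F n) hq ∈ H := by
    intro D q hq hDH hconj hqD hDi
    subst hqD
    have h := H.mul_mem hconj hDH
    have e1 : qRefl (sq F n) hq = D * qRefl (sq F n) hμ0 * D := by
      conv_rhs => arg 2; rw [← hDi]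
      exact (qRefl_conj (sq F n) D hμ0 hq).symm
    rw [e1, ← mul_assoc, ← mul_assoc]
    exact h
  have hinv : ∀ {c d : Fin n}, c ≠ d → (qRefl (sq F n) (sq_ax_ne (F := F) c) * qRefl (sq F n) (sq_ax_ne d))⁻¹ =
      qRefl (sq F n) (sq_ax_ne c) * qRefl (sq F n) (sq_ax_ne d) := fun {c d} h => by
    refine inv_eq_of_mul_eq_one_right (qAut_ext fun x => ?_)
    rw [qAut_mul_apply, refl_pair_apply h2 h, refl_pair_apply h2 h]
    simp only [Pi.sub_apply, Pi.smul_apply, ax_self, ax_ne h, ax_ne (Ne.symm h), smul_eq_mul, mul_zero, mul_one,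
      sub_zero]
    change _ = x
    module
  have h1 := hh D p hp0 (hD ▸ E.pair_mem hcd) (hD ▸ hmem _ _ hcd) hp (by rw [hD, hinv hcd])
  have h1' := hh D' p' hp'0 (hD' ▸ E.pair_mem hab) (hD' ▸ hmem _ _ hab) hp' (by rw [hD', hinv hab])
  obtain ⟨u, hu⟩ : ∃ u, u = qRefl (sq F n) hp0 * qRefl (sq F n) hp'0 := ⟨_, rfl⟩
  have huH : u ∈ H := by
    have h := H.mul_mem (H.inv_mem h1) h1'
    rwa [mul_inv_rev, qRefl_inv, qRefl_inv, mul_assoc, ← mul_assoc (qRefl (sq F n) hμ0), qRefl_mul_self, one_mul,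
      ← hu] at h
  have hp0v : p (e 0) = -μ (e 0) ∧ p (e 4) = μ (e 4) ∧ p' (e 0) = μ (e 0) ∧ p' (e 4) = μ (e 4) := by
    rw [hpv, hp'v]
    refine ⟨?_, ?_, ?_, ?_⟩ <;>
      simp [ax_self, ax_ne (hne 0 1 (by decide)), ax_ne (hne 4 0 (by decide)), ax_ne (hne 4 1 (by decide)),
        ax_ne (hne 0 2 (by decide)), ax_ne (hne 0 3 (by decide)), ax_ne (hne 4 2 (by decide)),
        ax_ne (hne 4 3 (by decide))]
    ring
  obtain ⟨hpc, hpb, hp'c, hp'b⟩ := hp0v
  -- neither sign gives a short image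
  have key : ∀ κ : F, κ * κ = 1 → 3 ≤ (supp (u.1 (μ (e 0) • ax (e 0) + (κ * μ (e 4)) • ax (e 4)))).card := by
    intro κ hκ
    obtain ⟨f, hf⟩ : ∃ f : Fin n → F, f = μ (e 0) • ax (e 0) + (κ * μ (e 4)) • ax (e 4) := ⟨_, rfl⟩
    rw [← hf]
    have hfp : f ⬝ᵥ p = -1 + κ := by
      rw [hf, add_dotProduct, smul_dotProduct, smul_dotProduct, ax_dot, ax_dot, hpc, hpb, smul_eq_mul, smul_eq_mul]
      linear_combination κ * hμ1 (e 4) - hμ1 (e 0)
    have hfp' : f ⬝ᵥ p' = 1 + κ := by
      rw [hf, add_dotProduct, smul_dotProduct, smul_dotProduct, ax_dot, ax_dot, hp'c, hp'b, smul_eq_mul, smul_eq_mul]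
      linear_combination κ * hμ1 (e 4) + hμ1 (e 0)
    have hpp : p ⬝ᵥ p = (n : F) := by rw [hp, iso_dot h2, hμN]
    have hp'p' : p' ⬝ᵥ p' = (n : F) := by rw [hp', iso_dot h2, hμN]
    have hp'p : p' ⬝ᵥ p = (n : F) - 8 := by
      rw [hpv, hp'v]
      simp only [sub_dotProduct, dotProduct_sub, smul_dotProduct, dotProduct_smul, ax_dot, dot_ax, hμN,
        ax_ne (hne 2 0 (by decide)), ax_ne (hne 2 1 (by decide)), ax_ne (hne 3 0 (by decide)),
        ax_ne (hne 3 1 (by decide)), ax_ne (hne 0 2 (by decide)), ax_ne (hne 0 3 (by decide)),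
        ax_ne (hne 1 2 (by decide)), ax_ne (hne 1 3 (by decide)), smul_eq_mul]
      linear_combination (-2 : F) * hμ1 (e 0) - 2 * hμ1 (e 1) - 2 * hμ1 (e 2) - 2 * hμ1 (e 3)
    have hfo : ∀ l, l ≠ e 0 → l ≠ e 4 → f l = 0 := fun l l0 l4 => by rw [hf]; simp [ax_ne l0, ax_ne l4]
    have hcompl : ∀ A : Finset (Fin n), A.card ≤ 5 → (∀ l, l ∉ A → l ∈ supp (u.1 f)) →
        3 ≤ (supp (u.1 f)).card := fun A hA h => by
      refine le_trans ?_ (Finset.card_le_card (s := Aᶜ) fun l hl => h l (Finset.mem_compl.1 hl))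
      rw [Finset.card_compl, Fintype.card_fin]
      have := E.dim
      omega
    rcases mul_self_eq_one_iff.1 hκ with rfl | rfl
    · obtain ⟨m, hm⟩ : ∃ m : F, m = 2 * (0 - 2 * (1 + 1) / (n : F) * ((n : F) - 8)) / (n : F) := ⟨_, rfl⟩
      have huf : u.1 f = f - (2 * (1 + 1) / (n : F)) • p' - m • p := by
        rw [hu, qAut_mul_apply, refl_apply h2 hp'0, hfp', hp'p', refl_apply h2 hp0, hpp, sub_dotProduct, hfp,
          smul_dotProduct, hp'p, neg_add_cancel, smul_eq_mul, hm]
      by_cases h16 : (n : F) = 16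
      · have hm' : m * 4 = -1 := by
          rw [hm, h16]
          have h16' : (16 : F) ≠ 0 := h16 ▸ hN
          field_simp
          ring
        have hc : (2 * (1 + 1) / (n : F)) * 4 = 1 := by
          rw [h16]
          have h16' : (16 : F) ≠ 0 := h16 ▸ hN
          field_simp
          ring
        refine le_trans ?_ (Finset.card_le_card (s := {e 2, e 3, e 4}) fun l hl => ?_)
        · rw [Finset.card_insert_of_notMem (by simp [he.eq_iff]), Finset.card_pair (hne 3 4 (by decide))]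
        rw [mem_supp, huf]
        simp only [Finset.mem_insert, Finset.mem_singleton] at hl
        rcases hl with rfl | rfl | rfl
        · have a1 : p (e 2) = μ (e 2) := by
            rw [hpv]; simp [ax_ne (hne 2 0 (by decide)), ax_ne (hne 2 1 (by decide))]
          have a2 : p' (e 2) = -μ (e 2) := by
            rw [hp'v]; simp [ax_self, ax_ne (hne 2 3 (by decide))]; ring
          intro h
          simp only [Pi.sub_apply, Pi.smul_apply, smul_eq_mul, a1, a2,
            hfo _ (hne 2 0 (by decide)) (hne 2 4 (by decide))] at h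
          exact mul_ne_zero h2 (hμne (e 2)) (by linear_combination 4 * h + μ (e 2) * hm' - μ (e 2) * hc)
        · have a1 : p (e 3) = μ (e 3) := by
            rw [hpv]; simp [ax_ne (hne 3 0 (by decide)), ax_ne (hne 3 1 (by decide))]
          have a2 : p' (e 3) = -μ (e 3) := by
            rw [hp'v]; simp [ax_self, ax_ne (hne 3 2 (by decide))]; ring
          intro h
          simp only [Pi.sub_apply, Pi.smul_apply, smul_eq_mul, a1, a2,
            hfo _ (hne 3 0 (by decide)) (hne 3 4 (by decide))] at h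
          exact mul_ne_zero h2 (hμne (e 3)) (by linear_combination 4 * h + μ (e 3) * hm' - μ (e 3) * hc)
        · have a3 : f (e 4) = μ (e 4) := by rw [hf]; simp [ax_self, ax_ne (hne 4 0 (by decide))]
          intro h
          simp only [Pi.sub_apply, Pi.smul_apply, smul_eq_mul, hpb, hp'b, a3] at h
          exact mul_ne_zero (mul_ne_zero h2 h2) (hμne (e 4))
            (by linear_combination 4 * h + μ (e 4) * hm' + μ (e 4) * hc)
      refine hcompl {e 0, e 1, e 2, e 3, e 4} Finset.card_le_five fun l hl => ?_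
      simp only [Finset.mem_insert, Finset.mem_singleton, not_or] at hl
      obtain ⟨l0, l1, l2, l3, l4⟩ := hl
      have a1 : p l = μ l := by rw [hpv]; simp [ax_ne l0, ax_ne l1]
      have a2 : p' l = μ l := by rw [hp'v]; simp [ax_ne l2, ax_ne l3]
      rw [mem_supp, huf]
      intro h
      simp only [Pi.sub_apply, Pi.smul_apply, smul_eq_mul, a1, a2, hfo _ l0 l4] at h
      have hmN : m * ((n : F) * (n : F)) = -8 * ((n : F) - 8) := by rw [hm]; field_simp; ring
      have hcN : (2 * (1 + 1) / (n : F)) * (n : F) = 4 := by rw [div_mul_cancel₀ _ hN]; ring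
      have h4 : (4 : F) ≠ 0 := fun e => mul_ne_zero h2 h2 (by linear_combination e)
      exact mul_ne_zero (mul_ne_zero h4 (sub_ne_zero.2 h16)) (hμne l)
        (by linear_combination ((n : F) * (n : F)) * h + μ l * hmN + (n : F) * μ l * hcN)
    · have hp'f : f ⬝ᵥ p' = 0 := by rw [hfp']; ring
      have huf : u.1 f = f - (2 * (-1 + -1) / (n : F)) • p := by
        rw [hu, qAut_mul_apply, refl_apply_fix h2 hp'0 hp'f, refl_apply h2 hp0, hfp, hpp]
      refine hcompl {e 0, e 4} (Finset.card_le_two.trans (by norm_num)) fun l hl => ?_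
      simp only [Finset.mem_insert, Finset.mem_singleton, not_or] at hl
      rw [mem_supp, huf, Pi.sub_apply, hfo _ hl.1 hl.2, Pi.smul_apply, zero_sub, neg_ne_zero, smul_eq_mul]
      refine mul_ne_zero (div_ne_zero (mul_ne_zero h2 ?_) hN) ?_
      · intro e'
        exact h2 (by linear_combination -e')
      · rw [hp]
        intro e'
        have hDl : D.1 μ l * D.1 μ l = 1 := by
          rw [← hp, hpv]
          by_cases hl1 : l = e 1
          · subst hl1
            simp [ax_self, ax_ne hl.1]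
            linear_combination hμ1 (e 1)
          · simp [ax_ne hl.1, ax_ne hl1, hμ1]
        rw [e', mul_zero] at hDl
        exact zero_ne_one hDl
  -- but one sign must give a root
  have hum : ¬ Mono u := fun hm => by
    have h := key 1 (one_mul 1)
    obtain ⟨a, x, hx⟩ := hm (e 0)
    obtain ⟨b, z, hz⟩ := hm (e 4)
    rw [map_add, map_smul, map_smul, hx, hz] at h
    have hs : supp (μ (e 0) • (x • ax a : Fin n → F) + (1 * μ (e 4)) • (z • ax b : Fin n → F)) ⊆ {a, b} :=
      supp_subset fun l hl => by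
        simp only [Finset.mem_insert, Finset.mem_singleton, not_or] at hl
        simp only [Pi.add_apply, Pi.smul_apply, ax_ne hl.1, ax_ne hl.2, smul_zero, add_zero]
    have := Finset.card_le_card hs
    have := Finset.card_le_two (a := a) (b := b)
    omega
  obtain ⟨ε, hε, hroot⟩ := E.root_pair huH hum (hne 0 4 (by decide))
  have hκ : (ε * μ (e 0) * μ (e 4)) * (ε * μ (e 0) * μ (e 4)) = 1 := by
    linear_combination hε + (ε * ε) * hμ1 (e 0) + (ε * ε * (μ (e 0) * μ (e 0))) * hμ1 (e 4)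
  have h := key _ hκ
  have e1 : μ (e 0) • ax (e 0) + (ε * μ (e 0) * μ (e 4) * μ (e 4)) • ax (e 4) =
      μ (e 0) • (ax (e 0) + ε • ax (e 4) : Fin n → F) := by
    rw [smul_add, smul_smul]
    congr 2
    linear_combination (ε * μ (e 0)) * hμ1 (e 4)
  rw [e1, map_smul, supp_smul (hμne _), hroot.card_supp] at h
  omega

/-- In even dimension the group is monomial or everything. -/
theorem Base.even_full_dichotomy (B : Base H) (hn10 : 10 ≤ n) (hn : Even n) (hH : H ≤ eichGroup (sq F n)) :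
    (∀ g ∈ H, Mono g) ∨ eichGroup (sq F n) ≤ H := by
  rcases B.even_dichotomy hn with hstab | hfull
  · refine Or.inl (EvenCtx.all_mono ⟨B, ?_, fun g hg => dt_of_mem_eichGroup B.two (hH hg), hstab⟩)
    omega
  · exact Or.inr hfull

end CfsgLib.Classical22.Frame
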